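import Mathlib

/-! Generating the alternating group by three-cycles supported on a block. -/

namespace CfsgLib.H9.AltGen

open Equiv Equiv.Perm

set_option linter.unusedSectionVars false
set_option linter.unusedVariables false

variable {α : Type*} [Fintype α] [DecidableEq α]

/-- The three-cycle `u ↦ v ↦ w ↦ u`. -/
def c3 (u v w : α) : Perm α := swap u w * swap u v

lemma c3_left {u v w : α} (huv : u ≠ v) (_huw : u ≠ w) (hvw : v ≠ w) : c3 u v w u = v := by
  simp [c3, swap_apply_of_ne_of_ne, huv.symm, hvw]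

lemma c3_mid {u v w : α} (huv : u ≠ v) (_huw : u ≠ w) (_hvw : v ≠ w) : c3 u v w v = w := by
  simp [c3, huv.symm]

lemma c3_right {u v w : α} (_huv : u ≠ v) (huw : u ≠ w) (hvw : v ≠ w) : c3 u v w w = u := by
  simp [c3, swap_apply_of_ne_of_ne, huw.symm, hvw.symm]

lemma c3_fix {u v w x : α} (hu : x ≠ u) (hv : x ≠ v) (hw : x ≠ w) : c3 u v w x = x := by
  simp [c3, swap_apply_of_ne_of_ne, hu, hv, hw]

lemma c3_mem_alt {u v w : α} (huv : u ≠ v) (huw : u ≠ w) : c3 u v w ∈ alternatingGroup α := by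
  rw [Equiv.Perm.mem_alternatingGroup, c3, Perm.sign_mul, sign_swap huv, sign_swap huw]
  simp

lemma c3_isThreeCycle {u v w : α} (huv : u ≠ v) (huw : u ≠ w) (hvw : v ≠ w) :
    (c3 u v w).IsThreeCycle :=
  isThreeCycle_swap_mul_swap_same huw huv hvw.symm

lemma c3_conj (g : Perm α) (u v w : α) : g * c3 u v w * g⁻¹ = c3 (g u) (g v) (g w) := by
  simp only [c3]
  rw [swap_apply_apply g u w, swap_apply_apply g u v]
  group

lemma c3_rot {u v w : α} (huv : u ≠ v) (huw : u ≠ w) (hvw : v ≠ w) : c3 u v w = c3 v w u := by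
  ext x
  by_cases h1 : x = u
  · subst h1
    rw [c3_left huv huw hvw, c3_right hvw huv.symm huw.symm]
  by_cases h2 : x = v
  · subst h2
    rw [c3_mid huv huw hvw, c3_left hvw huv.symm huw.symm]
  by_cases h3 : x = w
  · subst h3
    rw [c3_right huv huw hvw, c3_mid hvw huv.symm huw.symm]
  rw [c3_fix h1 h2 h3, c3_fix h2 h3 h1]

lemma c3_prod {a x y z : α} (hax : a ≠ x) (hay : a ≠ y) (haz : a ≠ z) (hxy : x ≠ y) (hxz : x ≠ z)
    (hyz : y ≠ z) : c3 x y z = c3 a x y * c3 a y z := by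
  ext t
  rw [Perm.mul_apply]
  by_cases h0 : t = a
  · subst h0
    rw [c3_left hay haz hyz, c3_right hax hay hxy, c3_fix hax hay haz]
  by_cases h1 : t = x
  · subst h1
    rw [c3_fix (Ne.symm hax) hxy hxz, c3_left hxy hxz hyz, c3_mid hax hay hxy]
  by_cases h2 : t = y
  · subst h2
    rw [c3_mid hay haz hyz, c3_mid hxy hxz hyz, c3_fix (Ne.symm haz) (Ne.symm hxz) (Ne.symm hyz)]
  by_cases h3 : t = z
  · subst h3
    rw [c3_right hay haz hyz, c3_right hxy hxz hyz, c3_left hax hay hxy]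
  rw [c3_fix h0 h2 h3, c3_fix h1 h2 h3, c3_fix h0 h1 h2]

/-- All three-cycles in `J` give the alternating group. -/
lemma alt_le_of_c3 (J : Subgroup (Perm α))
    (h : ∀ u v w : α, u ≠ v → u ≠ w → v ≠ w → c3 u v w ∈ J) : alternatingGroup α ≤ J := by
  rw [← closure_three_cycles_eq_alternating, Subgroup.closure_le]
  intro σ hσ
  have hσ' : σ.IsThreeCycle := hσ
  have hcard : 2 < σ.support.card := by rw [hσ'.card_support]; norm_num
  obtain ⟨a, b, c, -, -, -, hab, hac, hbc⟩ := Finset.two_lt_card_iff.mp hcard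
  have hτ := c3_isThreeCycle hab hac hbc
  have hconj : IsConj (c3 a b c) σ := by
    rw [isConj_iff_cycleType_eq, hτ, hσ']
  obtain ⟨g, hg⟩ := isConj_iff.mp hconj
  rw [c3_conj] at hg
  rw [SetLike.mem_coe, ← hg]
  apply h
  · exact fun e => hab (g.injective e)
  · exact fun e => hac (g.injective e)
  · exact fun e => hbc (g.injective e)

/-- A permutation fixing the complement of `Y` preserves `Y`. -/
lemma mem_of_fix {Y : Finset α} {g : Perm α} (hg : ∀ x, x ∉ Y → g x = x) {x : α} (hx : x ∈ Y) :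
    g x ∈ Y := by
  by_contra h
  have := hg _ h
  have h2 := g.injective this
  rw [h2] at h
  exact h hx

/-- Move an ordered pair inside `Y`. -/
lemma pair_move (J : Subgroup (Perm α)) (Y : Finset α) (hY : 4 ≤ Y.card)
    (h1 : ∀ u ∈ Y, ∀ v ∈ Y, ∀ w ∈ Y, u ≠ v → u ≠ w → v ≠ w → c3 u v w ∈ J)
    {a b u v : α} (ha : a ∈ Y) (hb : b ∈ Y) (hu : u ∈ Y) (hv : v ∈ Y) (hab : a ≠ b) (huv : u ≠ v) :
    ∃ g ∈ J, (∀ x, x ∉ Y → g x = x) ∧ g a = u ∧ g b = v := by
  -- a third point avoiding any two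
  have third : ∀ p q : α, ∃ t ∈ Y, t ≠ p ∧ t ≠ q := by
    intro p q
    have : 2 < (Y.erase p).card := by
      have := Finset.pred_card_le_card_erase (s := Y) (a := p)
      omega
    have h3 : 1 < ((Y.erase p).erase q).card := by
      have := Finset.pred_card_le_card_erase (s := Y.erase p) (a := q)
      omega
    obtain ⟨t, ht⟩ := Finset.card_pos.mp (by omega : 0 < ((Y.erase p).erase q).card)
    simp only [Finset.mem_erase] at ht
    exact ⟨t, ht.2.2, ht.2.1, ht.1⟩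
  have third3 : ∀ p q r : α, ∃ t ∈ Y, t ≠ p ∧ t ≠ q ∧ t ≠ r := by
    intro p q r
    have h3 : 0 < (((Y.erase p).erase q).erase r).card := by
      have h4 := Finset.pred_card_le_card_erase (s := Y) (a := p)
      have h5 := Finset.pred_card_le_card_erase (s := Y.erase p) (a := q)
      have h6 := Finset.pred_card_le_card_erase (s := (Y.erase p).erase q) (a := r)
      omega
    obtain ⟨t, ht⟩ := Finset.card_pos.mp h3
    simp only [Finset.mem_erase] at ht
    exact ⟨t, ht.2.2.2, ht.2.2.1, ht.2.1, ht.1⟩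
  -- first step
  obtain ⟨g1, hg1, hg1f, hg1a⟩ : ∃ g ∈ J, (∀ x, x ∉ Y → g x = x) ∧ g a = u := by
    by_cases hau : a = u
    · exact ⟨1, J.one_mem, fun x _ => rfl, by simp [hau]⟩
    · obtain ⟨t, ht, h1', h2'⟩ := third a u
      refine ⟨c3 a u t, h1 a ha u hu t ht hau h1'.symm h2'.symm, ?_, c3_left hau h1'.symm h2'.symm⟩
      intro x hx
      apply c3_fix <;> rintro rfl <;> exact hx ‹_›
  -- second step
  have hb' : g1 b ∈ Y := mem_of_fix hg1f hb
  have hb'u : g1 b ≠ u := by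
    rw [← hg1a]
    exact fun e => hab (g1.injective e).symm
  obtain ⟨g2, hg2, hg2f, hg2u, hg2b⟩ : ∃ g ∈ J, (∀ x, x ∉ Y → g x = x) ∧ g u = u ∧ g (g1 b) = v := by
    by_cases hbv : g1 b = v
    · exact ⟨1, J.one_mem, fun x _ => rfl, rfl, by simp [hbv]⟩
    · obtain ⟨t, ht, h1', h2', h3'⟩ := third3 (g1 b) v u
      refine ⟨c3 (g1 b) v t, h1 _ hb' v hv t ht hbv h1'.symm h2'.symm, ?_, ?_,
        c3_left hbv h1'.symm h2'.symm⟩
      · intro x hx
        apply c3_fix <;> rintro rfl <;> exact hx ‹_›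
      · exact c3_fix hb'u.symm huv h3'.symm
  refine ⟨g2 * g1, J.mul_mem hg2 hg1, ?_, ?_, ?_⟩
  · intro x hx
    rw [Perm.mul_apply, hg1f x hx, hg2f x hx]
  · rw [Perm.mul_apply, hg1a, hg2u]
  · rw [Perm.mul_apply, hg2b]

/-- Generation from a block. -/
theorem alt_le_of_block (J : Subgroup (Perm α)) (Y : Finset α) (hY : 4 ≤ Y.card)
    (h1 : ∀ u ∈ Y, ∀ v ∈ Y, ∀ w ∈ Y, u ≠ v → u ≠ w → v ≠ w → c3 u v w ∈ J)
    (h2 : ∀ y, y ∉ Y → ∃ w₁ ∈ Y, ∃ w₂ ∈ Y, w₁ ≠ w₂ ∧ c3 y w₁ w₂ ∈ J) :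
    alternatingGroup α ≤ J := by
  -- all `c3 y u v`
  have h3 : ∀ y, y ∉ Y → ∀ u ∈ Y, ∀ v ∈ Y, u ≠ v → c3 y u v ∈ J := by
    intro y hy u hu v hv huv
    obtain ⟨w₁, hw₁, w₂, hw₂, hw, hc⟩ := h2 y hy
    obtain ⟨g, hg, hgf, hg1, hg2⟩ := pair_move J Y hY h1 hw₁ hw₂ hu hv hw huv
    have := J.mul_mem (J.mul_mem hg hc) (J.inv_mem hg)
    rwa [c3_conj, hgf y hy, hg1, hg2] at this
  -- a base point and two more
  obtain ⟨a, ha⟩ : ∃ a, a ∈ Y := Finset.card_pos.mp (by omega)
  have hfar : ∃ e ∈ Y, ∃ f ∈ Y, e ≠ a ∧ f ≠ a ∧ e ≠ f := by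
    have : 1 < (Y.erase a).card := by
      have := Finset.pred_card_le_card_erase (s := Y) (a := a)
      omega
    obtain ⟨e, he, f, hf, hef⟩ := Finset.one_lt_card.mp this
    simp only [Finset.mem_erase] at he hf
    exact ⟨e, he.2, f, hf.2, he.1, hf.1, hef⟩
  obtain ⟨e, he, f, hf, hea, hfa, hef⟩ := hfar
  -- all three-cycles through `a`
  have h4 : ∀ b c : α, a ≠ b → a ≠ c → b ≠ c → c3 a b c ∈ J := by
    intro b c hab hac hbc
    by_cases hb : b ∈ Y
    · by_cases hc : c ∈ Y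
      · exact h1 a ha b hb c hc hab hac hbc
      · rw [c3_rot hab hac hbc, c3_rot hbc hab.symm hac.symm]
        exact h3 c hc a ha b hb hab
    · by_cases hc : c ∈ Y
      · rw [c3_rot hab hac hbc]
        exact h3 b hb c hc a ha hac.symm
      · -- both outside
        have hbe : b ≠ e := by rintro rfl; exact hb he
        have hbf : b ≠ f := by rintro rfl; exact hb hf
        have hce : c ≠ e := by rintro rfl; exact hc he
        have hcf : c ≠ f := by rintro rfl; exact hc hf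
        have i1 : c3 a b e ∈ J := by
          rw [c3_rot hab hea.symm hbe]
          exact h3 b hb e he a ha hea
        have i2 : c3 e c f ∈ J := by
          rw [c3_rot hce.symm hef hcf, ]
          exact h3 c hc f hf e he hef.symm
        have := J.mul_mem (J.mul_mem i2 i1) (J.inv_mem i2)
        rwa [c3_conj, c3_fix hea.symm hac hfa.symm, c3_fix hbe hbc hbf,
          c3_left hce.symm hef hcf] at this
  -- conclude
  apply alt_le_of_c3
  intro x y z hxy hxz hyz
  by_cases hx : x = a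
  · subst hx
    exact h4 y z hxy hxz hyz
  by_cases hy : y = a
  · subst hy
    rw [c3_rot hxy hxz hyz]
    exact h4 z x hyz hxy.symm hxz.symm
  by_cases hz : z = a
  · subst hz
    rw [c3_rot hxy hxz hyz, c3_rot hyz hxy.symm hxz.symm]
    exact h4 x y hxz.symm hyz.symm hxy
  rw [c3_prod (Ne.symm hx) (Ne.symm hy) (Ne.symm hz) hxy hxz hyz]
  exact J.mul_mem (h4 x y (Ne.symm hx) (Ne.symm hy) hxy) (h4 y z (Ne.symm hy) (Ne.symm hz) hyz)

end CfsgLib.H9.AltGen
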