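import Mathlib

/-! Element orders in alternating groups from cycle types. -/

set_option autoImplicit false
set_option linter.unusedVariables false
set_option linter.style.haveILetI false

namespace CfsgLib.H9.AltOrders

open Equiv.Perm

theorem even_of_mem {n : ℕ} (x : alternatingGroup (Fin n)) :
    Even ((x : Equiv.Perm (Fin n)).cycleType.sum + (x : Equiv.Perm (Fin n)).cycleType.card) := by
  have h1 : Equiv.Perm.sign (x : Equiv.Perm (Fin n)) = 1 := (Equiv.Perm.mem_alternatingGroup).mp x.2
  rw [Equiv.Perm.sign_of_cycleType] at h1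
  by_contra h
  rw [Nat.not_even_iff_odd] at h
  rw [h.neg_one_pow] at h1
  exact absurd h1 (by decide)

theorem exists_elt {n : ℕ} (m : Multiset ℕ) (h1 : m.sum ≤ n) (h2 : ∀ a ∈ m, 2 ≤ a) (h3 : Even (m.sum + Multiset.card m)) :
    m.lcm ∈ Set.range (orderOf : alternatingGroup (Fin n) → ℕ) := by
  classical
  obtain ⟨σ, hσ⟩ := (Equiv.Perm.exists_with_cycleType_iff (Fin n) (m := m)).mpr ⟨by simpa using h1, h2⟩
  have hs : σ ∈ alternatingGroup (Fin n) := by
    rw [Equiv.Perm.mem_alternatingGroup, Equiv.Perm.sign_of_cycleType, hσ, h3.neg_one_pow]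
  refine ⟨⟨σ, hs⟩, ?_⟩
  rw [Subgroup.orderOf_mk, ← Equiv.Perm.lcm_cycleType, hσ]

theorem prime_dvd_lcm {p : ℕ} (hp : p.Prime) {m : Multiset ℕ} (h : p ∣ m.lcm) : ∃ a ∈ m, p ∣ a := by
  induction m using Multiset.induction_on with
  | empty =>
    simp at h
    exact absurd h hp.one_lt.ne'
  | cons a s ih =>
    rw [Multiset.lcm_cons] at h
    rcases (Nat.Prime.dvd_lcm hp).mp h with h1 | h1
    · exact ⟨a, Multiset.mem_cons_self a s, h1⟩
    · obtain ⟨b, hb, hb2⟩ := ih h1
      exact ⟨b, Multiset.mem_cons_of_mem hb, hb2⟩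

theorem add_le_sum {m : Multiset ℕ} {a b : ℕ} (ha : a ∈ m) (hb : b ∈ m) (hne : a ≠ b) : a + b ≤ m.sum := by
  obtain ⟨s, rfl⟩ := Multiset.exists_cons_of_mem ha
  have hb2 : b ∈ s := by
    rcases Multiset.mem_cons.mp hb with h | h
    · exact absurd h.symm hne
    · exact h
  rw [Multiset.sum_cons]
  have := Multiset.le_sum_of_mem hb2
  omega

theorem order_rs (n r s : ℕ) (hr : r.Prime) (hs : s.Prime) (hr2 : r ≠ 2) (hs2 : s ≠ 2) (hrs : r ≠ s) :
    (r * s ∈ Set.range (orderOf : alternatingGroup (Fin n) → ℕ)) ↔ r + s ≤ n := by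
  have hr3 := hr.two_le
  have hs3 := hs.two_le
  constructor
  · rintro ⟨x, hx⟩
    have h1 : (x : Equiv.Perm (Fin n)).cycleType.lcm = r * s := by
      rw [Equiv.Perm.lcm_cycleType, ← Subgroup.orderOf_coe] at *
      exact hx
    obtain ⟨a, ha, hra⟩ := prime_dvd_lcm hr (m := (x : Equiv.Perm (Fin n)).cycleType) (by rw [h1]; exact dvd_mul_right _ _)
    obtain ⟨b, hb, hsb⟩ := prime_dvd_lcm hs (m := (x : Equiv.Perm (Fin n)).cycleType) (by rw [h1]; exact dvd_mul_left _ _)
    have hsum : (x : Equiv.Perm (Fin n)).cycleType.sum ≤ n := by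
      simpa using Equiv.Perm.sum_cycleType_le (x : Equiv.Perm (Fin n))
    have ha2 := Equiv.Perm.two_le_of_mem_cycleType ha
    have hb2 := Equiv.Perm.two_le_of_mem_cycleType hb
    by_cases hab : a = b
    · subst hab
      have hcop : Nat.Coprime r s := (Nat.coprime_primes hr hs).mpr hrs
      have h2 : r * s ∣ a := hcop.mul_dvd_of_dvd_of_dvd hra hsb
      have h3 := Nat.le_of_dvd (by omega) h2
      have h4 := Multiset.le_sum_of_mem ha
      have h5 : r + s ≤ r * s := by
        obtain ⟨r', rfl⟩ : ∃ r', r = r' + 2 := ⟨r - 2, by omega⟩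
        obtain ⟨s', rfl⟩ : ∃ s', s = s' + 2 := ⟨s - 2, by omega⟩
        nlinarith
      omega
    · have h2 := add_le_sum ha hb hab
      have h3 := Nat.le_of_dvd (by omega) hra
      have h4 := Nat.le_of_dvd (by omega) hsb
      omega
  · intro h
    have hcop : Nat.Coprime r s := (Nat.coprime_primes hr hs).mpr hrs
    have h1 := exists_elt (n := n) ({r, s} : Multiset ℕ) (by simpa using h) (by
      intro a ha
      simp only [Multiset.insert_eq_cons, Multiset.mem_cons, Multiset.mem_singleton] at ha
      rcases ha with rfl | rfl <;> omega) (by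
      have hro := hr.odd_of_ne_two hr2
      have hso := hs.odd_of_ne_two hs2
      simp only [Multiset.insert_eq_cons, Multiset.sum_cons, Multiset.sum_singleton, Multiset.card_cons, Multiset.card_singleton]
      obtain ⟨k, hk⟩ := hro
      obtain ⟨l, hl⟩ := hso
      exact ⟨k + l + 2, by omega⟩)
    have h2 : ({r, s} : Multiset ℕ).lcm = r * s := by
      simp only [Multiset.insert_eq_cons, Multiset.lcm_cons, Multiset.lcm_singleton, normalize_eq]
      exact hcop.lcm_eq_mul
    rwa [h2] at h1

theorem parity_filter (m : Multiset ℕ) : Even (m.sum + Multiset.card m) ↔ Even (Multiset.card (m.filter Even)) := by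
  induction m using Multiset.induction_on with
  | empty => simp
  | cons a s ih =>
    rw [Multiset.sum_cons, Multiset.card_cons]
    by_cases ha : Even a
    · rw [Multiset.filter_cons_of_pos _ ha, Multiset.card_cons]
      have e1 : a + s.sum + (Multiset.card s + 1) = a + (s.sum + Multiset.card s) + 1 := by ring
      rw [e1]
      constructor
      · intro h
        rw [Nat.even_add_one] at h ⊢
        intro h2
        apply h
        exact ha.add (ih.mpr h2)
      · intro h
        rw [Nat.even_add_one] at h ⊢
        intro h2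
        apply h
        apply ih.mp
        exact (Nat.even_add.mp h2).mp ha
    · rw [Multiset.filter_cons_of_neg _ ha]
      have ha' : Odd a := Nat.not_even_iff_odd.mp ha
      have e1 : a + s.sum + (Multiset.card s + 1) = (s.sum + Multiset.card s) + (a + 1) := by ring
      rw [e1, ← ih]
      constructor
      · intro h
        exact (Nat.even_add.mp h).mpr ha'.add_one
      · intro h
        exact h.add ha'.add_one

theorem order_2r (n r : ℕ) (hn : 4 ≤ n) (hr : r.Prime) (hr2 : r ≠ 2) :
    (2 * r ∈ Set.range (orderOf : alternatingGroup (Fin n) → ℕ)) ↔ r + 4 ≤ n := by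
  have hr3 : 3 ≤ r := by
    have := hr.two_le
    omega
  have hro := hr.odd_of_ne_two hr2
  constructor
  · rintro ⟨x, hx⟩
    set m := (x : Equiv.Perm (Fin n)).cycleType with hm
    have h1 : m.lcm = 2 * r := by
      rw [hm, Equiv.Perm.lcm_cycleType, ← Subgroup.orderOf_coe] at *
      exact hx
    have hev := (parity_filter m).mp (even_of_mem x)
    obtain ⟨a, ha, hra⟩ := prime_dvd_lcm hr (m := m) (by rw [h1]; exact dvd_mul_left _ _)
    obtain ⟨b, hb, hsb⟩ := prime_dvd_lcm Nat.prime_two (m := m) (by rw [h1]; exact dvd_mul_right _ _)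
    have hsum : m.sum ≤ n := by
      simpa using Equiv.Perm.sum_cycleType_le (x : Equiv.Perm (Fin n))
    have h2le : ∀ c ∈ m, 2 ≤ c := fun c hc => Equiv.Perm.two_le_of_mem_cycleType hc
    have hba : b ∈ m.filter Even := Multiset.mem_filter.mpr ⟨hb, even_iff_two_dvd.mpr hsb⟩
    obtain ⟨E', hE'⟩ := Multiset.exists_cons_of_mem hba
    have hcardE : 2 ≤ Multiset.card (m.filter Even) := by
      have h3 : 0 < Multiset.card (m.filter Even) := Multiset.card_pos_iff_exists_mem.mpr ⟨b, hba⟩
      obtain ⟨k, hk⟩ := hev
      omega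
    have hsplit := Multiset.filter_add_not (fun c => Even c) m
    have hsum2 : (m.filter Even).sum + (m.filter (fun c => ¬ Even c)).sum = m.sum := by
      rw [← Multiset.sum_add, hsplit]
    have hEsum : 2 * Multiset.card (m.filter Even) ≤ (m.filter Even).sum := by
      have := Multiset.card_nsmul_le_sum (s := m.filter Even) (a := 2) (fun c hc => h2le c (Multiset.mem_of_mem_filter hc))
      simpa [mul_comm] using this
    by_cases hae : Even a
    · -- `a` is an even multiple of `r`
      have haE : a ∈ m.filter Even := Multiset.mem_filter.mpr ⟨ha, hae⟩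
      obtain ⟨E'', hE''⟩ := Multiset.exists_cons_of_mem haE
      have h3 : 2 * r ∣ a := by
        have hcop : Nat.Coprime 2 r := (Nat.coprime_primes Nat.prime_two hr).mpr (Ne.symm hr2)
        exact hcop.mul_dvd_of_dvd_of_dvd (even_iff_two_dvd.mp hae) hra
      have h4 := Nat.le_of_dvd (by have := h2le a ha; omega) h3
      have h5 : 0 < Multiset.card E'' := by
        have := congrArg Multiset.card hE''
        rw [Multiset.card_cons] at this
        omega
      obtain ⟨c, hc⟩ := Multiset.card_pos_iff_exists_mem.mp h5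
      have hcE : c ∈ m.filter Even := by
        rw [hE'']
        exact Multiset.mem_cons_of_mem hc
      have hc2 := h2le c (Multiset.mem_of_mem_filter hcE)
      have h6 := Multiset.le_sum_of_mem hc
      have h7 : (m.filter Even).sum = a + E''.sum := by
        rw [hE'', Multiset.sum_cons]
      omega
    · have haO : a ∈ m.filter (fun c => ¬ Even c) := Multiset.mem_filter.mpr ⟨ha, hae⟩
      have h3 := Multiset.le_sum_of_mem haO
      have h4 := Nat.le_of_dvd (by have := h2le a ha; omega) hra
      omega
  · intro h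
    have h1 := exists_elt (n := n) ({r, 2, 2} : Multiset ℕ) (by simpa [add_assoc] using h) (by
      intro a ha
      simp only [Multiset.insert_eq_cons, Multiset.mem_cons, Multiset.mem_singleton] at ha
      rcases ha with rfl | rfl | rfl <;> omega) (by
      simp only [Multiset.insert_eq_cons, Multiset.sum_cons, Multiset.sum_singleton, Multiset.card_cons, Multiset.card_singleton]
      obtain ⟨k, hk⟩ := hro
      exact ⟨k + 4, by omega⟩)
    have h2 : ({r, 2, 2} : Multiset ℕ).lcm = 2 * r := by
      have hcop : Nat.Coprime r 2 := (Nat.coprime_primes hr Nat.prime_two).mpr hr2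
      simp only [Multiset.insert_eq_cons, Multiset.lcm_cons, Multiset.lcm_singleton, normalize_eq]
      have : lcm 2 2 = 2 := by decide
      rw [this]
      show Nat.lcm r 2 = 2 * r
      rw [hcop.lcm_eq_mul, mul_comm]
    rwa [h2] at h1

/-- The enumeration of cycle types. -/
def chk (good : ℕ → Bool) : ℕ → ℕ → ℕ → ℕ → ℕ → Bool
  | 0, _, _, _, _ => false
  | fuel + 1, s, mx, l, par =>
    if mx < 2 then (par % 2 != 0) || good l
    else chk good fuel s (mx - 1) l par &&
      (if mx ≤ s then chk good fuel (s - mx) mx (Nat.lcm l mx) (par + mx + 1) else true)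

theorem chk_sound (good : ℕ → Bool) : ∀ (fuel s mx l par : ℕ), chk good fuel s mx l par = true →
    ∀ m : Multiset ℕ, (∀ a ∈ m, 2 ≤ a ∧ a ≤ mx) → m.sum ≤ s →
      (par + m.sum + Multiset.card m) % 2 = 0 → good (Nat.lcm l m.lcm) = true := by
  intro fuel
  induction fuel with
  | zero =>
    intro s mx l par h
    simp [chk] at h
  | succ fuel ih =>
    intro s mx l par h m hm hs hpar
    rw [chk] at h
    by_cases h1 : mx < 2
    · rw [if_pos h1] at h
      -- `m` is empty
      have h2 : m = 0 := by
        by_contra h3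
        obtain ⟨a, ha⟩ := Multiset.exists_mem_of_ne_zero h3
        have := hm a ha
        omega
      subst h2
      simp only [Multiset.sum_zero, Multiset.card_zero, add_zero] at hpar
      simp only [Bool.or_eq_true, bne_iff_ne] at h
      rcases h with h | h
      · exact absurd hpar h
      · simpa using h
    · rw [if_neg h1, Bool.and_eq_true] at h
      obtain ⟨h2, h3⟩ := h
      by_cases hmx : mx ∈ m
      · obtain ⟨m', rfl⟩ := Multiset.exists_cons_of_mem hmx
        rw [Multiset.sum_cons] at hs hpar
        rw [Multiset.card_cons] at hpar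
        have h4 : mx ≤ s := by omega
        rw [if_pos h4] at h3
        have h5 := ih (s - mx) mx (Nat.lcm l mx) (par + mx + 1) h3 m'
          (fun a ha => hm a (Multiset.mem_cons_of_mem ha)) (by omega) (by omega)
        rw [Multiset.lcm_cons]
        have e : Nat.lcm l (lcm mx m'.lcm) = Nat.lcm (Nat.lcm l mx) m'.lcm := by
          show Nat.lcm l (Nat.lcm mx m'.lcm) = _
          rw [Nat.lcm_assoc]
        rw [e]
        exact h5
      · apply ih s (mx - 1) l par h2 m _ hs hpar
        intro a ha
        have h4 := hm a ha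
        have h5 : a ≠ mx := fun h => hmx (h ▸ ha)
        omega

theorem spectrum_10 : Set.range (orderOf : alternatingGroup (Fin 10) → ℕ) = {1, 2, 3, 4, 5, 6, 7, 8, 9, 10, 12, 15, 21} := by
  apply Set.Subset.antisymm
  · rintro _ ⟨x, rfl⟩
    have hchk : chk (fun n => decide (n ∈ ({1, 2, 3, 4, 5, 6, 7, 8, 9, 10, 12, 15, 21} : Finset ℕ))) 30 10 10 1 0 = true := by
      decide +kernel
    have h1 := chk_sound _ 30 10 10 1 0 hchk (x : Equiv.Perm (Fin 10)).cycleType
      (fun a ha => ⟨Equiv.Perm.two_le_of_mem_cycleType ha, by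
        have h2 := Multiset.le_sum_of_mem ha
        have h3 := Equiv.Perm.sum_cycleType_le (x : Equiv.Perm (Fin 10))
        simp only [Fintype.card_fin] at h3
        omega⟩)
      (by simpa using Equiv.Perm.sum_cycleType_le (x : Equiv.Perm (Fin 10)))
      (by
        have := even_of_mem x
        rw [zero_add]
        exact Nat.even_iff.mp this)
    have e : Nat.lcm 1 (x : Equiv.Perm (Fin 10)).cycleType.lcm = orderOf x := by
      rw [Nat.lcm_comm, Nat.lcm_one_right, Equiv.Perm.lcm_cycleType, Subgroup.orderOf_coe]
    rw [e] at h1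
    simpa using h1
  · intro n hn
    simp only [Set.mem_insert_iff, Set.mem_singleton_iff] at hn
    have key : ∀ (m : Multiset ℕ) (k : ℕ), m.lcm = k → m.sum ≤ 10 → (∀ a ∈ m, 2 ≤ a) →
        Even (m.sum + Multiset.card m) → k ∈ Set.range (orderOf : alternatingGroup (Fin 10) → ℕ) := by
      rintro m k rfl h1 h2 h3
      exact exists_elt m h1 h2 h3
    rcases hn with rfl | rfl | rfl | rfl | rfl | rfl | rfl | rfl | rfl | rfl | rfl | rfl | rfl
    · exact key 0 1 (by simp) (by simp) (by simp) (by simp)
    · exact key {2, 2} 2 (by decide) (by decide) (by decide) (by decide)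
    · exact key {3} 3 (by decide) (by decide) (by decide) (by decide)
    · exact key {4, 2} 4 (by decide) (by decide) (by decide) (by decide)
    · exact key {5} 5 (by decide) (by decide) (by decide) (by decide)
    · exact key {3, 2, 2} 6 (by decide) (by decide) (by decide) (by decide)
    · exact key {7} 7 (by decide) (by decide) (by decide) (by decide)
    · exact key {8, 2} 8 (by decide) (by decide) (by decide) (by decide)
    · exact key {9} 9 (by decide) (by decide) (by decide) (by decide)
    · exact key {5, 2, 2} 10 (by decide) (by decide) (by decide) (by decide)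
    · exact key {4, 3, 2} 12 (by decide) (by decide) (by decide) (by decide)
    · exact key {5, 3} 15 (by decide) (by decide) (by decide) (by decide)
    · exact key {7, 3} 21 (by decide) (by decide) (by decide) (by decide)

end CfsgLib.H9.AltOrders
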