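import Cfsg.Agent.Lib.ClassGeo.Basic

/-! Centralizers of elements of order `p` in `PSL_n(q)`. -/

namespace CfsgLib.H9.CommP

open Module

variable {F : Type*} [Field F] [Fintype F]

theorem not_dvd_card (p r : ℕ) [CharP F p] (hp : p.Prime) (hr : r.Prime) (hrp : r ≠ p) :
    r.Coprime (Fintype.card F) := by
  haveI : Fact p.Prime := ⟨hp⟩
  obtain ⟨f, -, hf⟩ := FiniteField.card F p
  rw [hf]
  exact Nat.Coprime.pow_right _ ((Nat.coprime_primes hr hp).2 hrp)

/-- An element of prime order on a space of dimension `d`. -/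
theorem dvd_of_order {W : Type*} [AddCommGroup W] [Module F W] [FiniteDimensional F W]
    (p r : ℕ) [CharP F p] (hp : p.Prime) (hr : r.Prime) (hrp : r ≠ p)
    (S : End F W) (hS : S ^ r = 1) (hS1 : S ≠ 1) :
    ∃ i, 1 ≤ i ∧ i ≤ finrank F W ∧ r ∣ Fintype.card F ^ i - 1 := by
  classical
  set d := finrank F W with hd
  let b := Module.finBasis F W
  let e := LinearMap.toMatrixAlgEquiv (R := F) b
  let M := e S
  have hM : M ^ r = 1 := by
    change e S ^ r = 1
    rw [← map_pow, hS, map_one]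
  have hM1 : M ≠ 1 := by
    intro h
    apply hS1
    apply e.injective
    rw [map_one]
    exact h
  have hr1 : 1 ≤ r := hr.one_lt.le
  let u : Matrix.GeneralLinearGroup (Fin d) F :=
    ⟨M, M ^ (r - 1), by
      rw [← pow_succ', Nat.sub_add_cancel hr1, hM], by
      rw [← pow_succ, Nat.sub_add_cancel hr1, hM]⟩
  haveI : Fact r.Prime := ⟨hr⟩
  have hu : orderOf u = r := by
    refine orderOf_eq_prime ?_ ?_
    · apply Units.ext
      exact hM
    · intro h
      apply hM1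
      exact congrArg Units.val h
  have h1 : r ∣ Nat.card (Matrix.GeneralLinearGroup (Fin d) F) := hu ▸ orderOf_dvd_natCard u
  rw [Matrix.card_GL_field] at h1
  obtain ⟨j, -, hj⟩ := (Prime.dvd_finset_prod_iff hr.prime _).1 h1
  have hjd : (j : ℕ) < d := j.2
  refine ⟨d - j, by omega, by omega, ?_⟩
  have e1 : Fintype.card F ^ d - Fintype.card F ^ (j : ℕ) =
      Fintype.card F ^ (j : ℕ) * (Fintype.card F ^ (d - j) - 1) := by
    rw [Nat.mul_sub, mul_one, ← pow_add, Nat.add_sub_cancel' hjd.le]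
  rw [e1] at hj
  exact Nat.Coprime.dvd_of_dvd_mul_left
    (Nat.Coprime.pow_right _ (not_dvd_card (F := F) p r hp hr hrp)) hj

/-- Nontrivial action on a section gives an arithmetic condition. -/
theorem factor_step {V : Type*} [AddCommGroup V] [Module F V] [FiniteDimensional F V]
    (p r : ℕ) [CharP F p] (hp : p.Prime) (hr : r.Prime) (hrp : r ≠ p)
    (T : End F V) (hT : T ^ r = 1) (U₁ U₂ : Submodule F V) (hle : U₁ ≤ U₂)
    (h1 : ∀ x ∈ U₁, T x ∈ U₁) (h2 : ∀ x ∈ U₂, T x ∈ U₂) (x₀ : V) (hx₀ : x₀ ∈ U₂) (hx : T x₀ - x₀ ∉ U₁) :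
    ∃ i, 1 ≤ i ∧ i ≤ finrank F U₂ - finrank F U₁ ∧ r ∣ Fintype.card F ^ i - 1 := by
  let C : Submodule F U₂ := U₁.comap U₂.subtype
  let T₂ : End F U₂ := T.restrict h2
  have hT₂ : ∀ k (x : U₂), ((T₂ ^ k) x).1 = (T ^ k) x.1 := by
    intro k x
    induction k with
    | zero => rfl
    | succ k ih =>
      rw [pow_succ', pow_succ', Module.End.mul_apply, Module.End.mul_apply, ← ih]
      rfl
  have hC : C ≤ C.comap T₂ := fun x hx => h1 x.1 hx
  let S : End F (U₂ ⧸ C) := C.mapQ C T₂ hC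
  have hS : S ^ r = 1 := by
    refine LinearMap.ext fun y => ?_
    induction y using Submodule.Quotient.induction_on with
    | H x =>
      have : ∀ k, (S ^ k) (Submodule.Quotient.mk x) = Submodule.Quotient.mk ((T₂ ^ k) x) := by
        intro k
        induction k with
        | zero => rfl
        | succ k ih =>
          rw [pow_succ', pow_succ', Module.End.mul_apply, Module.End.mul_apply, ih]
          rfl
      rw [this]
      have h3 : (T₂ ^ r) x = x := by
        apply Subtype.ext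
        rw [hT₂, hT]
        rfl
      rw [h3]
      rfl
  have hS1 : S ≠ 1 := by
    intro h
    apply hx
    have h3 := congrArg (fun f : End F (U₂ ⧸ C) => f (Submodule.Quotient.mk ⟨x₀, hx₀⟩)) h
    have h4 : (Submodule.Quotient.mk (T₂ ⟨x₀, hx₀⟩) : U₂ ⧸ C) = Submodule.Quotient.mk ⟨x₀, hx₀⟩ := h3
    rw [Submodule.Quotient.eq] at h4
    exact h4
  obtain ⟨i, hi1, hi2, hi3⟩ := dvd_of_order p r hp hr hrp S hS hS1
  refine ⟨i, hi1, ?_, hi3⟩
  have h5 := Submodule.finrank_quotient_add_finrank C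
  have h6 : finrank F C = finrank F U₁ := (Submodule.comapSubtypeEquivOfLe hle).finrank_eq
  omega

/-- The chain argument. -/
theorem chain {V : Type*} [AddCommGroup V] [Module F V] [FiniteDimensional F V]
    (p r : ℕ) [CharP F p] (hp : p.Prime) (hr : r.Prime) (hrp : r ≠ p)
    (N T : End F V) (hN : N ^ p = 0) (hN0 : N ≠ 0) (hc : N * T = T * N) (hT : T ^ r = 1) (hT1 : T ≠ 1)
    (n : ℕ) (hn : finrank F V = n) (n4 : 4 ≤ n) :
    ∃ i, 1 ≤ i ∧ i ≤ n - 2 ∧ r ∣ Fintype.card F ^ i - 1 := by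
  classical
  haveI : Fact p.Prime := ⟨hp⟩
  by_contra hno
  push Not at hno
  have hcomm : ∀ x, N (T x) = T (N x) := fun x => congrArg (fun f : End F V => f x) hc
  let K := LinearMap.ker N
  let I := LinearMap.range N
  have hK : ∀ x ∈ K, T x ∈ K := by
    intro x hx
    rw [LinearMap.mem_ker] at hx ⊢
    rw [hcomm, hx, map_zero]
  have hI : ∀ x ∈ I, T x ∈ I := by
    rintro _ ⟨y, rfl⟩
    exact ⟨T y, hcomm y⟩
  have hinf : ∀ x ∈ K ⊓ I, T x ∈ K ⊓ I := fun x hx => ⟨hK x hx.1, hI x hx.2⟩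
  have hsup : ∀ x ∈ K ⊔ I, T x ∈ K ⊔ I := by
    intro x hx
    obtain ⟨k, hk, i, hi, rfl⟩ := Submodule.mem_sup.1 hx
    rw [map_add]
    exact Submodule.add_mem_sup (hK k hk) (hI i hi)
  have hbot : ∀ x ∈ (⊥ : Submodule F V), T x ∈ (⊥ : Submodule F V) := by
    intro x hx
    rw [Submodule.mem_bot] at hx ⊢
    rw [hx, map_zero]
  have htop : ∀ x ∈ (⊤ : Submodule F V), T x ∈ (⊤ : Submodule F V) := fun _ _ => Submodule.mem_top
  -- dimensions
  have d1 : finrank F I + finrank F K = n := by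
    rw [← hn]; exact LinearMap.finrank_range_add_finrank_ker N
  have d2 := Submodule.finrank_sup_add_finrank_inf_eq K I
  have d3 : finrank F (K ⊓ I : Submodule F V) ≤ finrank F K := Submodule.finrank_mono inf_le_left
  have d4 : finrank F (K ⊓ I : Submodule F V) ≤ finrank F I := Submodule.finrank_mono inf_le_right
  have d5 : finrank F K ≤ finrank F (K ⊔ I : Submodule F V) := Submodule.finrank_mono le_sup_left
  have d6 : finrank F (K ⊔ I : Submodule F V) ≤ n := by
    rw [← hn]; exact Submodule.finrank_le _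
  have hne : K ⊓ I ≠ ⊥ := by
    obtain ⟨v, hv⟩ : ∃ v, N v ≠ 0 := by
      by_contra h
      push Not at h
      exact hN0 (LinearMap.ext h)
    have hex : ∃ j, (N ^ (j + 1)) v = 0 := ⟨p - 1, by
      rw [Nat.sub_add_cancel hp.one_lt.le, hN]; rfl⟩
    have hj := Nat.find_spec hex
    have hmin := fun k (hk : k < Nat.find hex) => Nat.find_min hex hk
    set j := Nat.find hex with hjdef
    have hj0 : j ≠ 0 := by
      intro h
      rw [h] at hj
      exact hv (by simpa using hj)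
    obtain ⟨j', hj'⟩ : ∃ j', j = j' + 1 := ⟨j - 1, by omega⟩
    have hy : (N ^ (j' + 1)) v ≠ 0 := hmin j' (by omega)
    have hy1 : (N ^ (j' + 1)) v ∈ K ⊓ I := by
      constructor
      · change N ((N ^ (j' + 1)) v) = 0
        rw [← Module.End.mul_apply, ← pow_succ']
        rw [hj'] at hj
        exact hj
      · refine ⟨(N ^ j') v, ?_⟩
        rw [← Module.End.mul_apply, ← pow_succ']
    intro h
    rw [h, Submodule.mem_bot] at hy1
    exact hy hy1
  have d7 : 1 ≤ finrank F (K ⊓ I : Submodule F V) := Submodule.one_le_finrank_iff.2 hne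
  -- each section is trivial
  have step : ∀ U₁ U₂ : Submodule F V, U₁ ≤ U₂ → (∀ x ∈ U₁, T x ∈ U₁) → (∀ x ∈ U₂, T x ∈ U₂) →
      finrank F U₂ - finrank F U₁ ≤ n - 2 → ∀ x ∈ U₂, T x - x ∈ U₁ := by
    intro U₁ U₂ hle h1 h2 hd x hx
    by_contra hx'
    obtain ⟨i, hi1, hi2, hi3⟩ := factor_step p r hp hr hrp T hT U₁ U₂ hle h1 h2 x hx hx'
    exact hno i hi1 (hi2.trans hd) hi3
  have s1 := step ⊥ (K ⊓ I) bot_le hbot hinf (by simp; omega)
  have s2 := step (K ⊓ I) K inf_le_left hinf hK (by omega)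
  have s3 := step K (K ⊔ I) le_sup_left hK hsup (by omega)
  have s4 := step (K ⊔ I) ⊤ le_top hsup htop (by rw [finrank_top, hn]; omega)
  have hS4 : (T - 1) ^ 4 = 0 := by
    refine LinearMap.ext fun x => ?_
    have a1 : (T - 1) x ∈ K ⊔ I := s4 x Submodule.mem_top
    have a2 : (T - 1) ((T - 1) x) ∈ K := s3 _ a1
    have a3 : (T - 1) ((T - 1) ((T - 1) x)) ∈ K ⊓ I := s2 _ a2
    have a4 : (T - 1) ((T - 1) ((T - 1) ((T - 1) x))) ∈ (⊥ : Submodule F V) := s1 _ a3
    rw [Submodule.mem_bot] at a4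
    simpa [pow_succ] using a4
  -- Frobenius
  haveI : Nontrivial V := by
    apply Module.nontrivial_of_finrank_pos (R := F)
    omega
  haveI : CharP (End F V) p :=
    charP_of_injective_ringHom (algebraMap F (End F V)).injective p
  have h5 : (T - 1) ^ (p ^ 2) = T ^ (p ^ 2) - 1 ^ (p ^ 2) :=
    sub_pow_char_pow_of_commute p 2 (Commute.one_right T)
  have hp4 : 4 ≤ p ^ 2 := by
    have := hp.two_le
    nlinarith
  have h6 : (T - 1) ^ (p ^ 2) = 0 := by
    rw [← Nat.sub_add_cancel hp4, pow_add, hS4, mul_zero]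
  have h7 : T ^ (p ^ 2) = 1 := by
    rw [h6, one_pow] at h5
    exact (sub_eq_zero.1 h5.symm)
  have h8 : orderOf T ∣ p ^ 2 := orderOf_dvd_of_pow_eq_one h7
  have h9 : orderOf T ∣ r := orderOf_dvd_of_pow_eq_one hT
  have h10 : orderOf T ∣ Nat.gcd (p ^ 2) r := Nat.dvd_gcd h8 h9
  have h11 : Nat.gcd (p ^ 2) r = 1 :=
    Nat.Coprime.pow_left _ ((Nat.coprime_primes hp hr).2 hrp.symm)
  rw [h11, Nat.dvd_one, orderOf_eq_one_iff] at h10
  exact hT1 h10

/-- Arithmetic of `|SL_m(q)|`. -/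
theorem dvd_SL_of_dvd_pow (r m i : ℕ) (hr : r.Prime) (hm : 2 ≤ m) (hi1 : 1 ≤ i) (him : i ≤ m)
    (h : r ∣ Fintype.card F ^ i - 1) (hq : ¬ r ∣ Fintype.card F - 1) :
    r ∣ Nat.card (Matrix.SpecialLinearGroup (Fin m) F) := by
  have h1 := CfsgLib.ClassGeo.q_sub_one_mul_card_SL (F := F) rfl m (by omega)
  have h2 : r ∣ ∏ j : Fin m, (Fintype.card F ^ m - Fintype.card F ^ (j : ℕ)) := by
    refine Dvd.dvd.trans ?_ (Finset.dvd_prod_of_mem _ (Finset.mem_univ (⟨m - i, by omega⟩ : Fin m)))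
    have e1 : Fintype.card F ^ m - Fintype.card F ^ (m - i) =
        Fintype.card F ^ (m - i) * (Fintype.card F ^ i - 1) := by
      rw [Nat.mul_sub, mul_one, ← pow_add, Nat.sub_add_cancel him]
    change r ∣ Fintype.card F ^ m - Fintype.card F ^ (m - i)
    rw [e1]
    exact Dvd.dvd.mul_left h _
  rw [← h1] at h2
  exact (hr.dvd_mul.1 h2).resolve_left hq

theorem dvd_SL_of_dvd_q (r m : ℕ) (hm : 2 ≤ m) (h : r ∣ Fintype.card F - 1) :
    r ∣ Nat.card (Matrix.SpecialLinearGroup (Fin m) F) := by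
  refine h.trans ?_
  have h1 := CfsgLib.ClassGeo.q_sub_one_mul_card_SL (F := F) rfl m (by omega)
  obtain ⟨k, rfl⟩ : ∃ k, m = k + 2 := ⟨m - 2, by omega⟩
  rw [Fin.prod_univ_succ, Fin.prod_univ_succ] at h1
  set q := Fintype.card F with hq
  have hq2 : 2 ≤ q := Fintype.one_lt_card
  simp only [Fin.val_zero, pow_zero, Fin.val_succ, zero_add, pow_one] at h1
  obtain ⟨A, hA⟩ : q - 1 ∣ q ^ (k + 2) - 1 := by
    simpa only [one_pow] using Nat.sub_dvd_pow_sub_pow q 1 (k + 2)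
  obtain ⟨B, hB⟩ : q - 1 ∣ q ^ (k + 2) - q := by
    have e : q ^ (k + 2) - q = q * (q ^ (k + 1) - 1) := by
      rw [Nat.mul_sub, mul_one, pow_succ' q (k + 1)]
    rw [e]
    refine Dvd.dvd.mul_left ?_ _
    simpa only [one_pow] using Nat.sub_dvd_pow_sub_pow q 1 (k + 1)
  rw [hA, hB] at h1
  have hpos : 0 < q - 1 := by omega
  have h2 : Nat.card (Matrix.SpecialLinearGroup (Fin (k + 2)) F) =
      A * ((q - 1) * B * ∏ i : Fin k, (q ^ (k + 2) - q ^ ((i : ℕ) + 1 + 1))) := by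
    apply Nat.eq_of_mul_eq_mul_left hpos
    rw [h1]
    ring
  rw [h2]
  exact Dvd.dvd.mul_left (Dvd.dvd.mul_right (Dvd.intro _ rfl) _) _

theorem dvd_SL_p (p m : ℕ) [CharP F p] (hp : p.Prime) (hm : 2 ≤ m) :
    p ∣ Nat.card (Matrix.SpecialLinearGroup (Fin m) F) := by
  haveI : Fact p.Prime := ⟨hp⟩
  have h1 := CfsgLib.ClassGeo.q_sub_one_mul_card_SL (F := F) rfl m (by omega)
  obtain ⟨f, -, hf⟩ := FiniteField.card F p
  have hpq : p ∣ Fintype.card F := by
    rw [hf]; exact dvd_pow_self _ f.pos.ne'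
  have hq2 : 2 ≤ Fintype.card F := Fintype.one_lt_card
  have hnot : ¬ p ∣ Fintype.card F - 1 := by
    intro h
    have h3 := Nat.dvd_sub hpq h
    have e : Fintype.card F - (Fintype.card F - 1) = 1 := by omega
    rw [e] at h3
    exact hp.one_lt.ne' (Nat.dvd_one.1 h3)
  have h2 : p ∣ ∏ j : Fin m, (Fintype.card F ^ m - Fintype.card F ^ (j : ℕ)) := by
    refine Dvd.dvd.trans ?_ (Finset.dvd_prod_of_mem _ (Finset.mem_univ (⟨1, by omega⟩ : Fin m)))
    change p ∣ Fintype.card F ^ m - Fintype.card F ^ 1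
    exact Nat.dvd_sub (hpq.trans (dvd_pow_self _ (by omega))) (by simpa using hpq)
  rw [← h1] at h2
  exact (hp.dvd_mul.1 h2).resolve_left hnot

/-- The matrix form of the main argument. -/
theorem key_matrix (p r n : ℕ) [Fact p.Prime] [CharP F p] (hr : r.Prime) (hrp : r ≠ p) (hn : 4 ≤ n)
    (hq : ¬ r ∣ Fintype.card F - 1)
    (X Y : Matrix (Fin n) (Fin n) F) (l c v : F) (hl : l ≠ 0) (hv : v ≠ 0)
    (hXp : X ^ p = l • 1) (hXs : ∀ μ : F, X ≠ μ • 1)
    (hc : X * Y = c • (Y * X)) (hYr : Y ^ r = v • 1) (hYs : ∀ μ : F, Y ≠ μ • 1) (hY0 : Y ≠ 0) :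
    ∃ i, 1 ≤ i ∧ i ≤ n - 2 ∧ r ∣ Fintype.card F ^ i - 1 := by
  classical
  have hp : p.Prime := Fact.out
  haveI : Nonempty (Fin n) := ⟨⟨0, by omega⟩⟩
  haveI : CharP (Matrix (Fin n) (Fin n) F) p := Matrix.charP _
  -- normalising `X`
  obtain ⟨μ, hμ⟩ : ∃ μ : F, μ ^ p = l := ⟨(frobeniusEquiv F p).symm l, frobeniusEquiv_symm_pow_p F p l⟩
  have hμ0 : μ ≠ 0 := by
    rintro rfl
    rw [zero_pow hp.ne_zero] at hμ
    exact hl hμ.symm
  set A : Matrix (Fin n) (Fin n) F := μ⁻¹ • X with hA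
  have hAp : A ^ p = 1 := by
    rw [hA, smul_pow, hXp, smul_smul, inv_pow, hμ, inv_mul_cancel₀ hl, one_smul]
  set N := A - 1 with hN
  have hNp : N ^ p = 0 := by
    rw [hN, sub_pow_char_of_commute p (Commute.one_right A), hAp, one_pow, sub_self]
  have hN0 : N ≠ 0 := by
    intro h
    have h1 : A = 1 := sub_eq_zero.1 h
    apply hXs μ
    rw [← h1, hA, smul_smul, mul_inv_cancel₀ hμ0, one_smul]
  -- commutation
  have hc1 : A * Y = c • (Y * A) := by
    rw [hA, smul_mul_assoc, hc, mul_smul_comm, smul_comm]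
  have hck : ∀ k : ℕ, A ^ k * Y = c ^ k • (Y * A ^ k) := by
    intro k
    induction k with
    | zero => simp
    | succ k ih =>
      rw [pow_succ, mul_assoc, hc1, mul_smul_comm, ← mul_assoc, ih, smul_mul_assoc, smul_smul, mul_assoc]
      congr 1
      ring
  have hcp : c ^ p = 1 := by
    have h1 := hck p
    rw [hAp, one_mul, mul_one] at h1
    have h2 : (c ^ p - 1) • Y = 0 := by
      rw [sub_smul, one_smul, ← h1, sub_self]
    rcases smul_eq_zero.1 h2 with h3 | h3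
    · exact sub_eq_zero.1 h3
    · exact absurd h3 hY0
  have hc1' : c = 1 := by
    have h1 : (c - 1) ^ p = 0 := by
      rw [sub_pow_char, hcp, one_pow, sub_self]
    exact sub_eq_zero.1 (pow_eq_zero_iff hp.ne_zero |>.1 h1)
  rw [hc1', one_smul] at hc1
  have hNY : N * Y = Y * N := by
    rw [hN, sub_mul, mul_sub, hc1, one_mul, mul_one]
  -- normalising `Y`
  obtain ⟨v₀, hv₀, hv₀r⟩ : ∃ v₀ : F, v₀ ≠ 0 ∧ v₀ ^ r = v := by
    let u : Fˣ := Units.mk0 v hv
    have h1 : orderOf u ∣ Fintype.card F - 1 := by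
      refine orderOf_dvd_of_pow_eq_one ?_
      exact Units.ext (by simpa [u] using FiniteField.pow_card_sub_one_eq_one v hv)
    have h2 : r.Coprime (orderOf u) := by
      refine (Nat.Prime.coprime_iff_not_dvd hr).2 fun h => hq (h.trans h1)
    obtain ⟨m, hm⟩ := exists_pow_eq_self_of_coprime h2
    refine ⟨((u ^ m : Fˣ) : F), Units.ne_zero _, ?_⟩
    have h3 : (u ^ m) ^ r = u := by
      rw [← pow_mul, mul_comm, pow_mul]; exact hm
    have := congrArg (Units.val) h3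
    simpa [u] using this
  set T : Matrix (Fin n) (Fin n) F := v₀⁻¹ • Y with hT
  have hTr : T ^ r = 1 := by
    rw [hT, smul_pow, hYr, smul_smul, inv_pow, hv₀r, inv_mul_cancel₀ hv, one_smul]
  have hT1 : T ≠ 1 := by
    intro h
    apply hYs v₀
    rw [← h, hT, smul_smul, mul_inv_cancel₀ hv₀, one_smul]
  have hNT : N * T = T * N := by
    rw [hT, mul_smul_comm, smul_mul_assoc, hNY]
  -- apply the chain lemma
  let e := Matrix.toLinAlgEquiv' (R := F) (n := Fin n)
  refine chain p r hp hr hrp (e N) (e T) ?_ ?_ ?_ ?_ ?_ n ?_ hn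
  · rw [← map_pow, hNp, map_zero]
  · intro h
    apply hN0
    apply e.injective
    rw [h, map_zero]
  · rw [← map_mul, ← map_mul, hNT]
  · rw [← map_pow, hTr, map_one]
  · intro h
    apply hT1
    apply e.injective
    rw [h, map_one]
  · exact Module.finrank_fin_fun F

/-- The main theorem. -/
theorem main_2364 (p : ℕ) [Fact p.Prime] [CharP F p] (n : ℕ) (hn : 4 ≤ n)
    (a b : Matrix.ProjectiveSpecialLinearGroup (Fin n) F) (ha : orderOf a = p) (hab : Commute a b) :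
    (orderOf b).primeFactors ⊆ (Nat.card (Matrix.SpecialLinearGroup (Fin (n - 2)) F)).primeFactors := by
  classical
  intro r hr
  have hp : p.Prime := Fact.out
  have hrp : r.Prime := Nat.prime_of_mem_primeFactors hr
  have hrb : r ∣ orderOf b := Nat.dvd_of_mem_primeFactors hr
  haveI : Fact r.Prime := ⟨hrp⟩
  haveI : NeZero n := ⟨by omega⟩
  haveI : Nonempty (Fin n) := ⟨⟨0, by omega⟩⟩
  refine Nat.mem_primeFactors.2 ⟨hrp, ?_, Nat.card_pos.ne'⟩
  have hm : 2 ≤ n - 2 := by omega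
  by_cases h1 : r = p
  · subst h1; exact dvd_SL_p r _ hp hm
  by_cases h2 : r ∣ Fintype.card F - 1
  · exact dvd_SL_of_dvd_q r _ hm h2
  -- lifts
  obtain ⟨x, rfl⟩ := QuotientGroup.mk_surjective a
  obtain ⟨y₀, rfl⟩ := QuotientGroup.mk_surjective b
  set Z := Subgroup.center (Matrix.SpecialLinearGroup (Fin n) F) with hZ
  have hobne : orderOf ((y₀ : Matrix.SpecialLinearGroup (Fin n) F ⧸ Z)) ≠ 0 :=
    (orderOf_pos _).ne'
  set k := orderOf ((y₀ : Matrix.SpecialLinearGroup (Fin n) F ⧸ Z)) / r with hk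
  have hord : orderOf (((y₀ ^ k : Matrix.SpecialLinearGroup (Fin n) F) :
      Matrix.SpecialLinearGroup (Fin n) F ⧸ Z)) = r := by
    rw [QuotientGroup.mk_pow]
    exact orderOf_pow_orderOf_div hobne hrb
  set y := y₀ ^ k with hy
  have hxp : x ^ p ∈ Z := by
    rw [← QuotientGroup.eq_one_iff, QuotientGroup.mk_pow, ← ha]
    exact pow_orderOf_eq_one _
  have hxZ : x ∉ Z := by
    intro h
    have : ((x : Matrix.SpecialLinearGroup (Fin n) F ⧸ Z)) = 1 := (QuotientGroup.eq_one_iff _).2 h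
    have h3 : orderOf ((x : Matrix.SpecialLinearGroup (Fin n) F ⧸ Z)) = 1 := by
      rw [this, orderOf_one]
    rw [ha] at h3
    exact hp.one_lt.ne' h3
  have hyr : y ^ r ∈ Z := by
    rw [← QuotientGroup.eq_one_iff, QuotientGroup.mk_pow]
    conv_lhs => rw [← hord]
    exact pow_orderOf_eq_one _
  have hyZ : y ∉ Z := by
    intro h
    have : ((y : Matrix.SpecialLinearGroup (Fin n) F ⧸ Z)) = 1 := (QuotientGroup.eq_one_iff _).2 h
    rw [this, orderOf_one] at hord
    exact hrp.one_lt.ne' hord.symm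
  have hxy : (y * x)⁻¹ * (x * y) ∈ Z := by
    have h3 : Commute ((x : Matrix.SpecialLinearGroup (Fin n) F ⧸ Z)) (y : Matrix.SpecialLinearGroup (Fin n) F ⧸ Z) := by
      rw [hy, QuotientGroup.mk_pow]
      exact hab.pow_right _
    have h4 : ((y * x : Matrix.SpecialLinearGroup (Fin n) F) : Matrix.SpecialLinearGroup (Fin n) F ⧸ Z) =
        ((x * y : Matrix.SpecialLinearGroup (Fin n) F) : Matrix.SpecialLinearGroup (Fin n) F ⧸ Z) := by
      rw [QuotientGroup.mk_mul, QuotientGroup.mk_mul]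
      exact h3.symm.eq
    exact QuotientGroup.eq.1 h4
  -- matrices
  have hcenter : ∀ g : Matrix.SpecialLinearGroup (Fin n) F, g ∈ Z → ∃ l : F, l ≠ 0 ∧ g.1 = l • 1 := by
    intro g hg
    obtain ⟨l, hl1, hl2⟩ := Matrix.SpecialLinearGroup.mem_center_iff.1 hg
    refine ⟨l, ?_, ?_⟩
    · rintro rfl
      rw [zero_pow (by simp; omega)] at hl1
      exact zero_ne_one hl1
    · have h3 : g.1 = Matrix.scalar (Fin n) l := hl2.symm
      rw [h3, Matrix.smul_one_eq_diagonal]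
      rfl
  have hscal : ∀ g : Matrix.SpecialLinearGroup (Fin n) F, ∀ μ : F, g.1 = μ • 1 → g ∈ Z := by
    intro g μ hg
    refine Subgroup.mem_center_iff.2 fun h => Subtype.ext ?_
    change h.1 * g.1 = g.1 * h.1
    rw [hg, mul_smul_comm, smul_mul_assoc, mul_one, one_mul]
  obtain ⟨l, hl0, hl⟩ := hcenter _ hxp
  obtain ⟨v, hv0, hv⟩ := hcenter _ hyr
  obtain ⟨c, -, hc⟩ := hcenter _ hxy
  have hXp : x.1 ^ p = l • 1 := by
    rw [← hl]; rfl
  have hYr : y.1 ^ r = v • 1 := by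
    rw [← hv]; rfl
  have hxyc : x.1 * y.1 = c • (y.1 * x.1) := by
    have h3 : x * y = y * x * ((y * x)⁻¹ * (x * y)) := by group
    have h4 : (x * y).1 = (y * x * ((y * x)⁻¹ * (x * y))).1 := congrArg Subtype.val h3
    change x.1 * y.1 = (y.1 * x.1) * ((y * x)⁻¹ * (x * y)).1 at h4
    rw [hc, mul_smul_comm, mul_one] at h4
    exact h4
  have hY0 : y.1 ≠ 0 := by
    intro h
    have h3 : (y.1).det = 1 := y.2
    rw [h, Matrix.det_zero] at h3
    exact zero_ne_one h3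
  obtain ⟨i, hi1, hi2, hi3⟩ := key_matrix p r n hrp h1 hn h2 x.1 y.1 l c v hl0 hv0 hXp
    (fun μ h => hxZ (hscal x μ h)) hxyc hYr (fun μ h => hyZ (hscal y μ h)) hY0
  exact dvd_SL_of_dvd_pow r _ i hrp hm hi1 hi2 hi3 h2

end CfsgLib.H9.CommP
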