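import Mathlib

/-! The symmetric group as the Coxeter group of type `A_n`. -/

set_option autoImplicit false
set_option linter.unusedVariables false
set_option linter.unusedSectionVars false
set_option linter.unusedSimpArgs false

namespace CfsgLib.H9.CoxA

section Abstract

variable {W : Type*} [Group W] (r : ℕ → W) (n : ℕ)

/-- The coset representatives `r_n r_{n-1} ⋯`. -/
def c : ℕ → W
  | 0 => 1
  | k + 1 => c k * r (n - k)

variable {r n}

theorem comm_c (hfar : ∀ i j, i + 2 ≤ j → r i * r j = r j * r i) :
    ∀ k i, i + 1 + k < n + 1 → r i * c r n k = c r n k * r i := by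
  intro k
  induction k with
  | zero =>
    intro i _
    simp [c]
  | succ k ih =>
    intro i hi
    simp only [c]
    rw [← mul_assoc, ih i (by omega), mul_assoc, hfar i (n - k) (by omega), mul_assoc]

theorem shift_c (hfar : ∀ i j, i + 2 ≤ j → r i * r j = r j * r i)
    (hbr : ∀ i, i < n → r i * r (i + 1) * r i = r (i + 1) * r i * r (i + 1)) :
    ∀ k, k ≤ n + 1 → ∀ i, n + 1 < i + k → i ≤ n → c r n k * r i = r (i - 1) * c r n k := by
  intro k
  induction k with
  | zero =>
    intro _ i h1 h2
    omega
  | succ k ih =>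
    intro hk i h1 h2
    by_cases h3 : n + 1 < i + k
    · simp only [c]
      rw [mul_assoc, hfar (n - k) i (by omega), ← mul_assoc, ih (by omega) i h3 h2, mul_assoc]
    · obtain ⟨k', rfl⟩ : ∃ k', k = k' + 1 := ⟨k - 1, by omega⟩
      obtain ⟨j, rfl⟩ : ∃ j, n = j + 1 + k' := ⟨n - (k' + 1), by omega⟩
      obtain rfl : i = j + 1 := by omega
      have e1 : j + 1 + k' - k' = j + 1 := by omega
      have e2 : j + 1 + k' - (k' + 1) = j := by omega
      have e3 : j + 1 - 1 = j := by omega
      simp only [c]
      rw [e1, e2, e3]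
      have h5 := hbr j (by omega)
      have h6 := comm_c (n := j + 1 + k') hfar k' j (by omega)
      set C := c r (j + 1 + k') k' with hC
      calc C * r (j + 1) * r j * r (j + 1)
          = C * (r (j + 1) * r j * r (j + 1)) := by simp only [mul_assoc]
        _ = C * (r j * r (j + 1) * r j) := by rw [h5]
        _ = (C * r j) * (r (j + 1) * r j) := by simp only [mul_assoc]
        _ = (r j * C) * (r (j + 1) * r j) := by rw [h6]
        _ = _ := by simp only [mul_assoc]

theorem closed_c (hsq : ∀ i, r i * r i = 1) (hfar : ∀ i j, i + 2 ≤ j → r i * r j = r j * r i)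
    (hbr : ∀ i, i < n → r i * r (i + 1) * r i = r (i + 1) * r i * r (i + 1))
    (H : Subgroup W) (hH : ∀ i, i < n → r i ∈ H) (x : W) (hx : ∃ h ∈ H, ∃ k, k ≤ n + 1 ∧ x = h * c r n k)
    (i : ℕ) (hi : i ≤ n) : ∃ h ∈ H, ∃ k, k ≤ n + 1 ∧ x * r i = h * c r n k := by
  obtain ⟨h, hh, k, hk, rfl⟩ := hx
  by_cases h1 : i + 1 + k < n + 1
  · refine ⟨h * r i, H.mul_mem hh (hH i (by omega)), k, hk, ?_⟩
    rw [mul_assoc, mul_assoc, comm_c hfar k i h1]
  by_cases h2 : i + 1 + k = n + 1
  · refine ⟨h, hh, k + 1, by omega, ?_⟩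
    simp only [c]
    have : n - k = i := by omega
    rw [this, mul_assoc]
  by_cases h3 : i + k = n + 1
  · obtain ⟨k', rfl⟩ : ∃ k', k = k' + 1 := ⟨k - 1, by omega⟩
    refine ⟨h, hh, k', by omega, ?_⟩
    simp only [c]
    have : n - k' = i := by omega
    rw [this, mul_assoc, mul_assoc, hsq, mul_one]
  · refine ⟨h * r (i - 1), H.mul_mem hh (hH _ (by omega)), k, hk, ?_⟩
    rw [mul_assoc, shift_c hfar hbr k hk i (by omega) hi, mul_assoc]

end Abstract

/-- The simple reflections indexed by all natural numbers. -/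
noncomputable def rr (n : ℕ) (i : ℕ) : (CoxeterMatrix.A n).Group :=
  if h : i < n then (CoxeterMatrix.A n).simple ⟨i, h⟩ else 1

theorem rr_sq (n i : ℕ) : rr n i * rr n i = 1 := by
  unfold rr
  split_ifs with h
  · exact (CoxeterMatrix.A n).toCoxeterSystem.simple_mul_simple_self _
  · simp

theorem rr_far (n i j : ℕ) (h2 : i + 2 ≤ j) : rr n i * rr n j = rr n j * rr n i := by
  unfold rr
  split_ifs with h h3 h3
  · have h5 := (CoxeterMatrix.A n).toCoxeterSystem.simple_mul_simple_pow ⟨i, h⟩ ⟨j, h3⟩
    have h6 : (CoxeterMatrix.A n) ⟨i, h⟩ ⟨j, h3⟩ = 2 := by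
      show Matrix.of _ _ _ = 2
      simp only [Matrix.of_apply, Fin.mk.injEq]
      rw [if_neg (by omega), if_neg (by omega)]
    rw [h6] at h5
    have h7 := (CoxeterMatrix.A n).toCoxeterSystem.simple_mul_simple_self ⟨i, h⟩
    have h8 := (CoxeterMatrix.A n).toCoxeterSystem.simple_mul_simple_self ⟨j, h3⟩
    simp only [CoxeterMatrix.toCoxeterSystem_simple] at h5 h7 h8
    set a := (CoxeterMatrix.A n).simple ⟨i, h⟩
    set b := (CoxeterMatrix.A n).simple ⟨j, h3⟩
    have ha : a⁻¹ = a := inv_eq_of_mul_eq_one_left h7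
    have hb : b⁻¹ = b := inv_eq_of_mul_eq_one_left h8
    have h9 : (a * b) * (a * b) = 1 := by rw [← sq]; exact h5
    have h10 : a * b = (a * b)⁻¹ := eq_inv_of_mul_eq_one_left h9
    rw [mul_inv_rev, ha, hb] at h10
    exact h10
  · simp
  · simp
  · simp

theorem rr_braid (n i : ℕ) (h : i + 1 < n) : rr n i * rr n (i + 1) * rr n i = rr n (i + 1) * rr n i * rr n (i + 1) := by
  unfold rr
  rw [dif_pos (by omega : i < n), dif_pos h]
  have hi : i < n := by omega
  have h5 := (CoxeterMatrix.A n).toCoxeterSystem.simple_mul_simple_pow ⟨i, hi⟩ ⟨i + 1, h⟩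
  have h6 : (CoxeterMatrix.A n) ⟨i, hi⟩ ⟨i + 1, h⟩ = 3 := by
    show Matrix.of _ _ _ = 3
    simp
  rw [h6] at h5
  have h7 := (CoxeterMatrix.A n).toCoxeterSystem.simple_mul_simple_self ⟨i, hi⟩
  have h8 := (CoxeterMatrix.A n).toCoxeterSystem.simple_mul_simple_self ⟨i + 1, h⟩
  simp only [CoxeterMatrix.toCoxeterSystem_simple] at h5 h7 h8
  set a := (CoxeterMatrix.A n).simple ⟨i, hi⟩
  set b := (CoxeterMatrix.A n).simple ⟨i + 1, h⟩
  have ha : a⁻¹ = a := inv_eq_of_mul_eq_one_left h7
  have hb : b⁻¹ = b := inv_eq_of_mul_eq_one_left h8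
  have h9 : (a * b * a) * (b * a * b) = 1 := by
    have : (a * b * a) * (b * a * b) = (a * b) ^ 3 := by simp only [pow_succ, pow_zero, one_mul, mul_assoc]
    rw [this, h5]
  have h10 := eq_inv_of_mul_eq_one_left h9
  rw [h10]
  simp only [mul_inv_rev, ha, hb, mul_assoc]

theorem emb_liftable (n : ℕ) : (CoxeterMatrix.A n).IsLiftable (fun i : Fin n => (CoxeterMatrix.A (n + 1)).simple i.castSucc) := by
  intro i j
  have := (CoxeterMatrix.A (n + 1)).toCoxeterSystem.simple_mul_simple_pow i.castSucc j.castSucc
  have h2 : (CoxeterMatrix.A n) i j = (CoxeterMatrix.A (n + 1)) i.castSucc j.castSucc := by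
    show Matrix.of _ _ _ = Matrix.of _ _ _
    simp [Fin.ext_iff]
  rw [h2]
  exact this

/-- The embedding of the smaller Coxeter group. -/
noncomputable def emb (n : ℕ) : (CoxeterMatrix.A n).Group →* (CoxeterMatrix.A (n + 1)).Group :=
  (CoxeterMatrix.A n).toCoxeterSystem.lift ⟨_, emb_liftable n⟩

theorem emb_simple (n : ℕ) (i : Fin n) : emb n ((CoxeterMatrix.A n).simple i) = (CoxeterMatrix.A (n + 1)).simple i.castSucc :=
  (CoxeterMatrix.A n).toCoxeterSystem.lift_apply_simple (emb_liftable n) i

/-- The order bound. -/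
theorem finite_card (n : ℕ) : Finite (CoxeterMatrix.A n).Group ∧ Nat.card (CoxeterMatrix.A n).Group ≤ (n + 1).factorial := by
  induction n with
  | zero =>
    have h0 : ∀ w : (CoxeterMatrix.A 0).Group, w = 1 := by
      intro w
      refine (CoxeterMatrix.A 0).toCoxeterSystem.simple_induction_right (p := fun w => w = 1) w rfl ?_
      intro w i
      exact i.elim0
    haveI : Subsingleton (CoxeterMatrix.A 0).Group := ⟨fun a b => by rw [h0 a, h0 b]⟩
    refine ⟨inferInstance, ?_⟩
    rw [Nat.card_unique]
    simp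
  | succ n ih =>
    obtain ⟨hfin, hcard⟩ := ih
    let H : Subgroup (CoxeterMatrix.A (n + 1)).Group := (emb n).range
    have hH : ∀ i, i < n → rr (n + 1) i ∈ H := by
      intro i hi
      refine ⟨(CoxeterMatrix.A n).simple ⟨i, hi⟩, ?_⟩
      rw [emb_simple, rr, dif_pos (by omega)]
      rfl
    have hall : ∀ w : (CoxeterMatrix.A (n + 1)).Group, ∃ h ∈ H, ∃ k, k ≤ n + 1 ∧ w = h * c (rr (n + 1)) n k := by
      intro w
      refine (CoxeterMatrix.A (n + 1)).toCoxeterSystem.simple_induction_right (p := fun w => ∃ h ∈ H, ∃ k, k ≤ n + 1 ∧ w = h * c (rr (n + 1)) n k) w ⟨1, H.one_mem, 0, by omega, by simp [c]⟩ ?_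
      intro w i hw
      have h5 := closed_c (r := rr (n + 1)) (n := n) (rr_sq _) (rr_far _) (fun i hi => rr_braid _ i (by omega)) H hH w hw i (by have := i.2; omega)
      have h6 : rr (n + 1) i = (CoxeterMatrix.A (n + 1)).toCoxeterSystem.simple i := by
        rw [rr, dif_pos i.2]
        rfl
      rwa [h6] at h5
    let f : (CoxeterMatrix.A n).Group × Fin (n + 2) → (CoxeterMatrix.A (n + 1)).Group := fun p => emb n p.1 * c (rr (n + 1)) n p.2
    have hf : Function.Surjective f := by
      intro w
      obtain ⟨_, ⟨g, rfl⟩, k, hk, rfl⟩ := hall w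
      exact ⟨(g, ⟨k, by omega⟩), rfl⟩
    refine ⟨Finite.of_surjective f hf, ?_⟩
    have h7 := Nat.card_le_card_of_surjective f hf
    rw [Nat.card_prod, Nat.card_fin] at h7
    calc _ ≤ _ := h7
      _ ≤ (n + 1).factorial * (n + 2) := Nat.mul_le_mul_right _ hcard
      _ = _ := by rw [Nat.factorial_succ (n + 1)]; ring

theorem swap_liftable (n : ℕ) : (CoxeterMatrix.A n).IsLiftable
    (fun i : Fin n => (Equiv.swap i.castSucc i.succ : Equiv.Perm (Fin (n + 1)))) := by
  intro i j
  show (_ * _) ^ (Matrix.of _ i j) = 1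
  simp only [Matrix.of_apply]
  by_cases hij : i = j
  · subst hij
    simp
  · rw [if_neg hij]
    have hv : i.val ≠ j.val := fun h => hij (Fin.ext h)
    by_cases h : (j : ℕ) + 1 = i ∨ (i : ℕ) + 1 = j
    · rw [if_pos h]
      have key : ∀ a x y : Fin (n + 1), a ≠ x → a ≠ y → x ≠ y → (Equiv.swap x a * Equiv.swap a y) ^ 3 = 1 := by
        intro a x y h1 h2 h3
        rw [Equiv.swap_comm x a, ← (Equiv.Perm.isThreeCycle_swap_mul_swap_same h1 h2 h3).orderOf]
        exact pow_orderOf_eq_one _
      have key2 : ∀ a x y : Fin (n + 1), a ≠ x → a ≠ y → x ≠ y → (Equiv.swap a x * Equiv.swap y a) ^ 3 = 1 := by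
        intro a x y h1 h2 h3
        rw [Equiv.swap_comm y a, ← (Equiv.Perm.isThreeCycle_swap_mul_swap_same h1 h2 h3).orderOf]
        exact pow_orderOf_eq_one _
      rcases h with h | h
      · have hi : i.castSucc = j.succ := Fin.ext (by simp [h])
        rw [hi]
        apply key2
        · intro e
          have := congrArg Fin.val e
          simp [Fin.val_succ] at this
          omega
        · intro e
          have := congrArg Fin.val e
          simp [Fin.val_succ] at this
        · intro e
          have := congrArg Fin.val e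
          simp [Fin.val_succ] at this
          omega
      · have hi : i.succ = j.castSucc := Fin.ext (by simp [h])
        rw [hi]
        apply key
        · intro e
          have := congrArg Fin.val e
          simp [Fin.val_succ] at this
          omega
        · intro e
          have := congrArg Fin.val e
          simp [Fin.val_succ] at this
        · intro e
          have := congrArg Fin.val e
          simp [Fin.val_succ] at this
          omega
    · rw [if_neg h]
      push Not at h
      have hd : Equiv.Perm.Disjoint (Equiv.swap i.castSucc i.succ) (Equiv.swap j.castSucc j.succ : Equiv.Perm (Fin (n + 1))) := by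
        intro x
        by_cases h1 : x = i.castSucc ∨ x = i.succ
        · right
          apply Equiv.swap_apply_of_ne_of_ne
          · rintro rfl
            rcases h1 with h1 | h1
            · have := congrArg Fin.val h1
              simp at this
              omega
            · have := congrArg Fin.val h1
              simp [Fin.val_succ] at this
              omega
          · rintro rfl
            rcases h1 with h1 | h1
            · have := congrArg Fin.val h1
              simp [Fin.val_succ] at this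
              omega
            · have := congrArg Fin.val h1
              simp [Fin.val_succ] at this
              omega
        · left
          push Not at h1
          exact Equiv.swap_apply_of_ne_of_ne h1.1 h1.2
      have hc := hd.commute
      rw [hc.mul_pow]
      simp [sq]

/-- The main theorem. -/
theorem main (n : ℕ) :
    ∃ cs : CoxeterSystem (CoxeterMatrix.A n) (Equiv.Perm (Fin (n + 1))), ∀ i : Fin n, cs.simple i = Equiv.swap i.castSucc i.succ := by
  classical
  obtain ⟨hfin, hcard⟩ := finite_card n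
  let φ : (CoxeterMatrix.A n).Group →* Equiv.Perm (Fin (n + 1)) :=
    (CoxeterMatrix.A n).toCoxeterSystem.lift ⟨_, swap_liftable n⟩
  have hφ : ∀ i : Fin n, φ ((CoxeterMatrix.A n).simple i) = Equiv.swap i.castSucc i.succ :=
    fun i => (CoxeterMatrix.A n).toCoxeterSystem.lift_apply_simple (swap_liftable n) i
  have hsurj : Function.Surjective φ := by
    intro x
    have hx : x ∈ Submonoid.closure (Set.range fun i : Fin n ↦ (Equiv.swap i.castSucc i.succ : Equiv.Perm (Fin (n + 1)))) := by
      rw [Equiv.Perm.mclosure_swap_castSucc_succ]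
      trivial
    induction hx using Submonoid.closure_induction with
    | mem x hx =>
      obtain ⟨i, rfl⟩ := hx
      exact ⟨_, hφ i⟩
    | one => exact ⟨1, map_one φ⟩
    | mul x y _ _ hx hy =>
      obtain ⟨a, rfl⟩ := hx
      obtain ⟨b, rfl⟩ := hy
      exact ⟨a * b, map_mul φ a b⟩
  have hbij : Function.Bijective φ := by
    rw [Nat.bijective_iff_surjective_and_card]
    refine ⟨hsurj, le_antisymm ?_ (Nat.card_le_card_of_surjective φ hsurj)⟩
    rw [Nat.card_eq_fintype_card (α := Equiv.Perm (Fin (n + 1))), Fintype.card_perm, Fintype.card_fin]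
    exact hcard
  let e : (CoxeterMatrix.A n).Group ≃* Equiv.Perm (Fin (n + 1)) := MulEquiv.ofBijective φ hbij
  refine ⟨⟨e.symm⟩, ?_⟩
  intro i
  show e.symm.symm ((CoxeterMatrix.A n).simple i) = _
  exact hφ i

end CfsgLib.H9.CoxA
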