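import Mathlib

/-! The number of fixed points is not constant on a product of two `A_n`-classes. -/

set_option autoImplicit false
set_option linter.unusedVariables false
set_option linter.unusedSectionVars false
set_option linter.unusedSimpArgs false
set_option linter.style.haveILetI false

namespace CfsgLib.H9.FixNC

open Equiv Finset

variable {α : Type*} [Fintype α] [DecidableEq α]

/-- The number of points where two permutations agree. -/
def agr (σ τ : Perm α) : ℤ := ∑ x, if τ x = σ x then 1 else 0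

theorem conj_iff (g τ σ : Perm α) (x : α) : (g * τ * g⁻¹) x = σ x ↔ τ (g⁻¹ x) = g⁻¹ (σ x) := by
  rw [Perm.mul_apply, Perm.mul_apply, Perm.eq_inv_iff_eq]

theorem lemA (σ τ : Perm α) (p q r : α) (hpq : p ≠ q) (hpr : p ≠ r) (hqr : q ≠ r)
    (hσ1 : σ p = q) (hσ2 : σ q = r) (hσ3 : σ r ≠ p) (hτ1 : τ p = q) (hτ2 : τ q = r) (hτ3 : τ r ≠ p)
    (t : Perm α) (ht1 : t p = q) (ht2 : t q = r) (ht3 : t r = p) (ht : ∀ x, x ≠ p → x ≠ q → x ≠ r → t x = x) :
    agr σ (t * τ * t⁻¹) + agr σ (t⁻¹ * τ * t) < 2 * agr σ τ := by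
  have i1 : t⁻¹ q = p := Perm.inv_eq_iff_eq.2 ht1.symm
  have i2 : t⁻¹ r = q := Perm.inv_eq_iff_eq.2 ht2.symm
  have i3 : t⁻¹ p = r := Perm.inv_eq_iff_eq.2 ht3.symm
  have it : ∀ x, x ≠ p → x ≠ q → x ≠ r → t⁻¹ x = x := fun x a b c => Perm.inv_eq_iff_eq.2 (ht x a b c).symm
  have c1 : ∀ x, (t * τ * t⁻¹) x = σ x ↔ τ (t⁻¹ x) = t⁻¹ (σ x) := fun x => conj_iff t τ σ x
  have c2 : ∀ x, (t⁻¹ * τ * t) x = σ x ↔ τ (t x) = t (σ x) := fun x => by
    have := conj_iff t⁻¹ τ σ x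
    rwa [inv_inv] at this
  unfold agr
  rw [← Finset.sum_add_distrib, Finset.mul_sum]
  apply Finset.sum_lt_sum
  · intro x _
    simp only [c1, c2]
    by_cases hxp : x = p
    · subst hxp
      rw [hσ1, i1, i3, ht1, ht2, hτ1, hτ2]
      simp [hτ3, hpq]
    by_cases hxq : x = q
    · subst hxq
      rw [hσ2, i1, i2, ht2, ht3, hτ1, hτ2]
      simp [hτ3]
    by_cases hxr : x = r
    · subst hxr
      have hy1 : σ x ≠ q := fun h => hpr (σ.injective (hσ1.trans h.symm))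
      have hy2 : σ x ≠ x := fun h => hqr (σ.injective (hσ2.trans h.symm))
      rw [it _ hσ3 hy1 hy2, ht _ hσ3 hy1 hy2, i2, ht3, hτ1, hτ2]
      simp only [Ne.symm hy1, Ne.symm hy2, if_false]
      split_ifs <;> simp
    have hy1 : σ x ≠ q := fun h => hxp (σ.injective (h.trans hσ1.symm))
    have hy2 : σ x ≠ r := fun h => hxq (σ.injective (h.trans hσ2.symm))
    rw [it x hxp hxq hxr, ht x hxp hxq hxr]
    by_cases hy3 : σ x = p
    · rw [hy3, i3, ht1]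
      have e1 : τ x ≠ r := fun h => hxq (τ.injective (h.trans hτ2.symm))
      have e2 : τ x ≠ q := fun h => hxp (τ.injective (h.trans hτ1.symm))
      simp only [e1, e2, if_false]
      split_ifs <;> simp
    · rw [it _ hy3 hy1 hy2, ht _ hy3 hy1 hy2]
      split_ifs <;> simp
  · refine ⟨p, Finset.mem_univ _, ?_⟩
    simp only [c1, c2]
    rw [hσ1, i1, i3, ht1, ht2, hτ1, hτ2]
    simp [hτ3, hpq]

theorem lemB (σ τ : Perm α) (u v w z : α) (huv : u ≠ v) (huw : u ≠ w) (huz : u ≠ z) (hvw : v ≠ w) (hvz : v ≠ z)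
    (hwz : w ≠ z) (hσ : σ u = w) (hτ : τ u = w) (hv1 : σ w ≠ v) (hv2 : τ w ≠ v) (hz1 : σ z ≠ u) (hz2 : τ z ≠ u) :
    agr σ (swap u v * τ * (swap u v)⁻¹) + agr σ (swap w z * τ * (swap w z)⁻¹) <
      agr σ τ + agr σ ((swap u v * swap w z) * τ * (swap u v * swap w z)⁻¹) := by
  set s₁ := swap u v with hs₁
  set s₂ := swap w z with hs₂
  have hi1 : s₁⁻¹ = s₁ := Equiv.swap_inv u v
  have hi2 : s₂⁻¹ = s₂ := Equiv.swap_inv w z
  have hi12 : (s₁ * s₂)⁻¹ = s₁ * s₂ := by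
    rw [mul_inv_rev, hi1, hi2]
    rw [hs₁, hs₂]
    ext x
    have hcomm : Commute (swap u v) (swap w z) :=
      Equiv.Perm.Disjoint.commute (Equiv.Perm.disjoint_iff_disjoint_support.2 (by
        rw [Equiv.Perm.support_swap huv, Equiv.Perm.support_swap hwz]
        simp [Finset.disjoint_left, huw, huz, hvw, hvz]))
    exact congrArg (fun f : Perm α => ((f x : α) : α)) hcomm.eq ▸ rfl
  have c1 : ∀ x, (s₁ * τ * s₁⁻¹) x = σ x ↔ τ (s₁ x) = s₁ (σ x) := fun x => by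
    have := conj_iff s₁ τ σ x
    rwa [hi1] at this
  have c2 : ∀ x, (s₂ * τ * s₂⁻¹) x = σ x ↔ τ (s₂ x) = s₂ (σ x) := fun x => by
    have := conj_iff s₂ τ σ x
    rwa [hi2] at this
  have c3 : ∀ x, ((s₁ * s₂) * τ * (s₁ * s₂)⁻¹) x = σ x ↔ τ (s₁ (s₂ x)) = s₁ (s₂ (σ x)) := fun x => by
    rw [conj_iff (s₁ * s₂) τ σ x, hi12]
    rfl
  unfold agr
  rw [← Finset.sum_add_distrib, ← Finset.sum_add_distrib]
  have su : s₁ u = v := Equiv.swap_apply_left u v
  have sv : s₁ v = u := Equiv.swap_apply_right u v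
  have sw : s₂ w = z := Equiv.swap_apply_left w z
  have sz : s₂ z = w := Equiv.swap_apply_right w z
  have s1w : s₁ w = w := Equiv.swap_apply_of_ne_of_ne (Ne.symm huw) (Ne.symm hvw)
  have s1z : s₁ z = z := Equiv.swap_apply_of_ne_of_ne (Ne.symm huz) (Ne.symm hvz)
  have s2u : s₂ u = u := Equiv.swap_apply_of_ne_of_ne huw huz
  have s2v : s₂ v = v := Equiv.swap_apply_of_ne_of_ne hvw hvz
  have s1o : ∀ x, x ≠ u → x ≠ v → s₁ x = x := fun x a b => Equiv.swap_apply_of_ne_of_ne a b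
  have s2o : ∀ x, x ≠ w → x ≠ z → s₂ x = x := fun x a b => Equiv.swap_apply_of_ne_of_ne a b
  -- `s₂` preserves the complement of `{u,v}`, `s₁` the complement of `{w,z}`
  have s2A : ∀ x, x ≠ u → x ≠ v → s₂ x ≠ u ∧ s₂ x ≠ v := by
    intro x a b
    constructor
    · intro h
      have := s₂.injective (h.trans s2u.symm)
      exact a this
    · intro h
      have := s₂.injective (h.trans s2v.symm)
      exact b this
  have s1B : ∀ x, x ≠ w → x ≠ z → s₁ x ≠ w ∧ s₁ x ≠ z := by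
    intro x a b
    constructor
    · intro h
      have := s₁.injective (h.trans s1w.symm)
      exact a this
    · intro h
      have := s₁.injective (h.trans s1z.symm)
      exact b this
  have k1 : ¬ τ v = w := fun h => huv (τ.injective (hτ.trans h.symm))
  have k2 : ¬ τ u = z := fun h => hwz (hτ.symm.trans h)
  have k3 : ¬ τ w = v := hv2
  have k4 : ¬ τ z = u := hz2
  apply Finset.sum_lt_sum
  · intro x _
    simp only [c1, c2, c3]
    by_cases hA : x ≠ u ∧ x ≠ v ∧ σ x ≠ u ∧ σ x ≠ v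
    · obtain ⟨a1, a2, a3, a4⟩ := hA
      rw [s1o x a1 a2, s1o _ a3 a4, s1o _ (s2A x a1 a2).1 (s2A x a1 a2).2, s1o _ (s2A _ a3 a4).1 (s2A _ a3 a4).2]
    by_cases hB : x ≠ w ∧ x ≠ z ∧ σ x ≠ w ∧ σ x ≠ z
    · obtain ⟨a1, a2, a3, a4⟩ := hB
      rw [s2o x a1 a2, s2o _ a3 a4]
      split_ifs <;> simp
    have hx : (x = u ∨ x = v) ∧ (σ x = w ∨ σ x = z) ∨ (x = w ∨ x = z) ∧ (σ x = u ∨ σ x = v) := by
      by_cases a1 : x = u
      · exact Or.inl ⟨Or.inl a1, Or.inl (a1 ▸ hσ)⟩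
      by_cases a2 : x = v
      · refine Or.inl ⟨Or.inr a2, ?_⟩
        by_contra h
        push Not at h
        apply hB
        exact ⟨by rw [a2]; exact hvw, by rw [a2]; exact hvz, h.1, h.2⟩
      by_cases a3 : σ x = u
      · refine Or.inr ⟨?_, Or.inl a3⟩
        by_contra h
        push Not at h
        apply hB
        refine ⟨h.1, h.2, by rw [a3]; exact huw, by rw [a3]; exact huz⟩
      by_cases a4 : σ x = v
      · refine Or.inr ⟨?_, Or.inr a4⟩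
        by_contra h
        push Not at h
        apply hB
        refine ⟨h.1, h.2, by rw [a4]; exact hvw, by rw [a4]; exact hvz⟩
      exact absurd ⟨a1, a2, a3, a4⟩ hA
    rcases hx with ⟨h1 | h1, h2 | h2⟩ | ⟨h1 | h1, h2 | h2⟩
    · -- `(u, w)`
      rw [h1] at h2 ⊢
      rw [h2, su, s1w, sw, s2u, su, s1z]
      simp only [hτ, if_true, k1, k2, if_false]
      split_ifs <;> simp
    · -- `(u, z)`: impossible
      rw [h1, hσ] at h2
      exact absurd h2 hwz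
    · -- `(v, w)`: impossible
      rw [h1] at h2
      exact absurd (σ.injective (h2.trans hσ.symm)) (Ne.symm huv)
    · -- `(v, z)`
      rw [h1] at h2 ⊢
      rw [h2, sv, s1z, sz, s2v, sv, s1w]
      simp only [hτ, if_true, k1, k2, if_false]
      split_ifs <;> simp
    · -- `(w, u)`
      rw [h1] at h2 ⊢
      rw [h2, s1w, su, sw, s2u, s1z, su]
      simp only [k3, k4, if_false]
      split_ifs <;> simp
    · -- `(w, v)`: impossible
      rw [h1] at h2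
      exact absurd h2 hv1
    · -- `(z, u)`: impossible
      rw [h1] at h2
      exact absurd h2 hz1
    · -- `(z, v)`
      rw [h1] at h2 ⊢
      rw [h2, s1z, sv, sz, s2v, s1w, sv]
      simp only [k3, k4, if_false]
      split_ifs <;> simp
  · refine ⟨u, Finset.mem_univ _, ?_⟩
    simp only [c1, c2, c3]
    rw [hσ, su, s1w, sw, s2u, su, s1z]
    simp only [hτ, if_true, k1, hwz, if_false]
    split_ifs <;> simp


theorem exists_avoid (s : Finset α) (hs : s.card < Fintype.card α) : ∃ x, x ∉ s := by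
  by_contra h
  push Not at h
  have : s = Finset.univ := Finset.eq_univ_iff_forall.2 h
  rw [this, Finset.card_univ] at hs
  exact lt_irrefl _ hs

theorem even3 (hα : 5 ≤ Fintype.card α) (y₀ y₁ y₂ p q r : α) (h01 : y₀ ≠ y₁) (h02 : y₀ ≠ y₂) (h12 : y₁ ≠ y₂)
    (hpq : p ≠ q) (hpr : p ≠ r) (hqr : q ≠ r) :
    ∃ g : Perm α, Perm.sign g = 1 ∧ g y₀ = p ∧ g y₁ = q ∧ g y₂ = r := by
  classical
  have h1 := alternatingGroup.isMultiplyPretransitive α
  have h3 : MulAction.IsMultiplyPretransitive (alternatingGroup α) α 3 :=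
    MulAction.isMultiplyPretransitive_of_le (n := Nat.card α - 2) (by rw [Nat.card_eq_fintype_card]; omega) (by
      rw [Nat.card_eq_fintype_card]; omega)
  let x : Fin 3 ↪ α := ⟨![y₀, y₁, y₂], by
    intro i j hij
    fin_cases i <;> fin_cases j <;> simp_all⟩
  let y : Fin 3 ↪ α := ⟨![p, q, r], by
    intro i j hij
    fin_cases i <;> fin_cases j <;> simp_all⟩
  obtain ⟨g, hg⟩ := MulAction.exists_smul_eq (alternatingGroup α) x y
  refine ⟨g, Equiv.Perm.mem_alternatingGroup.1 g.2, ?_, ?_, ?_⟩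
  · exact congrArg (fun f : Fin 3 ↪ α => f 0) hg
  · exact congrArg (fun f : Fin 3 ↪ α => f 1) hg
  · exact congrArg (fun f : Fin 3 ↪ α => f 2) hg

theorem exists_moved (π : Perm α) (h : π ≠ 1) : ∃ x, π x ≠ x := by
  by_contra h1
  push Not at h1
  exact h (Equiv.ext h1)

theorem lemB_exists (hα : 6 ≤ Fintype.card α) (σ τ : Perm α) (hσ : σ ≠ 1) (hτ : τ ≠ 1) :
    ∃ g₁ g₂ : Perm α, agr σ (g₁ * τ * g₁⁻¹) ≠ agr σ (g₂ * τ * g₂⁻¹) := by
  classical
  obtain ⟨u, hu⟩ := exists_moved σ hσ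
  obtain ⟨y₀, hy₀⟩ := exists_moved τ hτ
  set w := σ u with hw
  obtain ⟨y₂, hy₂⟩ := exists_avoid ({y₀, τ y₀} : Finset α) (lt_of_le_of_lt (Finset.card_le_two) (by omega))
  obtain ⟨p₂, hp₂⟩ := exists_avoid ({u, w} : Finset α) (lt_of_le_of_lt (Finset.card_le_two) (by omega))
  simp only [Finset.mem_insert, Finset.mem_singleton, not_or] at hy₂ hp₂
  obtain ⟨g, -, hg0, hg1, -⟩ := even3 (by omega) y₀ (τ y₀) y₂ u w p₂ (Ne.symm hy₀) (Ne.symm hy₂.1) (Ne.symm hy₂.2)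
    (Ne.symm hu) (Ne.symm hp₂.1) (Ne.symm hp₂.2)
  set τ' := g * τ * g⁻¹ with hτ'
  have hτu : τ' u = w := by
    have h1 : g⁻¹ u = y₀ := Perm.inv_eq_iff_eq.2 hg0.symm
    rw [hτ', Perm.mul_apply, Perm.mul_apply, h1, hg1]
  obtain ⟨v, hv⟩ := exists_avoid ({u, w, σ w, τ' w} : Finset α)
    (lt_of_le_of_lt (Finset.card_le_four) (by omega))
  obtain ⟨z, hz⟩ := exists_avoid ({u, w, σ⁻¹ u, τ'⁻¹ u, v} : Finset α)
    (lt_of_le_of_lt (Finset.card_le_five) (by omega))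
  simp only [Finset.mem_insert, Finset.mem_singleton, not_or] at hv hz
  obtain ⟨v1, v2, v3, v4⟩ := hv
  obtain ⟨z1, z2, z3, z4, z5⟩ := hz
  have hB := lemB σ τ' u v w z (Ne.symm v1) (Ne.symm hu) (Ne.symm z1) v2 (Ne.symm z5) (Ne.symm z2) rfl hτu
    (Ne.symm v3) (Ne.symm v4) (fun h => z3 (Perm.eq_inv_iff_eq.2 h)) (fun h => z4 (Perm.eq_inv_iff_eq.2 h))
  by_contra hcon
  push Not at hcon
  have key : ∀ e : Perm α, agr σ (e * τ' * e⁻¹) = agr σ τ' := by
    intro e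
    have h1 := hcon (e * g) g
    have e1 : e * g * τ * (e * g)⁻¹ = e * τ' * e⁻¹ := by
      rw [hτ']; group
    rw [e1] at h1
    exact h1
  rw [key, key, key] at hB
  omega


theorem long_point (hα : 5 ≤ Fintype.card α) (π : Perm α) (h : Subgroup.centralizer {π} ≤ alternatingGroup α) :
    ∃ x, π x ≠ x ∧ π (π x) ≠ x ∧ π (π (π x)) ≠ x := by
  by_contra hcon
  push Not at hcon
  have h6 : π ^ 6 = 1 := by
    apply Equiv.ext
    intro x
    simp only [pow_succ, pow_zero, one_mul, Perm.mul_apply, Perm.one_apply]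
    by_cases h1 : π x = x
    · simp [h1]
    by_cases h2 : π (π x) = x
    · simp [h2]
    have h3 := hcon x h1 h2
    simp [h3]
  obtain ⟨hodd, hcard, hcount⟩ := Equiv.Perm.centralizer_le_alternating_iff.1 h
  have hall : ∀ c ∈ π.cycleType, c = 3 := by
    intro c hc
    have h1 : c ∣ 6 := (Equiv.Perm.dvd_of_mem_cycleType hc).trans (orderOf_dvd_of_pow_eq_one h6)
    have h2 := Equiv.Perm.two_le_of_mem_cycleType hc
    have h3 := hodd c hc
    have h4 := Nat.le_of_dvd (by norm_num) h1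
    interval_cases c
    · exact absurd h3 (by decide)
    · rfl
    · exact absurd h3 (by decide)
    · exact absurd h1 (by decide)
    · exact absurd h3 (by decide)
  have h1 : Multiset.count 3 π.cycleType = Multiset.card π.cycleType :=
    Multiset.count_eq_card.2 (fun c hc => (hall c hc).symm)
  have h2 := hcount 3
  have h3 : π.cycleType = Multiset.replicate (Multiset.card π.cycleType) 3 := Multiset.eq_replicate.2 ⟨rfl, hall⟩
  have h4 : π.cycleType.sum = Multiset.card π.cycleType * 3 := by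
    conv_lhs => rw [h3]
    simp
  omega

theorem card_fix (f : Perm α) :
    Nat.card (Function.fixedPoints ⇑f) = (Finset.univ.filter fun x => f x = x).card := by
  apply Nat.subtype_card
  intro x
  simp [Function.mem_fixedPoints, Function.IsFixedPt]

theorem agr_eq1 (a b : Perm α) : ((Nat.card (Function.fixedPoints ⇑(a * b)) : ℕ) : ℤ) = agr a⁻¹ b := by
  rw [card_fix]
  unfold agr
  rw [Finset.card_filter, Nat.cast_sum]
  apply Finset.sum_congr rfl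
  intro x _
  have : (a * b) x = x ↔ b x = a⁻¹ x := by rw [Perm.mul_apply, Perm.eq_inv_iff_eq]
  by_cases h : b x = a⁻¹ x
  · rw [if_pos h, if_pos (this.2 h)]
    simp
  · rw [if_neg h, if_neg (fun h2 => h (this.1 h2))]
    simp

theorem agr_eq2 (a b : Perm α) : ((Nat.card (Function.fixedPoints ⇑(a * b)) : ℕ) : ℤ) = agr b⁻¹ a := by
  rw [card_fix]
  unfold agr
  rw [Finset.card_filter, ← Equiv.sum_comp b (fun x => if a x = b⁻¹ x then (1 : ℤ) else 0), Nat.cast_sum]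
  apply Finset.sum_congr rfl
  intro x _
  have : (a * b) x = x ↔ a (b x) = b⁻¹ (b x) := by
    simp [Perm.mul_apply]
  by_cases h : a (b x) = b⁻¹ (b x)
  · rw [if_pos h, if_pos (this.2 h)]
    simp
  · rw [if_neg h, if_neg (fun h2 => h (this.1 h2))]
    simp

theorem conj_even (b : Perm α) (h : ¬ Subgroup.centralizer {b} ≤ alternatingGroup α) (g : Perm α) :
    ∃ e : Perm α, Perm.sign e = 1 ∧ e * b * e⁻¹ = g * b * g⁻¹ := by
  obtain ⟨c, hc, hc2⟩ := SetLike.not_le_iff_exists.1 h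
  have hc3 : c * b = b * c := by
    rw [Subgroup.mem_centralizer_iff] at hc
    exact (hc b (Set.mem_singleton b)).symm
  have hsc : Perm.sign c = -1 := by
    rcases Int.units_eq_one_or (Perm.sign c) with h1 | h1
    · exact absurd (Equiv.Perm.mem_alternatingGroup.2 h1) hc2
    · exact h1
  rcases Int.units_eq_one_or (Perm.sign g) with h1 | h1
  · exact ⟨g, h1, rfl⟩
  · refine ⟨g * c, by rw [Perm.sign_mul, h1, hsc]; rfl, ?_⟩
    calc g * c * b * (g * c)⁻¹ = g * (c * b) * c⁻¹ * g⁻¹ := by group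
      _ = g * (b * c) * c⁻¹ * g⁻¹ := by rw [hc3]
      _ = g * b * g⁻¹ := by group

theorem cent_inv (a : Perm α) (h : Subgroup.centralizer {a} ≤ alternatingGroup α) :
    Subgroup.centralizer {a⁻¹} ≤ alternatingGroup α := by
  intro c hc
  apply h
  rw [Subgroup.mem_centralizer_iff] at hc ⊢
  intro x hx
  rw [Set.mem_singleton_iff] at hx
  rw [hx]
  have h1 := hc a⁻¹ (Set.mem_singleton _)
  have h2 : a * (a⁻¹ * c) * a = a * (c * a⁻¹) * a := by rw [h1]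
  simpa [mul_assoc] using h2.symm

/-- The main theorem, in degree at least 6. -/
theorem main6 (hα : 6 ≤ Fintype.card α) (a b : Perm α) (ha : a ≠ 1) (hb : b ≠ 1) :
    ∃ g₁ h₁ g₂ h₂ : Perm α, g₁ ∈ alternatingGroup α ∧ h₁ ∈ alternatingGroup α ∧ g₂ ∈ alternatingGroup α ∧
      h₂ ∈ alternatingGroup α ∧
      Nat.card (Function.fixedPoints ⇑(g₁ * a * g₁⁻¹ * (h₁ * b * h₁⁻¹))) ≠
        Nat.card (Function.fixedPoints ⇑(g₂ * a * g₂⁻¹ * (h₂ * b * h₂⁻¹))) := by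
  classical
  have ha' : a⁻¹ ≠ 1 := inv_ne_one.2 ha
  have hb' : b⁻¹ ≠ 1 := inv_ne_one.2 hb
  by_cases hcb : Subgroup.centralizer {b} ≤ alternatingGroup α
  · by_cases hca : Subgroup.centralizer {a} ≤ alternatingGroup α
    · -- both classes split
      obtain ⟨p, hp1, hp2, hp3⟩ := long_point (by omega) a⁻¹ (cent_inv a hca)
      obtain ⟨y, hy1, hy2, hy3⟩ := long_point (by omega) b hcb
      set σ := a⁻¹ with hσ
      set q := σ p with hq
      set r := σ q with hr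
      have hpq : p ≠ q := Ne.symm hp1
      have hpr : p ≠ r := Ne.symm hp2
      have hqr : q ≠ r := fun h => hp1 (σ.injective h.symm)
      have hy01 : y ≠ b y := Ne.symm hy1
      have hy02 : y ≠ b (b y) := Ne.symm hy2
      have hy12 : b y ≠ b (b y) := fun h => hy1 (b.injective h.symm)
      obtain ⟨g, hgs, hg0, hg1, hg2⟩ := even3 (by omega) y (b y) (b (b y)) p q r hy01 hy02 hy12 hpq hpr hqr
      set τ' := g * b * g⁻¹ with hτ'
      have hinv0 : g⁻¹ p = y := Perm.inv_eq_iff_eq.2 hg0.symm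
      have hinv1 : g⁻¹ q = b y := Perm.inv_eq_iff_eq.2 hg1.symm
      have hinv2 : g⁻¹ r = b (b y) := Perm.inv_eq_iff_eq.2 hg2.symm
      have hτ1 : τ' p = q := by
        rw [hτ', Perm.mul_apply, Perm.mul_apply, hinv0, hg1]
      have hτ2 : τ' q = r := by
        rw [hτ', Perm.mul_apply, Perm.mul_apply, hinv1, hg2]
      have hτ3 : τ' r ≠ p := by
        rw [hτ', Perm.mul_apply, Perm.mul_apply, hinv2]
        intro h
        rw [← hg0] at h
        exact hy3 (g.injective h)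
      let t : Perm α := swap p q * swap q r
      have ht1 : t p = q := by
        simp only [t, Perm.mul_apply]
        rw [Equiv.swap_apply_of_ne_of_ne hpq hpr, Equiv.swap_apply_left]
      have ht2 : t q = r := by
        simp only [t, Perm.mul_apply]
        rw [Equiv.swap_apply_left, Equiv.swap_apply_of_ne_of_ne (Ne.symm hpr) (Ne.symm hqr)]
      have ht3 : t r = p := by
        simp only [t, Perm.mul_apply]
        rw [Equiv.swap_apply_right, Equiv.swap_apply_right]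
      have hto : ∀ x, x ≠ p → x ≠ q → x ≠ r → t x = x := by
        intro x h1 h2 h3
        simp only [t, Perm.mul_apply]
        rw [Equiv.swap_apply_of_ne_of_ne h2 h3, Equiv.swap_apply_of_ne_of_ne h1 h2]
      have hts : Perm.sign t = 1 := by
        simp only [t, Perm.sign_mul]
        rw [Perm.sign_swap hpq, Perm.sign_swap hqr]
        rfl
      have hA := lemA σ τ' p q r hpq hpr hqr rfl rfl hp3 hτ1 hτ2 hτ3 t ht1 ht2 ht3 hto
      have hti : Perm.sign t⁻¹ = 1 := by rw [Perm.sign_inv, hts]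
      have e1 : ∀ e : Perm α, agr σ (e * τ' * e⁻¹) = agr σ ((e * g) * b * (e * g)⁻¹) := by
        intro e
        congr 1
      have e0 : agr σ τ' = agr σ ((1 * g) * b * (1 * g)⁻¹) := by
        rw [one_mul]
      have hgA : g ∈ alternatingGroup α := Equiv.Perm.mem_alternatingGroup.2 hgs
      have hfinal : ∀ e : Perm α, Perm.sign e = 1 → agr σ (e * τ' * e⁻¹) ≠ agr σ τ' → ∃ g₁ h₁ g₂ h₂ : Perm α, g₁ ∈ alternatingGroup α ∧ h₁ ∈ alternatingGroup α ∧ g₂ ∈ alternatingGroup α ∧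
            h₂ ∈ alternatingGroup α ∧
            Nat.card (Function.fixedPoints ⇑(g₁ * a * g₁⁻¹ * (h₁ * b * h₁⁻¹))) ≠
              Nat.card (Function.fixedPoints ⇑(g₂ * a * g₂⁻¹ * (h₂ * b * h₂⁻¹))) := by
        intro e hes hne
        refine ⟨1, e * g, 1, g, Subgroup.one_mem _, Subgroup.mul_mem _ (Equiv.Perm.mem_alternatingGroup.2 hes) hgA, Subgroup.one_mem _, hgA, ?_⟩
        intro hc
        have h1 := congrArg (fun n : ℕ => (n : ℤ)) hc
        simp only [one_mul, inv_one, mul_one] at h1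
        rw [agr_eq1, agr_eq1] at h1
        apply hne
        rw [e1]
        exact h1
      by_cases hne : agr σ (t * τ' * t⁻¹) = agr σ τ'
      · have hne2 : agr σ (t⁻¹ * τ' * t⁻¹⁻¹) ≠ agr σ τ' := by
          rw [inv_inv]
          omega
        exact hfinal t⁻¹ hti hne2
      · exact hfinal t hts hne
    · -- the class of `a` does not split
      obtain ⟨g₁, g₂, hne⟩ := lemB_exists hα b⁻¹ a hb' ha
      obtain ⟨e₁, he₁, h1⟩ := conj_even a hca g₁
      obtain ⟨e₂, he₂, h2⟩ := conj_even a hca g₂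
      refine ⟨e₁, 1, e₂, 1, Equiv.Perm.mem_alternatingGroup.2 he₁, Subgroup.one_mem _, Equiv.Perm.mem_alternatingGroup.2 he₂, Subgroup.one_mem _, ?_⟩
      intro hc
      have h3 := congrArg (fun n : ℕ => (n : ℤ)) hc
      simp only [one_mul, inv_one, mul_one] at h3
      rw [agr_eq2, agr_eq2, h1, h2] at h3
      exact hne h3
  · -- the class of `b` does not split
    obtain ⟨g₁, g₂, hne⟩ := lemB_exists hα a⁻¹ b ha' hb
    obtain ⟨e₁, he₁, h1⟩ := conj_even b hcb g₁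
    obtain ⟨e₂, he₂, h2⟩ := conj_even b hcb g₂
    refine ⟨1, e₁, 1, e₂, Subgroup.one_mem _, Equiv.Perm.mem_alternatingGroup.2 he₁, Subgroup.one_mem _, Equiv.Perm.mem_alternatingGroup.2 he₂, ?_⟩
    intro hc
    have h3 := congrArg (fun n : ℕ => (n : ℤ)) hc
    simp only [one_mul, inv_one, mul_one] at h3
    rw [agr_eq1, agr_eq1, h1, h2] at h3
    exact hne h3

/-! ### Degree 5 -/

/-- Fixed points of a product in degree 5. -/
def F5 (a b : Perm (Fin 5)) : ℕ := (Finset.univ.filter (fun x : Fin 5 => a (b x) = x)).card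

/-- A transposition in degree 5. -/
def sw5 (a b : Nat) : Perm (Fin 5) := swap (Fin.ofNat 5 a) (Fin.ofNat 5 b)

/-- Representatives of the non-trivial classes. -/
def reps5 : List (Perm (Fin 5)) := [sw5 0 1, sw5 0 1 * sw5 2 3, sw5 0 1 * sw5 1 2, sw5 0 1 * sw5 1 2 * sw5 3 4,
  sw5 0 1 * sw5 1 2 * sw5 2 3, sw5 0 1 * sw5 1 2 * sw5 2 3 * sw5 3 4]

/-- Even permutations, as products of transpositions. -/
def codes5 : List (List (Nat × Nat)) := [
  [(0, 1), (1, 2)],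
  [(0, 1), (1, 3)],
  [(0, 1), (1, 4)],
  [(0, 1), (2, 3)],
  [(0, 1), (2, 4)],
  [(0, 1), (3, 4)],
  [(0, 2), (1, 3)],
  [(0, 2), (1, 4)],
  [(0, 2), (2, 1)],
  [(0, 2), (2, 3)],
  [(0, 2), (2, 4)],
  [(0, 2), (3, 4)],
  [(0, 3), (1, 2)],
  [(0, 3), (1, 4)],
  [(0, 3), (2, 4)],
  [(0, 3), (3, 1)],
  [(0, 3), (3, 2)],
  [(0, 3), (3, 4)],
  [(0, 4), (1, 2)],
  [(0, 4), (1, 3)],
  [(0, 4), (2, 3)],
  [(0, 4), (4, 1)],
  [(0, 4), (4, 2)],
  [(0, 4), (4, 3)],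
  [(1, 2), (2, 3)],
  [(1, 2), (2, 4)],
  [(1, 2), (3, 4)],
  [(1, 3), (2, 4)],
  [(1, 3), (3, 2)],
  [(1, 3), (3, 4)],
  [(1, 4), (2, 3)],
  [(1, 4), (4, 2)],
  [(1, 4), (4, 3)],
  [(2, 3), (3, 4)],
  [(2, 4), (4, 3)],
  [(0, 1), (1, 2), (2, 3), (3, 4)],
  [(0, 1), (1, 2), (2, 4), (4, 3)],
  [(0, 1), (1, 3), (3, 2), (2, 4)],
  [(0, 1), (1, 3), (3, 4), (4, 2)],
  [(0, 1), (1, 4), (4, 2), (2, 3)],
  [(0, 1), (1, 4), (4, 3), (3, 2)],
  [(0, 2), (2, 1), (1, 3), (3, 4)],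
  [(0, 2), (2, 1), (1, 4), (4, 3)],
  [(0, 2), (2, 3), (3, 1), (1, 4)],
  [(0, 2), (2, 3), (3, 4), (4, 1)],
  [(0, 2), (2, 4), (4, 1), (1, 3)],
  [(0, 2), (2, 4), (4, 3), (3, 1)],
  [(0, 3), (3, 1), (1, 2), (2, 4)],
  [(0, 3), (3, 1), (1, 4), (4, 2)],
  [(0, 3), (3, 2), (2, 1), (1, 4)],
  [(0, 3), (3, 2), (2, 4), (4, 1)],
  [(0, 3), (3, 4), (4, 1), (1, 2)],
  [(0, 3), (3, 4), (4, 2), (2, 1)],
  [(0, 4), (4, 1), (1, 2), (2, 3)],
  [(0, 4), (4, 1), (1, 3), (3, 2)],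
  [(0, 4), (4, 2), (2, 1), (1, 3)],
  [(0, 4), (4, 2), (2, 3), (3, 1)],
  [(0, 4), (4, 3), (3, 1), (1, 2)],
  [(0, 4), (4, 3), (3, 2), (2, 1)]]

/-- All permutations, as products of transpositions. -/
def codesAll5 : List (List (Nat × Nat)) := [
  [],
  [(0, 1)],
  [(0, 2)],
  [(0, 3)],
  [(0, 4)],
  [(1, 2)],
  [(1, 3)],
  [(1, 4)],
  [(2, 3)],
  [(2, 4)],
  [(3, 4)],
  [(0, 1), (1, 2)],
  [(0, 1), (1, 3)],
  [(0, 1), (1, 4)],
  [(0, 1), (2, 3)],
  [(0, 1), (2, 4)],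
  [(0, 1), (3, 4)],
  [(0, 2), (1, 3)],
  [(0, 2), (1, 4)],
  [(0, 2), (2, 1)],
  [(0, 2), (2, 3)],
  [(0, 2), (2, 4)],
  [(0, 2), (3, 4)],
  [(0, 3), (1, 2)],
  [(0, 3), (1, 4)],
  [(0, 3), (2, 4)],
  [(0, 3), (3, 1)],
  [(0, 3), (3, 2)],
  [(0, 3), (3, 4)],
  [(0, 4), (1, 2)],
  [(0, 4), (1, 3)],
  [(0, 4), (2, 3)],
  [(0, 4), (4, 1)],
  [(0, 4), (4, 2)],
  [(0, 4), (4, 3)],
  [(1, 2), (2, 3)],
  [(1, 2), (2, 4)],
  [(1, 2), (3, 4)],
  [(1, 3), (2, 4)],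
  [(1, 3), (3, 2)],
  [(1, 3), (3, 4)],
  [(1, 4), (2, 3)],
  [(1, 4), (4, 2)],
  [(1, 4), (4, 3)],
  [(2, 3), (3, 4)],
  [(2, 4), (4, 3)],
  [(0, 1), (1, 2), (2, 3)],
  [(0, 1), (1, 2), (2, 4)],
  [(0, 1), (1, 2), (3, 4)],
  [(0, 1), (1, 3), (2, 4)],
  [(0, 1), (1, 3), (3, 2)],
  [(0, 1), (1, 3), (3, 4)],
  [(0, 1), (1, 4), (2, 3)],
  [(0, 1), (1, 4), (4, 2)],
  [(0, 1), (1, 4), (4, 3)],
  [(0, 1), (2, 3), (3, 4)],
  [(0, 1), (2, 4), (4, 3)],
  [(0, 2), (1, 3), (3, 4)],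
  [(0, 2), (1, 4), (4, 3)],
  [(0, 2), (2, 1), (1, 3)],
  [(0, 2), (2, 1), (1, 4)],
  [(0, 2), (2, 1), (3, 4)],
  [(0, 2), (2, 3), (1, 4)],
  [(0, 2), (2, 3), (3, 1)],
  [(0, 2), (2, 3), (3, 4)],
  [(0, 2), (2, 4), (1, 3)],
  [(0, 2), (2, 4), (4, 1)],
  [(0, 2), (2, 4), (4, 3)],
  [(0, 3), (1, 2), (2, 4)],
  [(0, 3), (1, 4), (4, 2)],
  [(0, 3), (3, 1), (1, 2)],
  [(0, 3), (3, 1), (1, 4)],
  [(0, 3), (3, 1), (2, 4)],
  [(0, 3), (3, 2), (1, 4)],
  [(0, 3), (3, 2), (2, 1)],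
  [(0, 3), (3, 2), (2, 4)],
  [(0, 3), (3, 4), (1, 2)],
  [(0, 3), (3, 4), (4, 1)],
  [(0, 3), (3, 4), (4, 2)],
  [(0, 4), (1, 2), (2, 3)],
  [(0, 4), (1, 3), (3, 2)],
  [(0, 4), (4, 1), (1, 2)],
  [(0, 4), (4, 1), (1, 3)],
  [(0, 4), (4, 1), (2, 3)],
  [(0, 4), (4, 2), (1, 3)],
  [(0, 4), (4, 2), (2, 1)],
  [(0, 4), (4, 2), (2, 3)],
  [(0, 4), (4, 3), (1, 2)],
  [(0, 4), (4, 3), (3, 1)],
  [(0, 4), (4, 3), (3, 2)],
  [(1, 2), (2, 3), (3, 4)],
  [(1, 2), (2, 4), (4, 3)],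
  [(1, 3), (3, 2), (2, 4)],
  [(1, 3), (3, 4), (4, 2)],
  [(1, 4), (4, 2), (2, 3)],
  [(1, 4), (4, 3), (3, 2)],
  [(0, 1), (1, 2), (2, 3), (3, 4)],
  [(0, 1), (1, 2), (2, 4), (4, 3)],
  [(0, 1), (1, 3), (3, 2), (2, 4)],
  [(0, 1), (1, 3), (3, 4), (4, 2)],
  [(0, 1), (1, 4), (4, 2), (2, 3)],
  [(0, 1), (1, 4), (4, 3), (3, 2)],
  [(0, 2), (2, 1), (1, 3), (3, 4)],
  [(0, 2), (2, 1), (1, 4), (4, 3)],
  [(0, 2), (2, 3), (3, 1), (1, 4)],
  [(0, 2), (2, 3), (3, 4), (4, 1)],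
  [(0, 2), (2, 4), (4, 1), (1, 3)],
  [(0, 2), (2, 4), (4, 3), (3, 1)],
  [(0, 3), (3, 1), (1, 2), (2, 4)],
  [(0, 3), (3, 1), (1, 4), (4, 2)],
  [(0, 3), (3, 2), (2, 1), (1, 4)],
  [(0, 3), (3, 2), (2, 4), (4, 1)],
  [(0, 3), (3, 4), (4, 1), (1, 2)],
  [(0, 3), (3, 4), (4, 2), (2, 1)],
  [(0, 4), (4, 1), (1, 2), (2, 3)],
  [(0, 4), (4, 1), (1, 3), (3, 2)],
  [(0, 4), (4, 2), (2, 1), (1, 3)],
  [(0, 4), (4, 2), (2, 3), (3, 1)],
  [(0, 4), (4, 3), (3, 1), (1, 2)],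
  [(0, 4), (4, 3), (3, 2), (2, 1)]]

/-- The even permutations. -/
def evens5 : List (Perm (Fin 5)) := codes5.map (fun l => l.foldr (fun c acc => sw5 c.1 c.2 * acc) 1)

/-- All permutations. -/
def all5 : List (Perm (Fin 5)) := codesAll5.map (fun l => l.foldr (fun c acc => sw5 c.1 c.2 * acc) 1)

set_option maxRecDepth 100000 in
theorem small5a : ∀ a ∈ reps5, ∀ b : Perm (Fin 5), b ≠ 1 → ∃ h ∈ evens5, F5 a b ≠ F5 a (h * b * h⁻¹) := by
  decide +kernel

set_option maxRecDepth 100000 in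
theorem small5b : ∀ h ∈ evens5, Perm.sign h = 1 := by
  decide +kernel

set_option maxRecDepth 100000 in
theorem small5c : ∀ a : Perm (Fin 5), a ≠ 1 → ∃ r ∈ reps5, ∃ k ∈ all5, a = k * r * k⁻¹ := by
  decide +kernel

theorem card_fix_conj (k f : Perm α) :
    Nat.card (Function.fixedPoints ⇑(k * f * k⁻¹)) = Nat.card (Function.fixedPoints ⇑f) := by
  rw [card_fix, card_fix]
  symm
  apply Finset.card_equiv k
  intro x
  rw [Finset.mem_filter, Finset.mem_filter]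
  simp only [Finset.mem_univ, true_and, Perm.mul_apply]
  have e : k⁻¹ (k x) = x := by simp
  rw [e]
  exact k.injective.eq_iff.symm

theorem F5_eq (a b : Perm (Fin 5)) : F5 a b = Nat.card (Function.fixedPoints ⇑(a * b)) := by
  rw [card_fix]
  rfl

theorem main5 (a b : Perm (Fin 5)) (ha : a ≠ 1) (hb : b ≠ 1) :
    ∃ g₁ h₁ g₂ h₂ : Perm (Fin 5), g₁ ∈ alternatingGroup (Fin 5) ∧ h₁ ∈ alternatingGroup (Fin 5) ∧
      g₂ ∈ alternatingGroup (Fin 5) ∧ h₂ ∈ alternatingGroup (Fin 5) ∧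
      Nat.card (Function.fixedPoints ⇑(g₁ * a * g₁⁻¹ * (h₁ * b * h₁⁻¹))) ≠
        Nat.card (Function.fixedPoints ⇑(g₂ * a * g₂⁻¹ * (h₂ * b * h₂⁻¹))) := by
  obtain ⟨r, hr, k, -, hk⟩ := small5c a ha
  have hb' : k⁻¹ * b * k ≠ 1 := by
    intro h
    apply hb
    calc b = k * (k⁻¹ * b * k) * k⁻¹ := by group
      _ = 1 := by rw [h]; group
  obtain ⟨h, hh, hne⟩ := small5a r hr _ hb'
  have hs := small5b h hh
  let e : Perm (Fin 5) := k * h * k⁻¹
  have hes : Perm.sign e = 1 := by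
    simp only [e, Perm.sign_mul, Perm.sign_inv, hs]
    rcases Int.units_eq_one_or (Perm.sign k) with h1 | h1 <;> rw [h1] <;> rfl
  refine ⟨1, 1, 1, e, Subgroup.one_mem _, Subgroup.one_mem _, Subgroup.one_mem _,
    Equiv.Perm.mem_alternatingGroup.2 hes, ?_⟩
  intro hc
  apply hne
  rw [F5_eq, F5_eq]
  simp only [one_mul, inv_one, mul_one] at hc
  have e1 : a * b = k * (r * (k⁻¹ * b * k)) * k⁻¹ := by
    rw [hk]; group
  have e2 : a * (e * b * e⁻¹) = k * (r * (h * (k⁻¹ * b * k) * h⁻¹)) * k⁻¹ := by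
    simp only [e]
    rw [hk]; group
  rw [e1, e2, card_fix_conj, card_fix_conj] at hc
  exact hc

/-- The statement. -/
theorem main (n : ℕ) (hn : 5 ≤ n) (a b : Perm (Fin n)) (ha : a ≠ 1) (hb : b ≠ 1) :
    ∃ g₁ h₁ g₂ h₂ : Perm (Fin n), g₁ ∈ alternatingGroup (Fin n) ∧ h₁ ∈ alternatingGroup (Fin n) ∧
      g₂ ∈ alternatingGroup (Fin n) ∧ h₂ ∈ alternatingGroup (Fin n) ∧
      Nat.card (Function.fixedPoints ⇑(g₁ * a * g₁⁻¹ * (h₁ * b * h₁⁻¹))) ≠
        Nat.card (Function.fixedPoints ⇑(g₂ * a * g₂⁻¹ * (h₂ * b * h₂⁻¹))) := by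
  rcases Nat.lt_or_ge n 6 with h | h
  · have : n = 5 := by omega
    subst this
    exact main5 a b ha hb
  · exact main6 (by simpa using h) a b ha hb

end CfsgLib.H9.FixNC
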