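import Mathlib
import Cfsg.Prelude.Def_CaseTheorems
import Cfsg.Agent.Lib.Solv.Core
import Cfsg.Agent.Lib.H9.PSLSimple

/-! A component in the centralizer of an involution of `GL_n`. -/

set_option autoImplicit false
set_option linter.unusedVariables false
set_option linter.unusedSectionVars false
set_option linter.unusedSimpArgs false
set_option linter.style.haveILetI false

namespace CfsgLib.H9.GLComp

open Matrix Cfsg

variable {F : Type*} [Field F] {m : ℕ}

/-- Block diagonal matrices. -/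
def J (a : F) (X : Matrix (Fin m) (Fin m) F) : Matrix (Fin (m + 1)) (Fin (m + 1)) F :=
  Matrix.of fun i j => Fin.cases (Fin.cases a (fun _ => 0) j) (fun i' => Fin.cases 0 (fun j' => X i' j') j) i

@[simp] theorem J_00 (a : F) (X : Matrix (Fin m) (Fin m) F) : J a X 0 0 = a := rfl
@[simp] theorem J_0s (a : F) (X : Matrix (Fin m) (Fin m) F) (j : Fin m) : J a X 0 j.succ = 0 := rfl
@[simp] theorem J_s0 (a : F) (X : Matrix (Fin m) (Fin m) F) (i : Fin m) : J a X i.succ 0 = 0 := rfl
@[simp] theorem J_ss (a : F) (X : Matrix (Fin m) (Fin m) F) (i j : Fin m) : J a X i.succ j.succ = X i j := rfl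

theorem J_mul (a b : F) (X Y : Matrix (Fin m) (Fin m) F) : J a X * J b Y = J (a * b) (X * Y) := by
  ext i j
  refine Fin.cases ?_ (fun i' => ?_) i <;> refine Fin.cases ?_ (fun j' => ?_) j <;>
    simp [Matrix.mul_apply, Fin.sum_univ_succ]

theorem J_one : J (1 : F) (1 : Matrix (Fin m) (Fin m) F) = 1 := by
  ext i j
  refine Fin.cases ?_ (fun i' => ?_) i <;> refine Fin.cases ?_ (fun j' => ?_) j <;>
    simp [Matrix.one_apply, Fin.succ_ne_zero, (Fin.succ_ne_zero _).symm]

theorem J_det (a : F) (X : Matrix (Fin m) (Fin m) F) : (J a X).det = a * X.det := by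
  rw [Matrix.det_succ_row_zero, Fin.sum_univ_succ]
  have h : (J a X).submatrix Fin.succ ((0 : Fin (m + 1)).succAbove) = X := by
    ext i j
    simp [Fin.succAbove_zero]
  rw [h]
  simp

theorem J_eq {g : Matrix (Fin (m + 1)) (Fin (m + 1)) F} (h0 : ∀ j : Fin m, g 0 j.succ = 0)
    (h1 : ∀ i : Fin m, g i.succ 0 = 0) : g = J (g 0 0) (g.submatrix Fin.succ Fin.succ) := by
  ext i j
  refine Fin.cases ?_ (fun i' => ?_) i <;> refine Fin.cases ?_ (fun j' => ?_) j <;>
    simp [h0, h1]

theorem t_block (hneg : (-1 : F) ≠ 1) {g : Matrix (Fin (m + 1)) (Fin (m + 1)) F}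
    (hg : g * J (-1) 1 = J (-1) 1 * g) :
    (∀ j : Fin m, g 0 j.succ = 0) ∧ (∀ i : Fin m, g i.succ 0 = 0) := by
  have h2 : (2 : F) ≠ 0 := by
    intro h
    apply hneg
    linear_combination (-1 : F) * h
  constructor
  · intro j
    have h := congrFun (congrFun hg 0) j.succ
    simp [Matrix.mul_apply, Fin.sum_univ_succ, Matrix.one_apply] at h
    have h3 : 2 * g 0 j.succ = 0 := by
      linear_combination (1 : F) * h
    exact (mul_eq_zero.1 h3).resolve_left h2
  · intro i
    have h := congrFun (congrFun hg i.succ) 0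
    simp [Matrix.mul_apply, Fin.sum_univ_succ, Matrix.one_apply] at h
    have h3 : 2 * g i.succ 0 = 0 := by
      linear_combination (-1 : F) * h
    exact (mul_eq_zero.1 h3).resolve_left h2

/-- The involution. -/
def tt (m : ℕ) (F : Type*) [Field F] : GL (Fin (m + 1)) F :=
  ⟨J (-1) 1, J (-1) 1, by rw [J_mul, mul_one, neg_mul_neg, one_mul, J_one],
    by rw [J_mul, mul_one, neg_mul_neg, one_mul, J_one]⟩

/-- The embedding of the special linear group. -/
def toGL (A : Matrix.SpecialLinearGroup (Fin m) F) : GL (Fin (m + 1)) F :=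
  ⟨J 1 A.1, J 1 (A⁻¹).1,
    by
      rw [J_mul, mul_one]
      have : A.1 * (A⁻¹).1 = 1 := by
        have := congrArg Subtype.val (mul_inv_cancel A)
        exact this
      rw [this, J_one],
    by
      rw [J_mul, mul_one]
      have : (A⁻¹).1 * A.1 = 1 := by
        have := congrArg Subtype.val (inv_mul_cancel A)
        exact this
      rw [this, J_one]⟩

theorem toGL_comm (A : Matrix.SpecialLinearGroup (Fin m) F) : tt m F * toGL A = toGL A * tt m F := by
  apply Units.ext
  show J (-1) 1 * J 1 A.1 = J 1 A.1 * J (-1) 1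
  rw [J_mul, J_mul, one_mul, mul_one, one_mul, mul_one]

/-- The homomorphism into the centralizer. -/
def ff (m : ℕ) (F : Type*) [Field F] :
    Matrix.SpecialLinearGroup (Fin m) F →* ↥(Subgroup.centralizer ({tt m F} : Set (GL (Fin (m + 1)) F))) where
  toFun A := ⟨toGL A, by
    rw [Subgroup.mem_centralizer_iff]
    intro h hh
    rw [Set.mem_singleton_iff] at hh
    rw [hh]
    exact toGL_comm A⟩
  map_one' := by
    apply Subtype.ext
    apply Units.ext
    exact J_one
  map_mul' := by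
    intro a b
    apply Subtype.ext
    apply Units.ext
    show J 1 (a * b).1 = J 1 a.1 * J 1 b.1
    rw [J_mul, mul_one]
    rfl

theorem ff_conj (hneg : (-1 : F) ≠ 1)
    (g : ↥(Subgroup.centralizer ({tt m F} : Set (GL (Fin (m + 1)) F))))
    (A : Matrix.SpecialLinearGroup (Fin m) F) :
    ∃ A' : Matrix.SpecialLinearGroup (Fin m) F, g * ff m F A * g⁻¹ = ff m F A' := by
  have hcomm : ∀ x : ↥(Subgroup.centralizer ({tt m F} : Set (GL (Fin (m + 1)) F))),
      ((x.1 : GL (Fin (m + 1)) F) : Matrix (Fin (m + 1)) (Fin (m + 1)) F) * J (-1) 1 =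
        J (-1) 1 * ((x.1 : GL (Fin (m + 1)) F) : Matrix (Fin (m + 1)) (Fin (m + 1)) F) := by
    intro x
    have h1 := (Subgroup.mem_centralizer_iff.1 x.2) (tt m F) rfl
    have h2 := congrArg (fun u : GL (Fin (m + 1)) F => (u : Matrix (Fin (m + 1)) (Fin (m + 1)) F)) h1
    exact h2.symm
  obtain ⟨h10, h11⟩ := t_block hneg (hcomm g)
  obtain ⟨h20, h21⟩ := t_block hneg (hcomm g⁻¹)
  set M : Matrix (Fin (m + 1)) (Fin (m + 1)) F := ((g.1 : GL (Fin (m + 1)) F) : Matrix (Fin (m + 1)) (Fin (m + 1)) F) with hM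
  set M' : Matrix (Fin (m + 1)) (Fin (m + 1)) F := (((g⁻¹).1 : GL (Fin (m + 1)) F) : Matrix (Fin (m + 1)) (Fin (m + 1)) F) with hM'
  have e1 := J_eq h10 h11
  have e2 := J_eq h20 h21
  have hMM : M * M' = 1 := by
    have := congrArg (fun u : ↥(Subgroup.centralizer ({tt m F} : Set (GL (Fin (m + 1)) F))) =>
      ((u.1 : GL (Fin (m + 1)) F) : Matrix (Fin (m + 1)) (Fin (m + 1)) F)) (mul_inv_cancel g)
    exact this
  set B := M.submatrix Fin.succ Fin.succ with hB
  set B' := M'.submatrix Fin.succ Fin.succ with hB'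
  have hJ : J (M 0 0 * M' 0 0) (B * B') = 1 := by
    rw [← J_mul, ← e1, ← e2]
    exact hMM
  have ha : M 0 0 * M' 0 0 = 1 := by
    have := congrFun (congrFun hJ 0) 0
    simpa using this
  have hBB : B * B' = 1 := by
    ext i j
    have := congrFun (congrFun hJ i.succ) j.succ
    simpa [Matrix.one_apply] using this
  have hdet : (B * A.1 * B').det = 1 := by
    rw [Matrix.det_mul, Matrix.det_mul, A.2, mul_one, ← Matrix.det_mul, hBB, Matrix.det_one]
  refine ⟨⟨B * A.1 * B', hdet⟩, ?_⟩
  apply Subtype.ext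
  apply Units.ext
  show M * J 1 A.1 * M' = J 1 (B * A.1 * B')
  rw [e1, e2, J_mul, J_mul, mul_one, ha]

/-- Quotients of quasisimple groups are quasisimple. -/
theorem quasi_of_surj {L K : Type*} [Group L] [Group K] (hL : Cfsg.IsQuasisimple L) (f : L →* K)
    (hf : Function.Surjective f) [hK : Nontrivial K] : Cfsg.IsQuasisimple K := by
  haveI : Group.IsPerfect L := hL.1
  have hpK : Group.IsPerfect K := Group.IsPerfect.ofSurjective hf
  refine ⟨hpK, ?_⟩
  haveI : IsSimpleGroup (L ⧸ Subgroup.center L) := hL.2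
  have hcen : Subgroup.center L ≤ (Subgroup.center K).comap f := by
    intro z hz
    rw [Subgroup.mem_comap, Subgroup.mem_center_iff]
    intro k
    obtain ⟨l, rfl⟩ := hf k
    rw [← map_mul, ← map_mul, (Subgroup.mem_center_iff.1 hz) l]
  let g : L ⧸ Subgroup.center L →* K ⧸ Subgroup.center K := QuotientGroup.map _ _ f hcen
  have hg : Function.Surjective g := by
    intro q
    obtain ⟨k, rfl⟩ := QuotientGroup.mk_surjective q
    obtain ⟨l, rfl⟩ := hf k
    exact ⟨QuotientGroup.mk l, rfl⟩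
  haveI : Nontrivial (K ⧸ Subgroup.center K) := by
    by_contra hcon
    rw [not_nontrivial_iff_subsingleton] at hcon
    have htop : Subgroup.center K = ⊤ := by
      rw [eq_top_iff]
      intro x _
      exact (QuotientGroup.eq_one_iff x).1 (Subsingleton.elim _ _)
    have hcb : commutator K = ⊥ := by
      rw [eq_bot_iff, commutator_def, Subgroup.commutator_le]
      intro a _ b _
      have hb : b ∈ Subgroup.center K := by rw [htop]; trivial
      rw [Subgroup.mem_center_iff] at hb
      rw [Subgroup.mem_bot, commutatorElement_eq_one_iff_mul_comm]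
      exact hb a
    rw [hpK.commutator_eq_top] at hcb
    exact top_ne_bot hcb
  exact IsSimpleGroup.isSimpleGroup_of_surjective g hg

theorem neg_one_ne {F : Type*} [Field F] [Fintype F] (hF : Odd (Fintype.card F)) : (-1 : F) ≠ 1 := by
  intro h
  have h2 : ((2 : ℕ) : F) = 0 := by
    push_cast
    linear_combination (-1 : F) * h
  have hc := CharP.ringChar_of_prime_eq_zero Nat.prime_two h2
  have := FiniteField.even_card_of_char_two hc
  rw [Nat.odd_iff] at hF
  omega

theorem main {F : Type*} [Field F] [Fintype F] [DecidableEq F] (hF : Odd (Fintype.card F)) (n : ℕ)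
    (hn : 3 ≤ n) (h33 : ¬ (n = 3 ∧ Fintype.card F = 3)) :
    ∃ t : Matrix.GeneralLinearGroup (Fin n) F, orderOf t = 2 ∧
      t ∉ Subgroup.center (Matrix.GeneralLinearGroup (Fin n) F) ∧
      Cfsg.HasComponent (↥(Subgroup.centralizer ({t} : Set (Matrix.GeneralLinearGroup (Fin n) F))) ⧸
        Cfsg.oddCore ↥(Subgroup.centralizer ({t} : Set (Matrix.GeneralLinearGroup (Fin n) F)))) := by
  have hneg := neg_one_ne hF
  obtain ⟨k, rfl⟩ : ∃ k, n = k + 3 := ⟨n - 3, by omega⟩
  -- quasisimplicity of `SL`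
  have hn' : 3 ≤ k + 2 ∨ (k + 2 = 2 ∧ ∃ x : F, x ≠ 0 ∧ x ^ 2 ≠ 1) := by
    rcases Nat.eq_zero_or_pos k with h0 | h0
    · right
      refine ⟨by omega, ?_⟩
      have hc3 : Fintype.card F ≠ 3 := fun h => h33 ⟨by omega, h⟩
      have hc2 : 1 < Fintype.card F := Fintype.one_lt_card
      obtain ⟨c, hc⟩ := hF
      have hc5 : 3 < Fintype.card F := by omega
      have : ∃ x : F, x ∉ ({0, 1, -1} : Finset F) := by
        by_contra hcon
        push Not at hcon
        have h1 : (Finset.univ : Finset F) ⊆ {0, 1, -1} := fun x _ => hcon x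
        have h2 := Finset.card_le_card h1
        have h3 := Finset.card_le_three (a := (0 : F)) (b := 1) (c := -1)
        rw [Finset.card_univ] at h2
        omega
      obtain ⟨x, hx⟩ := this
      simp only [Finset.mem_insert, Finset.mem_singleton, not_or] at hx
      refine ⟨x, hx.1, ?_⟩
      intro h
      have h4 : (x - 1) * (x + 1) = 0 := by
        linear_combination h
      rcases mul_eq_zero.1 h4 with h5 | h5
      · exact hx.2.1 (sub_eq_zero.1 h5)
      · exact hx.2.2 (eq_neg_of_add_eq_zero_left h5)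
    · left
      omega
  have hSL : Cfsg.IsQuasisimple (Matrix.SpecialLinearGroup (Fin (k + 2)) F) :=
    ⟨⟨CfsgLib.H9.PSLSimple.perf hn'⟩, CfsgLib.H9.PSLSimple.simple hn'⟩
  set t := tt (k + 2) F with ht
  have htdef : (t : Matrix (Fin (k + 2 + 1)) (Fin (k + 2 + 1)) F) = J (-1) 1 := rfl
  refine ⟨t, ?_, ?_, ?_⟩
  · haveI : Fact (Nat.Prime 2) := ⟨Nat.prime_two⟩
    apply orderOf_eq_prime
    · apply Units.ext
      show (t : Matrix (Fin (k + 2 + 1)) (Fin (k + 2 + 1)) F) ^ 2 = 1
      rw [htdef, pow_two, J_mul, mul_one, neg_mul_neg, one_mul, J_one]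
    · intro h
      have h1 := congrArg (fun u : GL (Fin (k + 2 + 1)) F => (u : Matrix (Fin (k + 2 + 1)) (Fin (k + 2 + 1)) F) 0 0) h
      have h2 : (-1 : F) = 1 := h1
      exact hneg h2
  · intro hc
    rw [Subgroup.mem_center_iff] at hc
    let i0 : Fin (k + 2 + 1) := 0
    let i1 : Fin (k + 2) := 0
    have hne : i0 ≠ i1.succ := (Fin.succ_ne_zero _).symm
    let E : GL (Fin (k + 2 + 1)) F := Matrix.GeneralLinearGroup.mkOfDetNeZero (Matrix.transvection i0 i1.succ 1)
      (by rw [Matrix.det_transvection_of_ne _ _ hne]; exact one_ne_zero)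
    have h1 := hc E
    have h2 : (E : Matrix (Fin (k + 2 + 1)) (Fin (k + 2 + 1)) F) * J (-1) 1 = J (-1) 1 * (E : Matrix (Fin (k + 2 + 1)) (Fin (k + 2 + 1)) F) :=
      congrArg (fun u : GL (Fin (k + 2 + 1)) F => (u : Matrix (Fin (k + 2 + 1)) (Fin (k + 2 + 1)) F)) h1
    have h3 := (t_block hneg h2).1 i1
    have h4 : (E : Matrix (Fin (k + 2 + 1)) (Fin (k + 2 + 1)) F) 0 i1.succ = 1 := by
      show Matrix.transvection i0 i1.succ (1 : F) 0 i1.succ = 1
      simp [Matrix.transvection, Matrix.one_apply, i0, Matrix.single_apply, (Fin.succ_ne_zero _).symm]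
    rw [h4] at h3
    exact one_ne_zero h3
  · -- the component
    set C := Subgroup.centralizer ({t} : Set (GL (Fin (k + 2 + 1)) F)) with hC
    set O := Cfsg.oddCore ↥C with hO
    let f' : Matrix.SpecialLinearGroup (Fin (k + 2)) F →* (↥C ⧸ O) := (QuotientGroup.mk' O).comp (ff (k + 2) F)
    -- the involution of `SL`
    let A₀ : Matrix.SpecialLinearGroup (Fin (k + 2)) F :=
      ⟨J (-1) (J (-1) 1), by rw [J_det, J_det, Matrix.det_one]; ring⟩
    have hA₀sq : A₀ ^ 2 = 1 := by
      apply Subtype.ext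
      show (J (-1) (J (-1) 1) : Matrix (Fin (k + 2)) (Fin (k + 2)) F) ^ 2 = 1
      rw [pow_two, J_mul, J_mul, mul_one, neg_mul_neg, one_mul, J_one, J_one]
    have hf0 : ff (k + 2) F A₀ ≠ 1 := by
      intro h
      have h1 := congrArg (fun u : ↥C => ((u.1 : GL (Fin (k + 2 + 1)) F) : Matrix (Fin (k + 2 + 1)) (Fin (k + 2 + 1)) F) (Fin.succ 0) (Fin.succ 0)) h
      have h2 : (-1 : F) = 1 := h1
      exact hneg h2
    have hord : orderOf (ff (k + 2) F A₀) = 2 := by
      haveI : Fact (Nat.Prime 2) := ⟨Nat.prime_two⟩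
      apply orderOf_eq_prime
      · rw [← map_pow, hA₀sq, map_one]
      · exact hf0
    have hnot : ff (k + 2) F A₀ ∉ O := by
      intro hm
      have h1 := Subgroup.orderOf_dvd_natCard O hm
      rw [hord] at h1
      have h2 : (Nat.card O).Coprime 2 := CfsgLib.Solv.pPrimeCore_coprime 2
      have h3 := Nat.Coprime.eq_one_of_dvd h2.symm h1
      omega
    have hne1 : f' A₀ ≠ 1 := by
      intro h
      exact hnot ((QuotientGroup.eq_one_iff _).1 h)
    haveI : Nontrivial ↥f'.range := ⟨⟨⟨f' A₀, A₀, rfl⟩, 1, fun h => hne1 (congrArg Subtype.val h)⟩⟩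
    refine ⟨f'.range, ?_, quasi_of_surj hSL f'.rangeRestrict f'.rangeRestrict_surjective⟩
    apply Subgroup.Normal.isSubnormal
    constructor
    rintro _ ⟨A, rfl⟩ x
    obtain ⟨g, rfl⟩ := QuotientGroup.mk_surjective x
    obtain ⟨A', hA'⟩ := ff_conj hneg g A
    refine ⟨A', ?_⟩
    show QuotientGroup.mk (ff (k + 2) F A') = _
    rw [← hA']
    rfl

end CfsgLib.H9.GLComp
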