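import Mathlib

/-!
Dimensions of kernels of irreducible polynomials in an endomorphism commuting with a nilpotent.
-/
set_option autoImplicit false

namespace CfsgLib.H9.KerDim

open Polynomial Module

variable {F : Type*} [Field F] {V : Type*} [AddCommGroup V] [Module F V] [FiniteDimensional F V]

theorem commute_aeval {T N : Module.End F V} (h : Commute T N) (p : F[X]) : Commute (aeval T p) N := by
  induction p using Polynomial.induction_on' with
  | add p q hp hq =>
    rw [map_add]
    exact hp.add_left hq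
  | monomial k c =>
    rw [aeval_monomial, ← Algebra.smul_def]
    exact (h.pow_left k).smul_left c

theorem aeval_comm_apply {T N : Module.End F V} (h : Commute T N) (p : F[X]) (v : V) :
    aeval T p (N v) = N (aeval T p v) := by
  have := (commute_aeval h p).eq
  exact LinearMap.congr_fun this v

theorem aeval_mul_apply (T : Module.End F V) (p q : F[X]) (v : V) :
    aeval T (p * q) v = aeval T p (aeval T q v) := by
  rw [map_mul]; rfl

/-- Descent to an irreducible factor of the annihilator of a vector. -/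
theorem exists_ann (T : Module.End F V) (z : V) (hz : z ≠ 0) :
    ∀ (e : ℕ) (d : F[X]), d.natDegree ≤ e → d ≠ 0 → aeval T d z = 0 →
      ∃ f h : F[X], Irreducible f ∧ f.Monic ∧ f ∣ d ∧ aeval T h z ≠ 0 ∧ aeval T f (aeval T h z) = 0 := by
  intro e
  induction e with
  | zero =>
    intro d hd hd0 hz0
    exfalso
    have h1 : d = C (d.coeff 0) := eq_C_of_natDegree_le_zero hd
    rw [h1, aeval_C] at hz0
    have h2 : d.coeff 0 ≠ 0 := by
      intro h
      rw [h1, h] at hd0
      simp at hd0
    have h3 : (algebraMap F (Module.End F V) (d.coeff 0)) z = (d.coeff 0) • z := rfl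
    rw [h3] at hz0
    exact (smul_ne_zero h2 hz) hz0
  | succ e ih =>
    intro d hd hd0 hz0
    by_cases hu : IsUnit d
    · exfalso
      have h1 := natDegree_eq_zero_of_isUnit hu
      have h2 : d = C (d.coeff 0) := eq_C_of_natDegree_le_zero (by omega)
      rw [h2, aeval_C] at hz0
      have h3 : d.coeff 0 ≠ 0 := by
        intro h
        rw [h2, h] at hd0
        simp at hd0
      have h4 : (algebraMap F (Module.End F V) (d.coeff 0)) z = (d.coeff 0) • z := rfl
      rw [h4] at hz0
      exact (smul_ne_zero h3 hz) hz0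
    · obtain ⟨f, hfm, hfi, hfd⟩ := Polynomial.exists_monic_irreducible_factor d hu
      obtain ⟨d', rfl⟩ := hfd
      have hd'0 : d' ≠ 0 := right_ne_zero_of_mul hd0
      by_cases hc : aeval T d' z = 0
      · have hdeg : d'.natDegree ≤ e := by
          rw [natDegree_mul hfm.ne_zero hd'0] at hd
          have := hfi.natDegree_pos
          omega
        obtain ⟨f', h', h1, h2, h3, h4, h5⟩ := ih d' hdeg hd'0 hc
        exact ⟨f', h', h1, h2, h3.trans (Dvd.intro_left _ rfl), h4, h5⟩
      · refine ⟨f, d', hfi, hfm, Dvd.intro _ rfl, hc, ?_⟩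
        rw [← aeval_mul_apply]
        exact hz0

/-- Cancellation of a polynomial of small degree. -/
theorem eq_zero_of_small (T : Module.End F V) {f a : F[X]} (hf : Irreducible f) (ha : a ≠ 0)
    (hdeg : a.degree < f.degree) {y : V} (h1 : aeval T f y = 0) (h2 : aeval T a y = 0) : y = 0 := by
  have hnd : ¬ f ∣ a := by
    intro h
    exact absurd (degree_le_of_dvd h ha) (not_le.mpr hdeg)
  have hco : IsCoprime f a := (hf.coprime_iff_not_dvd).2 hnd
  obtain ⟨s, t, hst⟩ := hco
  have : (1 : V →ₗ[F] V) y = aeval T (s * f + t * a) y := by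
    rw [hst]; simp
  rw [map_add, LinearMap.add_apply, aeval_mul_apply, aeval_mul_apply, h1, h2, map_zero, map_zero, add_zero] at this
  simpa using this

/-- The kernel of an irreducible polynomial. -/
noncomputable abbrev KK (T : Module.End F V) (f : F[X]) : Submodule F V := LinearMap.ker (aeval T f)

/-- The evaluation map on polynomials of small degree. -/
noncomputable def ev (T : Module.End F V) (d : ℕ) (u : V) : degreeLT F d →ₗ[F] V :=
  ((LinearMap.applyₗ u) ∘ₗ (aeval T).toLinearMap) ∘ₗ (degreeLT F d).subtype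

theorem ev_apply (T : Module.End F V) (d : ℕ) (u : V) (a : degreeLT F d) : ev T d u a = aeval T (a : F[X]) u := rfl

theorem finrank_degreeLT (d : ℕ) : finrank F (degreeLT F d) = d := by
  rw [(degreeLTEquiv F d).finrank_eq]
  simp

theorem deg_lt {f : F[X]} (hf : Irreducible f) (a : degreeLT F f.natDegree) :
    (a : F[X]).degree < f.degree := by
  have h1 := (mem_degreeLT).1 a.2
  rwa [degree_eq_natDegree hf.ne_zero]

/-- One nonzero vector in the kernel gives the degree. -/
theorem deg_le_finrank_ker (T : Module.End F V) {f : F[X]} (hf : Irreducible f) {u : V} (hu : u ≠ 0)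
    (h : aeval T f u = 0) : f.natDegree ≤ finrank F (KK T f) := by
  have hinj : Function.Injective (ev T f.natDegree u) := by
    rw [← LinearMap.ker_eq_bot, LinearMap.ker_eq_bot']
    intro a ha
    rw [ev_apply] at ha
    by_contra ha0
    have ha1 : (a : F[X]) ≠ 0 := fun h0 => ha0 (Subtype.ext h0)
    exact hu (eq_zero_of_small T hf ha1 (deg_lt hf a) h ha)
  have hle : LinearMap.range (ev T f.natDegree u) ≤ KK T f := by
    rintro _ ⟨a, rfl⟩
    rw [LinearMap.mem_ker, ev_apply, ← aeval_mul_apply, mul_comm, aeval_mul_apply, h, map_zero]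
  have h1 := LinearMap.finrank_range_of_inj hinj
  rw [finrank_degreeLT] at h1
  rw [← h1]
  exact Submodule.finrank_mono hle

/-- Two independent vectors in the kernel give twice the degree. -/
theorem two_deg_le_finrank_ker {T N : Module.End F V} (hc : Commute T N) {f : F[X]} (hf : Irreducible f) {u : V}
    (hu : N u ≠ 0) (hu2 : N (N u) = 0) (h : aeval T f u = 0) : 2 * f.natDegree ≤ finrank F (KK T f) := by
  have hNu : aeval T f (N u) = 0 := by
    rw [aeval_comm_apply hc, h, map_zero]
  let ψ : (degreeLT F f.natDegree × degreeLT F f.natDegree) →ₗ[F] V :=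
    (ev T f.natDegree u).coprod (ev T f.natDegree (N u))
  have hψ : ∀ x, ψ x = aeval T (x.1 : F[X]) u + aeval T (x.2 : F[X]) (N u) := fun x => rfl
  have hinj : Function.Injective ψ := by
    rw [← LinearMap.ker_eq_bot, LinearMap.ker_eq_bot']
    rintro ⟨a, b⟩ hab
    rw [hψ] at hab
    simp only at hab
    have h1 : aeval T (a : F[X]) (N u) = 0 := by
      have := congrArg N hab
      rw [map_add, map_zero, ← aeval_comm_apply hc, ← aeval_comm_apply hc, hu2, map_zero, add_zero] at this
      exact this
    have ha0 : a = 0 := by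
      by_contra ha0
      have ha1 : (a : F[X]) ≠ 0 := fun h0 => ha0 (Subtype.ext h0)
      exact hu (eq_zero_of_small T hf ha1 (deg_lt hf a) hNu h1)
    have hb0 : b = 0 := by
      by_contra hb0
      have hb1 : (b : F[X]) ≠ 0 := fun h0 => hb0 (Subtype.ext h0)
      rw [ha0] at hab
      have h2 : aeval T (b : F[X]) (N u) = 0 := by simpa using hab
      exact hu (eq_zero_of_small T hf hb1 (deg_lt hf b) hNu h2)
    rw [ha0, hb0]
    rfl
  have hle : LinearMap.range ψ ≤ KK T f := by
    rintro _ ⟨⟨a, b⟩, rfl⟩
    rw [LinearMap.mem_ker, hψ, map_add, ← aeval_mul_apply, ← aeval_mul_apply, mul_comm, aeval_mul_apply, h,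
      mul_comm, aeval_mul_apply, hNu, map_zero, map_zero, add_zero]
  have h1 := LinearMap.finrank_range_of_inj hinj
  rw [finrank_prod, finrank_degreeLT] at h1
  have h2 := Submodule.finrank_mono hle
  omega

/-- The main dichotomy: a nilpotent commuting with a semisimple endomorphism forces a double factor. -/
theorem exists_double {T N : Module.End F V} (hc : Commute T N) (hN : N ≠ 0) (hnil : IsNilpotent N)
    (hsq : Squarefree (minpoly F T)) :
    ∃ f : F[X], Irreducible f ∧ f.Monic ∧ f ∣ minpoly F T ∧ 2 * f.natDegree ≤ finrank F (KK T f) := by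
  classical
  have hint : IsIntegral F T := Algebra.IsIntegral.isIntegral T
  have hm0 : minpoly F T ≠ 0 := minpoly.ne_zero hint
  -- a vector with `N w ≠ 0`, `N (N w) = 0`
  obtain ⟨w, hw1, hw2⟩ : ∃ w, N w ≠ 0 ∧ N (N w) = 0 := by
    obtain ⟨e, he⟩ := hnil
    have hex : ∃ j, N ^ j = 0 := ⟨e, he⟩
    set j := Nat.find hex with hj
    have hjs : N ^ j = 0 := Nat.find_spec hex
    have hj0 : j ≠ 0 := by
      intro h
      rw [h, pow_zero] at hjs
      apply hN
      rw [← mul_one N, hjs, mul_zero]
    have hj1 : j ≠ 1 := by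
      intro h
      rw [h, pow_one] at hjs
      exact hN hjs
    obtain ⟨i, hi⟩ : ∃ i, j = i + 2 := ⟨j - 2, by omega⟩
    have hmin : N ^ (i + 1) ≠ 0 := Nat.find_min hex (by omega)
    obtain ⟨u, hu⟩ : ∃ u, (N ^ (i + 1)) u ≠ 0 := by
      by_contra h
      push Not at h
      exact hmin (LinearMap.ext h)
    refine ⟨(N ^ i) u, ?_, ?_⟩
    · have : N ((N ^ i) u) = (N ^ (i + 1)) u := by
        rw [pow_succ']; rfl
      rwa [this]
    · have : N (N ((N ^ i) u)) = (N ^ (i + 2)) u := by
        rw [pow_succ', pow_succ']; rfl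
      rw [this, ← hi, hjs]
      rfl
  -- descent
  obtain ⟨f, h, hfi, hfm, hfd, hh1, hh2⟩ := exists_ann T (N w) hw1 _ (minpoly F T) le_rfl hm0 (by
    rw [minpoly.aeval]; rfl)
  obtain ⟨m', hm'⟩ := hfd
  have hco : IsCoprime f m' := by
    rw [hfi.coprime_iff_not_dvd]
    intro hdv
    obtain ⟨c, hc'⟩ := hdv
    have : f * f ∣ minpoly F T := ⟨c, by rw [hm', hc']; ring⟩
    exact hfi.not_isUnit (hsq f this)
  obtain ⟨a, b, hab⟩ := hco
  set w₁ := aeval T h w with hw₁
  have h1 : N w₁ ≠ 0 := by
    rw [hw₁, ← aeval_comm_apply hc]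
    exact hh1
  have h2 : N (N w₁) = 0 := by
    rw [hw₁, ← aeval_comm_apply hc, ← aeval_comm_apply hc, hw2, map_zero]
  have h3 : aeval T f (N w₁) = 0 := by
    rw [hw₁, ← aeval_comm_apply hc]
    exact hh2
  set w₂ := aeval T (b * m') w₁ with hw₂
  have h4 : aeval T f w₂ = 0 := by
    rw [hw₂, ← aeval_mul_apply]
    have : f * (b * m') = b * (minpoly F T) := by rw [hm']; ring
    rw [this, aeval_mul_apply, minpoly.aeval]
    simp
  have h5 : N w₂ = N w₁ := by
    rw [hw₂, ← aeval_comm_apply hc]
    have : aeval T (a * f + b * m') (N w₁) = N w₁ := by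
      rw [hab]; simp
    rw [map_add, LinearMap.add_apply, aeval_mul_apply T a f, h3, map_zero, zero_add] at this
    exact this
  refine ⟨f, hfi, hfm, Dvd.intro _ hm'.symm, ?_⟩
  exact two_deg_le_finrank_ker hc hfi (by rwa [h5]) (by rw [h5]; exact h2) h4

/-- Kernels of coprime polynomials are independent. -/
theorem finrank_add_le (T : Module.End F V) {f g : F[X]} (h : IsCoprime f g) :
    finrank F (KK T f) + finrank F (KK T g) ≤ finrank F V := by
  have hd : Disjoint (KK T f) (KK T g) := Polynomial.disjoint_ker_aeval_of_isCoprime T h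
  have h1 := Submodule.finrank_add_finrank_le_of_disjoint hd
  exact h1

/-- Any irreducible factor of the minimal polynomial has a nonzero kernel. -/
theorem exists_ker_vec (T : Module.End F V) {g : F[X]} (hg : Irreducible g) (hd : g ∣ minpoly F T) :
    g.natDegree ≤ finrank F (KK T g) := by
  have hint : IsIntegral F T := Algebra.IsIntegral.isIntegral T
  obtain ⟨c, hc⟩ := hd
  have hne : aeval T c ≠ 0 := by
    intro h0
    have h1 := minpoly.dvd F T h0
    have hm0 : minpoly F T ≠ 0 := minpoly.ne_zero hint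
    have h2 : c ≠ 0 := right_ne_zero_of_mul (hc ▸ hm0)
    have h3 : (minpoly F T).natDegree ≤ c.natDegree := natDegree_le_of_dvd h1 h2
    rw [hc, natDegree_mul hg.ne_zero h2] at h3
    have := hg.natDegree_pos
    omega
  obtain ⟨y, hy⟩ : ∃ y, aeval T c y ≠ 0 := by
    by_contra h
    push Not at h
    exact hne (LinearMap.ext h)
  apply deg_le_finrank_ker T hg hy
  rw [← aeval_mul_apply, ← hc, minpoly.aeval]
  rfl

end CfsgLib.H9.KerDim
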