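import Mathlib

/-! A minimal normal subgroup of a finite group is a direct power of a simple group. -/

set_option autoImplicit false

namespace CfsgLib.H9.MinNormal

variable {H : Type*} [Group H]

/-- `T` is a minimal normal subgroup of `N`, spelled out inside the big group. -/
structure Mini (N T : Subgroup H) : Prop where
  le : T ≤ N
  nrm : ∀ n ∈ N, ∀ t ∈ T, n * t * n⁻¹ ∈ T
  ne : T ≠ ⊥
  min : ∀ T₁ : Subgroup H, T₁ ≤ T → (∀ n ∈ N, ∀ t ∈ T₁, n * t * n⁻¹ ∈ T₁) → T₁ = ⊥ ∨ T₁ = T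

/-- Dichotomy: a minimal normal subgroup is inside a normal subgroup or meets it trivially and
commutes with it. -/
theorem Mini.alt {N T U : Subgroup H} (hT : Mini N T) (hU : U ≤ N)
    (hUn : ∀ n ∈ N, ∀ t ∈ U, n * t * n⁻¹ ∈ U) :
    T ≤ U ∨ (T ⊓ U = ⊥ ∧ ∀ t ∈ T, ∀ u ∈ U, t * u = u * t) := by
  rcases hT.min (T ⊓ U) inf_le_left (fun n hn t ht => ⟨hT.nrm n hn t ht.1, hUn n hn t ht.2⟩) with
    h | h
  · right
    refine ⟨h, fun t ht u hu => ?_⟩
    have hc : t * u * t⁻¹ * u⁻¹ ∈ T ⊓ U := by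
      constructor
      · have h1 := hT.nrm u (hU hu) _ (T.inv_mem ht)
        have e : t * u * t⁻¹ * u⁻¹ = t * (u * t⁻¹ * u⁻¹) := by group
        rw [e]
        exact T.mul_mem ht h1
      · have h1 := hUn t (hT.le ht) u hu
        exact U.mul_mem h1 (U.inv_mem hu)
    rw [h, Subgroup.mem_bot] at hc
    have e := mul_inv_eq_one.mp hc
    exact mul_inv_eq_iff_eq_mul.mp e
  · left
    intro t ht
    rw [← h] at ht
    exact ht.2

theorem Mini.conj {N T : Subgroup H} [hN : N.Normal] (hT : Mini N T) (g : H) :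
    Mini N (T.map (MulAut.conj g).toMonoidHom) := by
  have hmem : ∀ x : H, x ∈ T.map (MulAut.conj g).toMonoidHom ↔ g⁻¹ * x * g ∈ T := by
    intro y
    constructor
    · rintro ⟨x, hx, rfl⟩
      have : g⁻¹ * (MulAut.conj g).toMonoidHom x * g = x := by
        simp [MulAut.conj_apply, mul_assoc]
      rw [this]
      exact hx
    · intro hy
      refine ⟨_, hy, ?_⟩
      simp [MulAut.conj_apply, mul_assoc]
  refine ⟨?_, ?_, ?_, ?_⟩
  · rintro _ ⟨x, hx, rfl⟩
    exact hN.conj_mem x (hT.le hx) g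
  · intro n hn t ht
    rw [hmem] at ht ⊢
    have hk : g⁻¹ * n * g ∈ N := by
      have := hN.conj_mem n hn g⁻¹
      simpa using this
    have := hT.nrm _ hk _ ht
    have e : g⁻¹ * (n * t * n⁻¹) * g = g⁻¹ * n * g * (g⁻¹ * t * g) * (g⁻¹ * n * g)⁻¹ := by group
    rw [e]
    exact this
  · intro h
    apply hT.ne
    rw [Subgroup.eq_bot_iff_forall]
    intro t ht
    have : (MulAut.conj g).toMonoidHom t ∈ T.map (MulAut.conj g).toMonoidHom := ⟨t, ht, rfl⟩
    rw [h, Subgroup.mem_bot] at this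
    exact (MulAut.conj g).injective (this.trans (map_one _).symm)
  · intro T₁ hle hn
    let T₂ := T₁.map (MulAut.conj g⁻¹).toMonoidHom
    have hmem2 : ∀ x : H, x ∈ T₂ ↔ g * x * g⁻¹ ∈ T₁ := by
      intro y
      constructor
      · rintro ⟨x, hx, rfl⟩
        have : g * (MulAut.conj g⁻¹).toMonoidHom x * g⁻¹ = x := by
          simp [MulAut.conj_apply, mul_assoc]
        rw [this]
        exact hx
      · intro hy
        refine ⟨_, hy, ?_⟩
        simp [MulAut.conj_apply, mul_assoc]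
    have hle2 : T₂ ≤ T := by
      intro y hy
      rw [hmem2] at hy
      have := (hmem _).mp (hle hy)
      simpa [mul_assoc] using this
    have hn2 : ∀ n ∈ N, ∀ t ∈ T₂, n * t * n⁻¹ ∈ T₂ := by
      intro n hn' t ht
      rw [hmem2] at ht ⊢
      have hk : g * n * g⁻¹ ∈ N := hN.conj_mem n hn' g
      have := hn _ hk _ ht
      have e : g * (n * t * n⁻¹) * g⁻¹ = g * n * g⁻¹ * (g * t * g⁻¹) * (g * n * g⁻¹)⁻¹ := by group
      rw [e]
      exact this
    rcases hT.min T₂ hle2 hn2 with h | h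
    · left
      rw [Subgroup.eq_bot_iff_forall]
      intro x hx
      have hx2 : g⁻¹ * x * g ∈ T₂ := by
        rw [hmem2]
        have e : g * (g⁻¹ * x * g) * g⁻¹ = x := by group
        rw [e]
        exact hx
      rw [h, Subgroup.mem_bot] at hx2
      have e : x = g * (g⁻¹ * x * g) * g⁻¹ := by group
      rw [e, hx2]
      group
    · right
      apply le_antisymm hle
      intro x hx
      rw [hmem, ← h, hmem2] at hx
      have e : g * (g⁻¹ * x * g) * g⁻¹ = x := by group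
      rwa [e] at hx

theorem exists_mini [Finite H] (N : Subgroup H) (hN : N ≠ ⊥) : ∃ T, Mini N T := by
  classical
  let Pk : ℕ → Prop := fun k => ∃ T : Subgroup H, T ≤ N ∧ (∀ n ∈ N, ∀ t ∈ T, n * t * n⁻¹ ∈ T) ∧
    T ≠ ⊥ ∧ Nat.card T = k
  have hPk : ∃ k, Pk k :=
    ⟨_, N, le_rfl, fun n hn t ht => N.mul_mem (N.mul_mem hn ht) (N.inv_mem hn), hN, rfl⟩
  obtain ⟨T, hle, hn, hne, hk⟩ := Nat.find_spec hPk
  refine ⟨T, hle, hn, hne, fun T₁ h₁ hn₁ => ?_⟩
  by_cases hbot : T₁ = ⊥
  · exact Or.inl hbot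
  · right
    refine Subgroup.eq_of_le_of_card_ge h₁ ?_
    rw [hk]
    exact Nat.find_min' hPk ⟨T₁, h₁.trans hle, hn₁, hbot, rfl⟩

theorem normalClosure_eq {N T : Subgroup H} [hN : N.Normal]
    (hmin : ∀ M : Subgroup H, M.Normal → M ≤ N → M = ⊥ ∨ M = N) (hT : Mini N T) :
    Subgroup.normalClosure (T : Set H) = N := by
  rcases hmin _ Subgroup.normalClosure_normal (Subgroup.normalClosure_le_normal hT.le) with h | h
  · exfalso
    apply hT.ne
    rw [eq_bot_iff, ← h]
    exact Subgroup.le_normalClosure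
  · exact h

/-- A minimal normal subgroup of a minimal normal subgroup is simple. -/
theorem Mini.isSimple {N T : Subgroup H} [hN : N.Normal]
    (hmin : ∀ M : Subgroup H, M.Normal → M ≤ N → M = ⊥ ∨ M = N) (hT : Mini N T) :
    IsSimpleGroup T := by
  haveI : Nontrivial T := (Subgroup.nontrivial_iff_ne_bot T).mpr hT.ne
  refine ⟨fun V hV => ?_⟩
  let V₀ : Subgroup H := V.map T.subtype
  have hV₀ : V₀ ≤ T := Subgroup.map_subtype_le V
  have hconjT : ∀ x ∈ T, ∀ y ∈ V₀, x * y * x⁻¹ ∈ V₀ := by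
    rintro x hx _ ⟨v, hv, rfl⟩
    exact ⟨_, hV.conj_mem v hv ⟨x, hx⟩, rfl⟩
  have hNle : N ≤ Subgroup.normalizer (V₀ : Set H) := by
    rw [← normalClosure_eq hmin hT]
    unfold Subgroup.normalClosure
    rw [Subgroup.closure_le]
    intro x hx
    obtain ⟨t, ht, g, rfl⟩ : ∃ t ∈ T, ∃ g : H, x = g * t * g⁻¹ := by
      obtain ⟨t, ht, hx⟩ := Group.mem_conjugatesOfSet_iff.mp hx
      obtain ⟨g, hg⟩ := isConj_iff.mp hx
      exact ⟨t, ht, g, hg.symm⟩
    have hxU : g * t * g⁻¹ ∈ T.map (MulAut.conj g).toMonoidHom := ⟨t, ht, rfl⟩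
    rcases (hT.conj g).alt hT.le hT.nrm with hle | ⟨-, hc⟩
    · have hxT := hle hxU
      change _ ∈ Subgroup.normalizer (V₀ : Set H)
      rw [Subgroup.mem_normalizer_iff]
      intro y
      constructor
      · exact hconjT _ hxT y
      · intro hy
        have := hconjT _ (T.inv_mem hxT) _ hy
        simpa [mul_assoc] using this
    · change _ ∈ Subgroup.normalizer (V₀ : Set H)
      rw [Subgroup.mem_normalizer_iff]
      intro y
      constructor
      · intro hy
        have h1 := hc _ hxU y (hV₀ hy)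
        rw [h1, mul_inv_cancel_right]
        exact hy
      · intro hy
        by_cases hyT : y ∈ T
        · have h1 := hc _ hxU y hyT
          rw [h1, mul_inv_cancel_right] at hy
          exact hy
        · exact absurd (by
            have h2 := hV₀ hy
            have h3 : g * t * g⁻¹ ∈ N := (hT.conj g).le hxU
            have := hT.nrm _ (N.inv_mem h3) _ h2
            simpa [mul_assoc] using this) hyT
  rcases hT.min V₀ hV₀ (fun n hn t ht => by
      have := hNle hn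
      rw [Subgroup.mem_normalizer_iff] at this
      exact (this t).mp ht) with h | h
  · left
    rw [Subgroup.eq_bot_iff_forall]
    intro v hv
    have : (v : H) ∈ V₀ := ⟨v, hv, rfl⟩
    rw [h, Subgroup.mem_bot] at this
    exact Subtype.ext this
  · right
    rw [Subgroup.eq_top_iff']
    intro v
    have : (v : H) ∈ V₀ := by rw [h]; exact v.2
    obtain ⟨w, hw, hwv⟩ := this
    have : w = v := Subtype.ext hwv
    rwa [← this]

/-- `(Fin k → T) × T ≃* (Fin (k + 1) → T)`. -/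
def finSuccMul (T : Type*) [Group T] (k : ℕ) : (Fin k → T) × T ≃* (Fin (k + 1) → T) where
  toFun p := Fin.cons p.2 p.1
  invFun f := (Fin.tail f, f 0)
  left_inv p := by simp
  right_inv f := by simp
  map_mul' := by
    intro p q
    ext i
    refine Fin.cases ?_ (fun j => ?_) i <;> simp

/-- The inductive step: a proper normal direct power of `T` can be enlarged. -/
theorem step {N T : Subgroup H} [hN : N.Normal] [Finite H]
    (hmin : ∀ M : Subgroup H, M.Normal → M ≤ N → M = ⊥ ∨ M = N) (hT : Mini N T)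
    (K : Subgroup H) (hKN : K ≤ N) (hKn : ∀ n ∈ N, ∀ t ∈ K, n * t * n⁻¹ ∈ K) (hne : K ≠ N) (k : ℕ)
    (e : K ≃* (Fin k → T)) :
    ∃ K' : Subgroup H, K' ≤ N ∧ (∀ n ∈ N, ∀ t ∈ K', n * t * n⁻¹ ∈ K') ∧
      Nat.card K < Nat.card K' ∧ Nonempty (K' ≃* (Fin (k + 1) → T)) := by
  -- a conjugate outside `K`
  obtain ⟨g, hg⟩ : ∃ g : H, ¬ T.map (MulAut.conj g).toMonoidHom ≤ K := by
    by_contra hcon
    push Not at hcon
    apply hne
    apply le_antisymm hKN
    rw [← normalClosure_eq hmin hT]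
    unfold Subgroup.normalClosure
    rw [Subgroup.closure_le]
    intro x hx
    obtain ⟨t, ht, hx⟩ := Group.mem_conjugatesOfSet_iff.mp hx
    obtain ⟨c, hc⟩ := isConj_iff.mp hx
    exact hcon c ⟨t, ht, hc⟩
  set U := T.map (MulAut.conj g).toMonoidHom with hU
  have hUm : Mini N U := hT.conj g
  rcases hUm.alt hKN hKn with h | ⟨hinf, hcomm⟩
  · exact absurd h hg
  have hc' : ∀ (a : K) (b : U), Commute (K.subtype a) (U.subtype b) := fun a b =>
    (hcomm b b.2 a a.2).symm
  let φ : K × U →* H := MonoidHom.noncommCoprod K.subtype U.subtype hc'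
  have hφ : ∀ p : K × U, φ p = (p.1 : H) * p.2 := fun p => rfl
  have hinj : Function.Injective φ := by
    rw [injective_iff_map_eq_one]
    rintro ⟨a, b⟩ hab
    rw [hφ] at hab
    have h1 : (b : H) = (a : H)⁻¹ := eq_inv_of_mul_eq_one_right hab
    have h2 : (b : H) ∈ U ⊓ K := ⟨b.2, by rw [h1]; exact K.inv_mem a.2⟩
    rw [hinf, Subgroup.mem_bot] at h2
    have h3 : (a : H) = 1 := by
      rw [h2, mul_one] at hab
      exact hab
    exact Prod.ext (Subtype.ext h3) (Subtype.ext h2)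
  have hUiso : Nonempty (U ≃* T) := ⟨((MulAut.conj g).subgroupMap T).symm⟩
  obtain ⟨eU⟩ := hUiso
  refine ⟨φ.range, ?_, ?_, ?_, ⟨?_⟩⟩
  · rintro _ ⟨p, rfl⟩
    rw [hφ]
    exact N.mul_mem (hKN p.1.2) (hUm.le p.2.2)
  · rintro n hn _ ⟨p, rfl⟩
    rw [hφ]
    refine ⟨(⟨_, hKn n hn _ p.1.2⟩, ⟨_, hUm.nrm n hn _ p.2.2⟩), ?_⟩
    rw [hφ]
    group
  · have hle : K ≤ φ.range := fun x hx => ⟨(⟨x, hx⟩, 1), by rw [hφ]; simp⟩
    have hne' : K ≠ φ.range := by
      intro h
      apply hg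
      intro u hu
      rw [h]
      exact ⟨(1, ⟨u, hu⟩), by rw [hφ]; simp⟩
    by_contra hlt
    push Not at hlt
    exact hne' (Subgroup.eq_of_le_of_card_ge hle hlt)
  · exact (MonoidHom.ofInjective hinj).symm.trans ((MulEquiv.prodCongr e eU).trans (finSuccMul T k))

theorem exists_iso {N T : Subgroup H} [hN : N.Normal] [Finite H]
    (hmin : ∀ M : Subgroup H, M.Normal → M ≤ N → M = ⊥ ∨ M = N) (hT : Mini N T) :
    ∃ m, Nonempty (N ≃* (Fin m → T)) := by
  have key : ∀ d : ℕ, ∀ (K : Subgroup H) (k : ℕ), Nat.card N - Nat.card K ≤ d → K ≤ N →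
      (∀ n ∈ N, ∀ t ∈ K, n * t * n⁻¹ ∈ K) → Nonempty (K ≃* (Fin k → T)) →
      ∃ m, Nonempty (N ≃* (Fin m → T)) := by
    intro d
    induction d with
    | zero =>
      intro K k hd hKN hKn ⟨e⟩
      have hle := Subgroup.card_le_of_le hKN
      have : K = N := Subgroup.eq_of_le_of_card_ge hKN (by omega)
      subst this
      exact ⟨k, ⟨e⟩⟩
    | succ d ih =>
      intro K k hd hKN hKn ⟨e⟩
      by_cases hne : K = N
      · subst hne
        exact ⟨k, ⟨e⟩⟩
      · obtain ⟨K', hK'N, hK'n, hlt, he'⟩ := step hmin hT K hKN hKn hne k e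
        refine ih K' (k + 1) ?_ hK'N hK'n he'
        omega
  exact key _ ⊥ 0 le_rfl bot_le (fun n _ t ht => by
    rw [Subgroup.mem_bot] at ht ⊢
    rw [ht]; group) ⟨MulEquiv.ofUnique⟩

/-- A minimal normal subgroup of a finite group is a direct power of a simple group. -/
theorem main {H : Type*} [Group H] [Finite H] (N : Subgroup H) [N.Normal] (hN : N ≠ ⊥)
    (hmin : ∀ M : Subgroup H, M.Normal → M ≤ N → M = ⊥ ∨ M = N) :
    ∃ (T : Type) (_ : Group T) (m : ℕ), IsSimpleGroup T ∧ 0 < m ∧ Nonempty (N ≃* (Fin m → T)) := by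
  obtain ⟨T₀, hT₀⟩ := exists_mini N hN
  obtain ⟨m, ⟨e⟩⟩ := exists_iso hmin hT₀
  have hsimple := hT₀.isSimple hmin
  let c := Nat.card T₀
  let e₀ : T₀ ≃ {x : ℕ // x < c} := (Finite.equivFin T₀).trans Fin.equivSubtype
  letI grp : Group {x : ℕ // x < c} := e₀.symm.group
  let e₁ : {x : ℕ // x < c} ≃* T₀ := e₀.symm.mulEquiv
  refine ⟨{x : ℕ // x < c}, grp, m, e₁.isSimpleGroup, ?_, ⟨e.trans (MulEquiv.piCongrRight fun _ => e₁.symm)⟩⟩
  by_contra hm
  have hm0 : m = 0 := by omega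
  subst hm0
  apply hN
  rw [Subgroup.eq_bot_iff_forall]
  intro x hx
  have h1 : e ⟨x, hx⟩ = e 1 := Subsingleton.elim _ _
  have := e.injective h1
  exact congrArg Subtype.val this

end CfsgLib.H9.MinNormal
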