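import Mathlib
import Cfsg.Agent.Lib.H9.SemisMat

/-!
Tools for prime-graph statements: cyclotomic factors, minimal polynomials, lifting to `PSL`.
-/
set_option autoImplicit false
open scoped MatrixGroups

namespace CfsgLib.H9.PGraph

open Polynomial

variable {F : Type*} [Field F] [Fintype F]

/-- Divisibility of `X^j - 1` by an irreducible factor of a cyclotomic polynomial. -/
theorem dvd_pow_iff {g : F[X]} (hg : Irreducible g) {d : ℕ} (hd : (d : F) ≠ 0)
    (hg' : g ∣ cyclotomic d F) (j : ℕ) : g ∣ X ^ j - 1 ↔ d ∣ j := by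
  haveI : Fact (Irreducible g) := ⟨hg⟩
  let α : AdjoinRoot g := AdjoinRoot.root g
  haveI : NeZero ((d : ℕ) : AdjoinRoot g) := by
    refine ⟨?_⟩
    intro h
    apply hd
    have : algebraMap F (AdjoinRoot g) (d : F) = 0 := by simpa using h
    exact (map_eq_zero_iff _ (algebraMap F (AdjoinRoot g)).injective).mp this
  have hprim : IsPrimitiveRoot α d := by
    rw [← isRoot_cyclotomic_iff]
    obtain ⟨c, hc⟩ := hg'
    have h1 : cyclotomic d (AdjoinRoot g) = (cyclotomic d F).map (algebraMap F (AdjoinRoot g)) := by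
      rw [map_cyclotomic]
    rw [h1, IsRoot.def, eval_map_algebraMap, hc, map_mul]
    have h2 : aeval α g = 0 := by
      simp only [α]
      rw [AdjoinRoot.aeval_eq, AdjoinRoot.mk_self]
    rw [h2, zero_mul]
  have h3 : g ∣ X ^ j - 1 ↔ α ^ j = 1 := by
    rw [← AdjoinRoot.mk_eq_zero]
    simp only [map_sub, map_pow, AdjoinRoot.mk_X, map_one, α, sub_eq_zero]
  rw [h3]
  exact hprim.pow_eq_one_iff_dvd j

/-- The degree of an irreducible factor of a cyclotomic polynomial. -/
theorem deg_factor (p : ℕ) [Fact p.Prime] [CharP F p] {g : F[X]} (hg : Irreducible g) {d : ℕ}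
    (hd : p.Coprime d) (hg' : g ∣ cyclotomic d F) :
    g.natDegree = orderOf ((Fintype.card F : ℕ) : ZMod d) := by
  obtain ⟨f, -, hf⟩ := FiniteField.card F p
  have h := natDegree_of_dvd_cyclotomic_of_irreducible (K := F) (p := p) (f := f) hf hd hg' hg
  rw [h, ← orderOf_units]
  congr 1
  rw [ZMod.coe_unitOfCoprime, hf]

theorem exists_factor {d : ℕ} (hd : 2 ≤ d) :
    ∃ g : F[X], g.Monic ∧ Irreducible g ∧ g ∣ cyclotomic d F := by
  apply Polynomial.exists_monic_irreducible_factor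
  intro h
  have h1 := natDegree_eq_zero_of_isUnit h
  rw [natDegree_cyclotomic] at h1
  have := Nat.totient_pos.mpr (by omega : 0 < d)
  omega

/-- A matrix with `A ^ N = 1` and `A ^ d ≠ 1`, `d ∣ N`, has a factor of its minimal polynomial
dividing a cyclotomic polynomial of an index not dividing `d`. -/
theorem exists_factor_of_pow_ne {n : ℕ} (A : Matrix (Fin n) (Fin n) F) {N d : ℕ} (hN : N ≠ 0)
    (hA : A ^ N = 1) (hd : d ∣ N) (hAd : A ^ d ≠ 1) :
    ∃ (x : ℕ) (g : F[X]), x ∣ N ∧ ¬ x ∣ d ∧ Irreducible g ∧ g.Monic ∧ g ∣ minpoly F A ∧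
      g ∣ cyclotomic x F := by
  classical
  have hprod := X_pow_sub_one_mul_prod_cyclotomic_eq_X_pow_sub_one_of_dvd F hd hN
  set C := ∏ x ∈ N.divisors \ d.divisors, cyclotomic x F with hC
  have hint : IsIntegral F A := Matrix.isIntegral A
  have hmN : minpoly F A ∣ (X ^ d - 1) * C := by
    rw [hprod]
    apply minpoly.dvd
    simp [hA]
  have hC0 : C ≠ 0 := by
    apply Finset.prod_ne_zero_iff.mpr
    intro x _
    exact cyclotomic_ne_zero x F
  by_cases hco : IsCoprime (minpoly F A) C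
  · exfalso
    apply hAd
    have h1 : minpoly F A ∣ X ^ d - 1 := hco.dvd_of_dvd_mul_right hmN
    obtain ⟨c, hc⟩ := h1
    have h2 : aeval A (X ^ d - 1 : F[X]) = 0 := by
      rw [hc, map_mul, minpoly.aeval, zero_mul]
    simpa [sub_eq_zero] using h2
  · have hG : ¬ IsUnit (EuclideanDomain.gcd (minpoly F A) C) := by
      rwa [EuclideanDomain.gcd_isUnit_iff]
    obtain ⟨g, hgm, hgi, hgd⟩ := Polynomial.exists_monic_irreducible_factor _ hG
    have h1 : g ∣ minpoly F A := hgd.trans (EuclideanDomain.gcd_dvd_left _ _)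
    have h2 : g ∣ C := hgd.trans (EuclideanDomain.gcd_dvd_right _ _)
    rw [hC, Prime.dvd_finsetProd_iff hgi.prime] at h2
    obtain ⟨x, hx, hgx⟩ := h2
    rw [Finset.mem_sdiff, Nat.mem_divisors, Nat.mem_divisors] at hx
    refine ⟨x, g, hx.1.1, ?_, hgi, hgm, h1, hgx⟩
    intro hxd
    apply hx.2
    refine ⟨hxd, ?_⟩
    intro hd0
    subst hd0
    exact hN (Nat.eq_zero_of_zero_dvd hd)

theorem deg_minpoly_le {n : ℕ} (A : Matrix (Fin n) (Fin n) F) : (minpoly F A).natDegree ≤ n := by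
  have h1 := Matrix.minpoly_dvd_charpoly A
  have h2 := Polynomial.natDegree_le_of_dvd h1 (Matrix.charpoly_monic A).ne_zero
  rwa [Matrix.charpoly_natDegree_eq_dim, Fintype.card_fin] at h2

/-- Existence of an invertible matrix with prescribed characteristic polynomial, and the
behaviour of its powers. -/
theorem exists_gl_pow (p : ℕ) [Fact p.Prime] [CharP F p] {n : ℕ} (f : F[X]) (hf : f.Monic)
    (hd : f.natDegree = n) (h0 : f.coeff 0 ≠ 0) {N e : ℕ} (hN : N ≠ 0) (he : e ≠ 0)
    (hfN : f ∣ (X ^ N - 1) ^ e) :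
    ∃ x : GL (Fin n) F, (orderOf x).Coprime p ∧ x ^ N = 1 ∧
      ((x : Matrix (Fin n) (Fin n) F).charpoly = f) ∧
      ∀ (g : F[X]) (j : ℕ), Irreducible g → g.Monic → g ∣ f → x ^ j = 1 → g ∣ X ^ j - 1 := by
  classical
  obtain ⟨x, hxp, hxc⟩ := CfsgLib.H9.SemisMat.exists_gl_charpoly p f hf hd h0
  have hpp : p.Prime := Fact.out
  have hord : 0 < orderOf x := orderOf_pos x
  have hm0 : ((orderOf x : ℕ) : F) ≠ 0 := by
    intro h
    have h1 := (CharP.cast_eq_zero_iff F p _).1 h
    have := Nat.Coprime.eq_one_of_dvd hxp.symm h1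
    exact hpp.one_lt.ne' this
  have hmat : ∀ j : ℕ, ((x ^ j : GL (Fin n) F) : Matrix (Fin n) (Fin n) F) =
      (x : Matrix (Fin n) (Fin n) F) ^ j := fun j => by simp
  set A : Matrix (Fin n) (Fin n) F := (x : Matrix (Fin n) (Fin n) F) with hA
  have hAo : A ^ orderOf x = 1 := by
    rw [← hmat, pow_orderOf_eq_one, Units.val_one]
  have hdiv : minpoly F A ∣ X ^ orderOf x - C (1 : F) := by
    apply minpoly.dvd
    simp [hAo]
  have hsq : Squarefree (minpoly F A) :=
    ((separable_X_pow_sub_C (1 : F) hm0 one_ne_zero).squarefree).squarefree_of_dvd hdiv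
  have hss : (CfsgLib.H9.SemisMat.lin A).IsSemisimple :=
    CfsgLib.H9.SemisMat.ss_of_pow p A (orderOf x) hord hxp hAo
  refine ⟨x, hxp, ?_, hxc, ?_⟩
  · have h1 : minpoly F A ∣ f := by
      rw [← hxc]
      exact Matrix.minpoly_dvd_charpoly A
    have h2 : minpoly F A ∣ (X ^ N - 1) ^ e := h1.trans hfN
    have h3 : minpoly F A ∣ X ^ N - 1 := (hsq.dvd_pow_iff_dvd he).mp h2
    obtain ⟨c, hc⟩ := h3
    have h4 : aeval A (X ^ N - 1 : F[X]) = 0 := by
      rw [hc, map_mul, minpoly.aeval, zero_mul]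
    have h5 : A ^ N = 1 := by simpa [sub_eq_zero] using h4
    apply Units.ext
    rw [hmat, Units.val_one, h5]
  · intro g j hgi hgm hgf hj
    have h1 : g ∣ (CfsgLib.H9.SemisMat.lin A).charpoly := by
      rw [CfsgLib.H9.SemisMat.charpoly_lin, hxc]; exact hgf
    have h2 := CfsgLib.H9.Semis.dvd_minpoly _ (Fin n → F) (CfsgLib.H9.SemisMat.lin A) hss rfl g hgi hgm h1
    have h3 : minpoly F (CfsgLib.H9.SemisMat.lin A) = minpoly F A :=
      minpoly.algEquiv_eq (Matrix.toLinAlgEquiv' (R := F) (n := Fin n)) A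
    rw [h3] at h2
    refine h2.trans ?_
    apply minpoly.dvd
    have : A ^ j = 1 := by
      rw [← hmat, hj, Units.val_one]
    simp [this]

section PSL

variable {n : ℕ}

theorem center_pow [NeZero n] (z : Matrix.SpecialLinearGroup (Fin n) F)
    (hz : z ∈ Subgroup.center (Matrix.SpecialLinearGroup (Fin n) F)) :
    z ^ (Fintype.card F - 1) = 1 := by
  rw [Matrix.SpecialLinearGroup.mem_center_iff] at hz
  obtain ⟨r, hr, hrz⟩ := hz
  have hr0 : r ≠ 0 := by
    rintro rfl
    have hn : n ≠ 0 := NeZero.ne n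
    rw [Fintype.card_fin, zero_pow hn] at hr
    exact zero_ne_one hr
  apply Subtype.ext
  rw [Matrix.SpecialLinearGroup.coe_pow, Matrix.SpecialLinearGroup.coe_one, ← hrz]
  rw [Matrix.scalar_apply, Matrix.diagonal_pow, ← Matrix.diagonal_one]
  congr 1
  ext i
  simp [FiniteField.pow_card_sub_one_eq_one r hr0]

/-- Images in `PSL` of elements whose order is prime to `q - 1`. -/
theorem psl_image [NeZero n] (x : Matrix.SpecialLinearGroup (Fin n) F)
    (hcop : (orderOf x).Coprime (Fintype.card F - 1)) :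
    orderOf (x : Matrix.ProjectiveSpecialLinearGroup (Fin n) F) = orderOf x := by
  apply Nat.dvd_antisymm
  · exact orderOf_map_dvd (QuotientGroup.mk' _) x
  · set j := orderOf (x : Matrix.ProjectiveSpecialLinearGroup (Fin n) F) with hj
    have h1 : (x : Matrix.ProjectiveSpecialLinearGroup (Fin n) F) ^ j = 1 := pow_orderOf_eq_one _
    rw [← QuotientGroup.mk_pow, QuotientGroup.eq_one_iff] at h1
    have h2 := center_pow _ h1
    rw [← pow_mul] at h2
    have h3 := orderOf_dvd_of_pow_eq_one h2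
    exact hcop.dvd_of_dvd_mul_right h3

/-- Lifts to `SL` of elements of `PSL` of order prime to `q - 1`. -/
theorem psl_lift [NeZero n] (g : Matrix.ProjectiveSpecialLinearGroup (Fin n) F)
    (hcop : (orderOf g).Coprime (Fintype.card F - 1)) :
    ∃ x : Matrix.SpecialLinearGroup (Fin n) F, orderOf x = orderOf g ∧
      (x : Matrix.ProjectiveSpecialLinearGroup (Fin n) F) = g := by
  obtain ⟨x₀, rfl⟩ := QuotientGroup.mk_surjective g
  set N := orderOf (x₀ : Matrix.ProjectiveSpecialLinearGroup (Fin n) F) with hN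
  set c := Fintype.card F - 1 with hc
  let t := Nat.chineseRemainder hcop 1 0
  have ht1 : (t : ℕ) ≡ 1 [MOD N] := t.2.1
  have ht2 : (t : ℕ) ≡ 0 [MOD c] := t.2.2
  have hcdvd : c ∣ (t : ℕ) := (Nat.modEq_zero_iff_dvd).mp ht2
  have h1 : (x₀ : Matrix.ProjectiveSpecialLinearGroup (Fin n) F) ^ N = 1 := pow_orderOf_eq_one _
  have h1' := h1
  rw [← QuotientGroup.mk_pow, QuotientGroup.eq_one_iff] at h1'
  have h2 := center_pow _ h1'
  have hpow : (x₀ ^ (t : ℕ)) ^ N = 1 := by
    obtain ⟨u, hu⟩ := hcdvd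
    rw [← pow_mul, mul_comm, pow_mul, hu, pow_mul, h2, one_pow]
  have himg : ((x₀ ^ (t : ℕ) : Matrix.SpecialLinearGroup (Fin n) F) :
      Matrix.ProjectiveSpecialLinearGroup (Fin n) F) = (x₀ : Matrix.ProjectiveSpecialLinearGroup (Fin n) F) := by
    rw [QuotientGroup.mk_pow, ← pow_mod_orderOf, ← hN]
    have : (t : ℕ) % N = 1 % N := ht1
    rw [this, pow_mod_orderOf, pow_one]
  refine ⟨x₀ ^ (t : ℕ), ?_, himg⟩
  apply Nat.dvd_antisymm
  · exact orderOf_dvd_of_pow_eq_one hpow
  · have := orderOf_map_dvd (QuotientGroup.mk' (Subgroup.center (Matrix.SpecialLinearGroup (Fin n) F))) (x₀ ^ (t : ℕ))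
    have h5 : (QuotientGroup.mk' (Subgroup.center (Matrix.SpecialLinearGroup (Fin n) F))) (x₀ ^ (t : ℕ)) =
        (x₀ : Matrix.ProjectiveSpecialLinearGroup (Fin n) F) := himg
    rwa [h5] at this

/-- Invertible matrices of order prime to `q - 1` have determinant `1`. -/
theorem gl_to_sl (x : GL (Fin n) F) (hcop : (orderOf x).Coprime (Fintype.card F - 1)) :
    ∃ y : Matrix.SpecialLinearGroup (Fin n) F, orderOf y = orderOf x ∧
      (y : Matrix (Fin n) (Fin n) F) = (x : Matrix (Fin n) (Fin n) F) := by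
  have hdet0 : (x : Matrix (Fin n) (Fin n) F).det ≠ 0 :=
    ((Matrix.isUnit_iff_isUnit_det _).1 x.isUnit).ne_zero
  have h1 : (x : Matrix (Fin n) (Fin n) F).det ^ orderOf x = 1 := by
    rw [← Matrix.det_pow, ← Units.val_pow_eq_pow_val, pow_orderOf_eq_one, Units.val_one, Matrix.det_one]
  have h2 : (x : Matrix (Fin n) (Fin n) F).det ^ (Fintype.card F - 1) = 1 :=
    FiniteField.pow_card_sub_one_eq_one _ hdet0
  have h3 : (x : Matrix (Fin n) (Fin n) F).det = 1 := by
    have h4 := pow_gcd_eq_one.mpr ⟨h1, h2⟩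
    have h5 : Nat.gcd (orderOf x) (Fintype.card F - 1) = 1 := hcop
    rwa [h5, pow_one] at h4
  let y : Matrix.SpecialLinearGroup (Fin n) F := ⟨x, h3⟩
  have hinj : Function.Injective (Matrix.SpecialLinearGroup.toGL (n := Fin n) (R := F)) :=
    Matrix.SpecialLinearGroup.toGL_injective
  refine ⟨y, ?_, rfl⟩
  rw [← orderOf_injective _ hinj y]
  congr 1
  apply Units.ext
  rfl

end PSL

end CfsgLib.H9.PGraph
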