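import Mathlib
import Cfsg.Agent.Lib.H9.PGraph
import Cfsg.Agent.Lib.H9.CommP

/-!
Adjacency of two odd primes in the prime graph of `PSL_n(q)`.
-/
set_option autoImplicit false
open scoped MatrixGroups

namespace CfsgLib.H9.PGraph

open Polynomial

theorem orderOf_mul_zmod (q r s : ℕ) (hrs : r.Coprime s) :
    orderOf ((q : ℕ) : ZMod (r * s)) =
      Nat.lcm (orderOf ((q : ℕ) : ZMod r)) (orderOf ((q : ℕ) : ZMod s)) := by
  have key : ∀ (m j : ℕ), ((q : ℕ) : ZMod m) ^ j = 1 ↔ q ^ j ≡ 1 [MOD m] := by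
    intro m j
    rw [← ZMod.natCast_eq_natCast_iff]
    push_cast
    rfl
  apply Nat.dvd_antisymm
  · apply orderOf_dvd_of_pow_eq_one
    rw [key, ← Nat.modEq_and_modEq_iff_modEq_mul hrs, ← key, ← key]
    constructor
    · exact orderOf_dvd_iff_pow_eq_one.mp (Nat.dvd_lcm_left _ _)
    · exact orderOf_dvd_iff_pow_eq_one.mp (Nat.dvd_lcm_right _ _)
  · have h := pow_orderOf_eq_one ((q : ℕ) : ZMod (r * s))
    rw [key, ← Nat.modEq_and_modEq_iff_modEq_mul hrs, ← key, ← key] at h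
    exact Nat.lcm_dvd (orderOf_dvd_of_pow_eq_one h.1) (orderOf_dvd_of_pow_eq_one h.2)

variable {F : Type*} [Field F] [Fintype F]

theorem coeff_ne {f : F[X]} {N e : ℕ} (hN : N ≠ 0) (hfN : f ∣ (X ^ N - 1) ^ e) : f.coeff 0 ≠ 0 := by
  obtain ⟨c, hc⟩ := hfN
  rw [coeff_zero_eq_eval_zero]
  intro h
  have h1 := congrArg (eval 0) hc
  rw [eval_mul, h, zero_mul] at h1
  simp [hN] at h1

theorem not_dvd_sub_one {r : ℕ} (hk : 2 ≤ orderOf ((Fintype.card F : ℕ) : ZMod r)) :
    ¬ r ∣ Fintype.card F - 1 := by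
  intro h
  have hq : 1 ≤ Fintype.card F := Fintype.card_pos
  have h1 : ((Fintype.card F : ℕ) : ZMod r) = 1 := by
    have : Fintype.card F ≡ 1 [MOD r] := ((Nat.modEq_iff_dvd' hq).mpr h).symm
    have := (ZMod.natCast_eq_natCast_iff _ _ _).mpr this
    simpa using this
  rw [h1, orderOf_one] at hk
  omega

theorem order_le_of_dvd_card (p : ℕ) [Fact p.Prime] [CharP F p] {n s : ℕ} [NeZero n] (hs : s.Prime) (hsp : s ≠ p)
    (hsG : s ∣ Nat.card (Matrix.ProjectiveSpecialLinearGroup (Fin n) F)) :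
    orderOf ((Fintype.card F : ℕ) : ZMod s) ≤ n := by
  have hpp : p.Prime := Fact.out
  have h1 : s ∣ Nat.card (Matrix.SpecialLinearGroup (Fin n) F) :=
    hsG.trans (Subgroup.card_quotient_dvd_card _)
  have h2 : s ∣ Nat.card (GL (Fin n) F) := by
    refine h1.trans ?_
    exact Subgroup.card_dvd_of_injective _ Matrix.SpecialLinearGroup.toGL_injective
  rw [Matrix.card_GL_field] at h2
  obtain ⟨j, -, hj⟩ := (Prime.dvd_finsetProd_iff hs.prime _).1 h2
  have hjn : (j : ℕ) < n := j.2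
  have e1 : Fintype.card F ^ n - Fintype.card F ^ (j : ℕ) =
      Fintype.card F ^ (j : ℕ) * (Fintype.card F ^ (n - j) - 1) := by
    rw [Nat.mul_sub, mul_one, ← pow_add, Nat.add_sub_cancel' hjn.le]
  rw [e1] at hj
  have hco : s.Coprime (Fintype.card F) := CfsgLib.H9.CommP.not_dvd_card (F := F) p s hpp hs hsp
  have h3 : s ∣ Fintype.card F ^ (n - j) - 1 := Nat.Coprime.dvd_of_dvd_mul_left (Nat.Coprime.pow_right _ hco) hj
  have h4 : ((Fintype.card F : ℕ) : ZMod s) ^ (n - (j : ℕ)) = 1 := by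
    have hq1 : 1 ≤ Fintype.card F ^ (n - (j : ℕ)) := Nat.one_le_pow _ _ Fintype.card_pos
    have : Fintype.card F ^ (n - (j : ℕ)) ≡ 1 [MOD s] := ((Nat.modEq_iff_dvd' hq1).mpr h3).symm
    have := (ZMod.natCast_eq_natCast_iff _ _ _).mpr this
    simpa using this
  have h5 := orderOf_dvd_of_pow_eq_one h4
  have h6 := Nat.le_of_dvd (by omega) h5
  omega

theorem cast_ne_of_ne (p : ℕ) [Fact p.Prime] [CharP F p] {r : ℕ} (hr : r.Prime) (hrp : r ≠ p) : (r : F) ≠ 0 := by
  intro h
  have h1 := (CharP.cast_eq_zero_iff F p r).1 h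
  have hpp : p.Prime := Fact.out
  exact hrp ((Nat.prime_dvd_prime_iff_eq hpp hr).1 h1).symm

set_option maxHeartbeats 1000000 in
theorem main_2468 (p : ℕ) [Fact p.Prime] [CharP F p] (n : ℕ) (hn : 2 ≤ n)
    (r s : ℕ) (hr : r.Prime) (hs : s.Prime) (hrp : r ≠ p) (hsp : s ≠ p) (hrs : r ≠ s)
    (hsG : s ∣ Nat.card (Matrix.ProjectiveSpecialLinearGroup (Fin n) F))
    (k l : ℕ) (hk : k = orderOf ((Fintype.card F : ℕ) : ZMod r)) (hl : l = orderOf ((Fintype.card F : ℕ) : ZMod s))
    (h2k : 2 ≤ k) (hkl : k ≤ l) :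
    (r * s ∉ Set.range (orderOf : Matrix.ProjectiveSpecialLinearGroup (Fin n) F → ℕ)) ↔ (n < k + l ∧ ¬ k ∣ l) := by
  classical
  haveI : NeZero n := ⟨by omega⟩
  have hpp : p.Prime := Fact.out
  have hrq : ¬ r ∣ Fintype.card F - 1 := not_dvd_sub_one (by rw [← hk]; exact h2k)
  have hsq : ¬ s ∣ Fintype.card F - 1 := not_dvd_sub_one (by rw [← hl]; omega)
  have hcop : (r * s).Coprime (Fintype.card F - 1) :=
    Nat.Coprime.mul_left ((Nat.Prime.coprime_iff_not_dvd hr).2 hrq) ((Nat.Prime.coprime_iff_not_dvd hs).2 hsq)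
  have hrs' : r.Coprime s := (Nat.coprime_primes hr hs).2 hrs
  have hr0 : (r : F) ≠ 0 := cast_ne_of_ne p hr hrp
  have hs0 : (s : F) ≠ 0 := cast_ne_of_ne p hs hsp
  have hrs0 : ((r * s : ℕ) : F) ≠ 0 := by
    push_cast
    exact mul_ne_zero hr0 hs0
  have hN0 : r * s ≠ 0 := Nat.mul_ne_zero hr.ne_zero hs.ne_zero
  have hpr : p.Coprime r := (Nat.coprime_primes hpp hr).2 hrp.symm
  have hps : p.Coprime s := (Nat.coprime_primes hpp hs).2 hsp.symm
  have hprs : p.Coprime (r * s) := Nat.Coprime.mul_right hpr hps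
  have hlcm : orderOf ((Fintype.card F : ℕ) : ZMod (r * s)) = Nat.lcm k l := by
    rw [orderOf_mul_zmod _ _ _ hrs', ← hk, ← hl]
  have hrns : ¬ r ∣ s := fun h => hrs ((Nat.prime_dvd_prime_iff_eq hr hs).1 h)
  have hsnr : ¬ s ∣ r := fun h => hrs ((Nat.prime_dvd_prime_iff_eq hs hr).1 h).symm
  have hrsns : ¬ r * s ∣ s := fun h => hrns ((Dvd.intro _ rfl).trans h)
  have hrsnr : ¬ r * s ∣ r := fun h => hsnr ((Dvd.intro_left _ rfl).trans h)
  -- construction of the element from a suitable characteristic polynomial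
  have build : ∀ f : F[X], f.Monic → f.natDegree = n → ∀ e : ℕ, e ≠ 0 → f ∣ (X ^ (r * s) - 1) ^ e →
      (∀ x : GL (Fin n) F, x ^ (r * s) = 1 →
        (∀ (g : F[X]) (j : ℕ), Irreducible g → g.Monic → g ∣ f → x ^ j = 1 → g ∣ X ^ j - 1) →
          x ^ s ≠ 1 ∧ x ^ r ≠ 1) →
      r * s ∈ Set.range (orderOf : Matrix.ProjectiveSpecialLinearGroup (Fin n) F → ℕ) := by
    intro f hfm hfd e he hfN hord
    obtain ⟨x, -, hx1, -, hx2⟩ := exists_gl_pow p f hfm hfd (coeff_ne hN0 hfN) hN0 he hfN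
    obtain ⟨hxs, hxr⟩ := hord x hx1 hx2
    have hoxr : orderOf x = r * s := by
      apply orderOf_eq_of_pow_and_pow_div_prime (Nat.pos_of_ne_zero hN0) hx1
      intro t ht htd
      rcases (Nat.Prime.dvd_mul ht).1 htd with h | h
      · have : t = r := (Nat.prime_dvd_prime_iff_eq ht hr).1 h
        subst this
        rwa [Nat.mul_div_cancel_left _ hr.pos]
      · have : t = s := (Nat.prime_dvd_prime_iff_eq ht hs).1 h
        subst this
        rwa [Nat.mul_div_cancel _ hs.pos]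
    obtain ⟨y, hy, -⟩ := gl_to_sl x (by rw [hoxr]; exact hcop)
    refine ⟨(y : Matrix.ProjectiveSpecialLinearGroup (Fin n) F), ?_⟩
    rw [psl_image y (by rw [hy, hoxr]; exact hcop), hy, hoxr]
  constructor
  · intro hno
    by_contra hcon
    apply hno
    have hcases : k + l ≤ n ∨ k ∣ l := by
      by_contra h
      push Not at h
      exact hcon ⟨h.1, h.2⟩
    rcases hcases with hsum | hdvd
    · obtain ⟨f₁, hm₁, hi₁, hd₁⟩ := exists_factor (F := F) (d := r) hr.two_le
      obtain ⟨f₂, hm₂, hi₂, hd₂⟩ := exists_factor (F := F) (d := s) hs.two_le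
      have hdeg₁ : f₁.natDegree = k := by rw [hk]; exact deg_factor p hi₁ hpr hd₁
      have hdeg₂ : f₂.natDegree = l := by rw [hl]; exact deg_factor p hi₂ hps hd₂
      have hX1 : (X - 1 : F[X]) ∣ X ^ (r * s) - 1 := by
        simpa using sub_dvd_pow_sub_pow (X : F[X]) 1 (r * s)
      have hf1N : f₁ ∣ X ^ (r * s) - 1 :=
        hd₁.trans ((cyclotomic.dvd_X_pow_sub_one r F).trans (by
          simpa [pow_mul] using sub_dvd_pow_sub_pow ((X : F[X]) ^ r) 1 s))
      have hf2N : f₂ ∣ X ^ (r * s) - 1 :=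
        hd₂.trans ((cyclotomic.dvd_X_pow_sub_one s F).trans (by
          simpa [pow_mul, mul_comm r s] using sub_dvd_pow_sub_pow ((X : F[X]) ^ s) 1 r))
      have hX1m : (X - 1 : F[X]).Monic := by
        simpa using monic_X_sub_C (1 : F)
      have hX1d : (X - 1 : F[X]).natDegree = 1 := by
        simpa using natDegree_X_sub_C (1 : F)
      refine build (f₁ * f₂ * (X - 1) ^ (n - (k + l))) ((hm₁.mul hm₂).mul (hX1m.pow _)) ?_ (n - (k + l) + 2) (by omega) ?_ ?_
      · rw [(hm₁.mul hm₂).natDegree_mul (hX1m.pow _), hm₁.natDegree_mul hm₂, (hX1m).natDegree_pow, hX1d, hdeg₁, hdeg₂]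
        omega
      · have := mul_dvd_mul (mul_dvd_mul hf1N hf2N) (pow_dvd_pow_of_dvd hX1 (n - (k + l)))
        convert this using 1
        ring
      · intro x hx1 hx2
        constructor
        · intro hxs
          have := hx2 f₁ s hi₁ hm₁ (Dvd.dvd.mul_right (Dvd.intro _ rfl) _) hxs
          exact hrns ((dvd_pow_iff hi₁ hr0 hd₁ s).1 this)
        · intro hxr
          have := hx2 f₂ r hi₂ hm₂ (Dvd.dvd.mul_right (Dvd.intro_left _ rfl) _) hxr
          exact hsnr ((dvd_pow_iff hi₂ hs0 hd₂ r).1 this)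
    · have hln : l ≤ n := by
        rw [hl]
        exact order_le_of_dvd_card p hs hsp hsG
      have hrs2 : 2 ≤ r * s := by
        have := hr.two_le
        have := hs.two_le
        nlinarith
      obtain ⟨f₃, hm₃, hi₃, hd₃⟩ := exists_factor (F := F) (d := r * s) hrs2
      have hdeg₃ : f₃.natDegree = l := by
        rw [deg_factor p hi₃ hprs hd₃, hlcm]
        exact Nat.lcm_eq_right hdvd
      have hX1 : (X - 1 : F[X]) ∣ X ^ (r * s) - 1 := by
        simpa using sub_dvd_pow_sub_pow (X : F[X]) 1 (r * s)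
      have hf3N : f₃ ∣ X ^ (r * s) - 1 := hd₃.trans (cyclotomic.dvd_X_pow_sub_one _ F)
      have hX1m : (X - 1 : F[X]).Monic := by
        simpa using monic_X_sub_C (1 : F)
      have hX1d : (X - 1 : F[X]).natDegree = 1 := by
        simpa using natDegree_X_sub_C (1 : F)
      refine build (f₃ * (X - 1) ^ (n - l)) (hm₃.mul (hX1m.pow _)) ?_ (n - l + 1) (by omega) ?_ ?_
      · rw [hm₃.natDegree_mul (hX1m.pow _), hX1m.natDegree_pow, hX1d, hdeg₃]
        omega
      · have := mul_dvd_mul hf3N (pow_dvd_pow_of_dvd hX1 (n - l))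
        convert this using 1
        ring
      · intro x hx1 hx2
        constructor
        · intro hxs
          have := hx2 f₃ s hi₃ hm₃ (Dvd.intro _ rfl) hxs
          exact hrsns ((dvd_pow_iff hi₃ hrs0 hd₃ s).1 this)
        · intro hxr
          have := hx2 f₃ r hi₃ hm₃ (Dvd.intro _ rfl) hxr
          exact hrsnr ((dvd_pow_iff hi₃ hrs0 hd₃ r).1 this)
  · rintro ⟨hlt, hnd⟩ ⟨g, hg⟩
    obtain ⟨y, hy, -⟩ := psl_lift g (by rw [hg]; exact hcop)
    rw [hg] at hy
    set A : Matrix (Fin n) (Fin n) F := (y : Matrix (Fin n) (Fin n) F) with hA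
    have hAp : ∀ j : ℕ, A ^ j = 1 ↔ y ^ j = 1 := by
      intro j
      constructor
      · intro h
        apply Subtype.ext
        rw [Matrix.SpecialLinearGroup.coe_pow, Matrix.SpecialLinearGroup.coe_one]
        exact h
      · intro h
        have := congrArg (fun z : Matrix.SpecialLinearGroup (Fin n) F => (z : Matrix (Fin n) (Fin n) F)) h
        simpa using this
    have hA1 : A ^ (r * s) = 1 := (hAp _).2 (by rw [← hy]; exact pow_orderOf_eq_one y)
    have hAs : A ^ s ≠ 1 := by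
      intro h
      have := orderOf_dvd_of_pow_eq_one ((hAp _).1 h)
      rw [hy] at this
      exact hrsns this
    have hAr : A ^ r ≠ 1 := by
      intro h
      have := orderOf_dvd_of_pow_eq_one ((hAp _).1 h)
      rw [hy] at this
      exact hrsnr this
    obtain ⟨x, g₁, hx1, hx2, hi₁, hm₁, hd₁, hc₁⟩ := exists_factor_of_pow_ne A hN0 hA1 (Dvd.intro_left _ rfl) hAs
    obtain ⟨x', g₂, hx1', hx2', hi₂, hm₂, hd₂, hc₂⟩ := exists_factor_of_pow_ne A hN0 hA1 (Dvd.intro _ rfl) hAr
    have hlarge : ∀ g : F[X], Irreducible g → g ∣ minpoly F A → g ∣ cyclotomic (r * s) F → False := by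
      intro g hgi hgm hgc
      have h1 := deg_factor p hgi hprs hgc
      rw [hlcm] at h1
      have h2 : g.natDegree ≤ n :=
        (natDegree_le_of_dvd hgm (minpoly.ne_zero (Matrix.isIntegral A))).trans (deg_minpoly_le A)
      obtain ⟨a, ha⟩ : l ∣ Nat.lcm k l := Nat.dvd_lcm_right k l
      have hlpos : 0 < l := by omega
      have ha2 : 2 ≤ a := by
        by_contra hh
        have : a = 0 ∨ a = 1 := by omega
        rcases this with rfl | rfl
        · rw [mul_zero] at ha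
          have := Nat.lcm_pos (by omega : 0 < k) hlpos
          omega
        · rw [mul_one] at ha
          exact hnd (ha ▸ Nat.dvd_lcm_left k l)
      have : 2 * l ≤ Nat.lcm k l := by
        rw [ha]
        nlinarith
      omega
    have hxc : x = r ∨ x = r * s := by
      obtain ⟨a, b, ha, hb, rfl⟩ := exists_dvd_and_dvd_of_dvd_mul hx1
      rcases (Nat.dvd_prime hr).1 ha with rfl | rfl <;> rcases (Nat.dvd_prime hs).1 hb with rfl | rfl
      · simp at hx2
      · simp at hx2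
      · left; simp
      · right; rfl
    have hxc' : x' = s ∨ x' = r * s := by
      obtain ⟨a, b, ha, hb, rfl⟩ := exists_dvd_and_dvd_of_dvd_mul hx1'
      rcases (Nat.dvd_prime hr).1 ha with rfl | rfl <;> rcases (Nat.dvd_prime hs).1 hb with rfl | rfl
      · simp at hx2'
      · left; simp
      · simp at hx2'
      · right; rfl
    rcases hxc with rfl | rfl
    · rcases hxc' with rfl | rfl
      · have hco : IsCoprime g₁ g₂ := by
          rw [hi₁.coprime_iff_not_dvd]
          intro h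
          have h1 : g₁ ∣ X ^ x' - 1 := (h.trans hc₂).trans (cyclotomic.dvd_X_pow_sub_one _ F)
          exact hrns ((dvd_pow_iff hi₁ hr0 hc₁ _).1 h1)
        have h1 := hco.mul_dvd hd₁ hd₂
        have h2 : (g₁ * g₂).natDegree ≤ n :=
          (natDegree_le_of_dvd h1 (minpoly.ne_zero (Matrix.isIntegral A))).trans (deg_minpoly_le A)
        rw [hm₁.natDegree_mul hm₂, deg_factor p hi₁ hpr hc₁, deg_factor p hi₂ hps hc₂, ← hk, ← hl] at h2
        omega
      · exact hlarge g₂ hi₂ hd₂ hc₂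
    · exact hlarge g₁ hi₁ hd₁ hc₁

end CfsgLib.H9.PGraph
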