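import Mathlib
import Cfsg.Agent.Lib.H9.PGraph2
import Cfsg.Agent.Lib.H9.KerDim

/-!
Adjacency of an odd prime and the characteristic in the prime graph of `PSL_n(q)`.
-/
set_option autoImplicit false
open scoped MatrixGroups Matrix

namespace CfsgLib.H9.PGraph

open Polynomial Module
open CfsgLib.H9.KerDim CfsgLib.H9.SemisMat

variable {F : Type*} [Field F] [Fintype F]

theorem minpoly_lin {n : ℕ} (A : Matrix (Fin n) (Fin n) F) : minpoly F (lin A) = minpoly F A :=
  minpoly.algEquiv_eq (Matrix.toLinAlgEquiv' (R := F) (n := Fin n)) A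

theorem lin_mul {n : ℕ} (A B : Matrix (Fin n) (Fin n) F) : lin (A * B) = lin A * lin B :=
  map_mul (Matrix.toLinAlgEquiv' (R := F) (n := Fin n)) A B

theorem lin_ne {n : ℕ} {B : Matrix (Fin n) (Fin n) F} (h : B ≠ 0) : lin B ≠ 0 := by
  intro h0
  apply h
  exact (map_eq_zero_iff (Matrix.toLinAlgEquiv' (R := F) (n := Fin n)) (AlgEquiv.injective _)).1 h0

theorem lin_nil {n : ℕ} {B : Matrix (Fin n) (Fin n) F} (h : IsNilpotent B) : IsNilpotent (lin B) :=
  h.map (Matrix.toLinAlgEquiv' (R := F) (n := Fin n))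

/-- Aeval on `lin A` applied to a vector in terms of the matrix. -/
theorem aeval_lin {n : ℕ} (A : Matrix (Fin n) (Fin n) F) (a : F) (v : Fin n → F) :
    aeval (lin A) (X - C a) v = A *ᵥ v - a • v := by
  simp only [map_sub, aeval_X, aeval_C, LinearMap.sub_apply]
  rfl

/-- The key local analysis for a matrix `A'` of order `r` commuting with a nilpotent. -/
theorem key_r (p : ℕ) [Fact p.Prime] [CharP F p] {n r : ℕ} (hr : r.Prime) (hrp : r ≠ p)
    (A' B : Matrix (Fin n) (Fin n) F) (hAB : A' * B = B * A') (hB : B ≠ 0) (hnil : IsNilpotent B)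
    (hr1 : A' ^ r = 1) (hs : ∀ μ : F, A' ≠ μ • 1) :
    (∃ f g : F[X], Irreducible f ∧ f.Monic ∧ Irreducible g ∧ g.Monic ∧ f ≠ g ∧ f ∣ X ^ r - 1 ∧ g ∣ X ^ r - 1 ∧
      2 * f.natDegree ≤ finrank F (KK (lin A') f) ∧ g.natDegree ≤ finrank F (KK (lin A') g) ∧
      2 * f.natDegree + g.natDegree ≤ n ∧
      (orderOf ((Fintype.card F : ℕ) : ZMod r) = f.natDegree ∨ orderOf ((Fintype.card F : ℕ) : ZMod r) = g.natDegree)) ∨
    2 ≤ orderOf ((Fintype.card F : ℕ) : ZMod r) ∧ 2 * orderOf ((Fintype.card F : ℕ) : ZMod r) ≤ n := by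
  classical
  have hpp : p.Prime := Fact.out
  have hr0 : (r : F) ≠ 0 := cast_ne_of_ne p hr hrp
  have hpr : p.Coprime r := (Nat.coprime_primes hpp hr).2 hrp.symm
  have hint : IsIntegral F A' := Matrix.isIntegral A'
  set m := minpoly F A' with hm
  have hmr : m ∣ X ^ r - 1 := by
    apply minpoly.dvd
    simp [hr1]
  have hsq : Squarefree m := by
    have h1 : Squarefree (X ^ r - C (1 : F) : F[X]) :=
      (separable_X_pow_sub_C (1 : F) hr0 one_ne_zero).squarefree
    rw [map_one] at h1
    exact h1.squarefree_of_dvd hmr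
  have hc : Commute (lin A') (lin B) := by
    change lin A' * lin B = lin B * lin A'
    rw [← lin_mul, ← lin_mul, hAB]
  have hsq' : Squarefree (minpoly F (lin A')) := by rwa [minpoly_lin]
  obtain ⟨f, hfi, hfm, hfd, hf2⟩ := exists_double hc (lin_ne hB) (lin_nil hnil) hsq'
  rw [minpoly_lin] at hfd
  change f ∣ m at hfd
  have hfin : finrank F (Fin n → F) = n := by simp
  -- the factor of `Φ_r`
  have hA1 : A' ^ 1 ≠ 1 := by
    rw [pow_one]
    intro h
    apply hs 1
    rw [h, one_smul]
  obtain ⟨x, g, hx1, hx2, hgi, hgm, hgd, hgc⟩ := exists_factor_of_pow_ne A' hr.ne_zero hr1 (one_dvd r) hA1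
  change g ∣ m at hgd
  have hxr : x = r := by
    rcases (Nat.dvd_prime hr).1 hx1 with rfl | h
    · simp at hx2
    · exact h
  subst hxr
  have hgk : g.natDegree = orderOf ((Fintype.card F : ℕ) : ZMod x) := deg_factor p hgi hpr hgc
  have hcop : ∀ f g : F[X], Irreducible f → f.Monic → g.Monic → Irreducible g → f ≠ g → IsCoprime f g := by
    intro f g hfi hfm hgm hgi hne
    rw [hfi.coprime_iff_not_dvd]
    intro hd
    apply hne
    exact eq_of_monic_of_associated hfm hgm ((hfi.dvd_irreducible_iff_associated hgi).1 hd)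
  have hfinal : ∀ g' : F[X], Irreducible g' → g'.Monic → g' ∣ m → f ≠ g' →
      2 * f.natDegree + g'.natDegree ≤ n ∧ g'.natDegree ≤ finrank F (KK (lin A') g') := by
    intro g' hgi' hgm' hgd' hne
    have h1 := finrank_add_le (lin A') (hcop f g' hfi hfm hgm' hgi' hne)
    have h2 := exists_ker_vec (lin A') hgi' (by rwa [minpoly_lin])
    rw [hfin] at h1
    exact ⟨by omega, h2⟩
  by_cases hfg : f = g
  · subst hfg
    by_cases hk2 : 2 ≤ f.natDegree
    · right
      rw [← hgk]
      refine ⟨hk2, hf2.trans ?_⟩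
      have := Submodule.finrank_le (KK (lin A') f)
      rwa [hfin] at this
    · -- degree one: a second factor exists
      have hf1 : f.natDegree = 1 := by
        have := hfi.natDegree_pos
        omega
      obtain ⟨c, hc'⟩ := hfd
      have hcu : ¬ IsUnit c := by
        intro hu
        obtain ⟨a, ha⟩ : ∃ a, f = X - C a := by
          refine ⟨-f.coeff 0, ?_⟩
          have := hfm.as_sum
          rw [hf1] at this
          simpa [Finset.sum_range_one] using this
        have hcm : m = f := by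
          have hmm : m.Monic := minpoly.monic hint
          apply eq_of_monic_of_associated hmm hfm
          rw [hc']
          exact (associated_mul_unit_left f c hu)
        have h0 : aeval A' m = 0 := minpoly.aeval F A'
        rw [hcm, ha] at h0
        simp only [map_sub, aeval_X, aeval_C] at h0
        apply hs a
        rw [sub_eq_zero] at h0
        rw [h0, Algebra.algebraMap_eq_smul_one]
      obtain ⟨g', hgm', hgi', hgd'⟩ := Polynomial.exists_monic_irreducible_factor c hcu
      have hne : f ≠ g' := by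
        rintro rfl
        obtain ⟨c', hc''⟩ := hgd'
        have : f * f ∣ m := ⟨c', by rw [hc', hc'']; ring⟩
        exact hfi.not_isUnit (hsq f this)
      have hg'm : g' ∣ m := by
        rw [hc']
        exact hgd'.trans (Dvd.intro_left _ rfl)
      obtain ⟨h1, h2⟩ := hfinal g' hgi' hgm' hg'm hne
      left
      refine ⟨f, g', hfi, hfm, hgi', hgm', hne, ?_, hg'm.trans hmr, hf2, h2, h1, Or.inl hgk.symm⟩
      rw [hc'] at hmr
      exact (Dvd.intro _ rfl : f ∣ f * c).trans hmr
  · obtain ⟨h1, h2⟩ := hfinal g hgi hgm hgd hfg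
    left
    exact ⟨f, g, hfi, hfm, hgi, hgm, hfg, hfd.trans hmr, hgd.trans hmr, hf2, h2, h1, Or.inr hgk.symm⟩

end CfsgLib.H9.PGraph
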