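import Mathlib
import Cfsg.Agent.Lib.H9.PGraph3

/-!
Adjacency of an odd prime and the characteristic in the prime graph of `PSL_n(q)`: the necessity part.
-/
set_option autoImplicit false
open scoped MatrixGroups Matrix

namespace CfsgLib.H9.PGraph

open Polynomial Module
open CfsgLib.H9.KerDim CfsgLib.H9.SemisMat

variable {F : Type*} [Field F] [Fintype F]

/-- A `3 × 3` matrix with eigenspaces of dimensions two and one. -/
theorem det_three (A : Matrix (Fin 3) (Fin 3) F) {a b : F} (hab : a ≠ b)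
    (h1 : 2 ≤ finrank F (KK (lin A) (X - C a))) (h2 : 1 ≤ finrank F (KK (lin A) (X - C b))) :
    A.det = a * a * b := by
  classical
  have hmem : ∀ (c : F) (v : KK (lin A) (X - C c)), A *ᵥ (v : Fin 3 → F) = c • (v : Fin 3 → F) := by
    intro c v
    have := v.2
    rw [LinearMap.mem_ker, aeval_lin, sub_eq_zero] at this
    exact this
  obtain ⟨x, hx⟩ : ∃ x : KK (lin A) (X - C a), x ≠ 0 := by
    have : 0 < finrank F (KK (lin A) (X - C a)) := by omega
    exact Module.finrank_pos_iff_exists_ne_zero.1 this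
  obtain ⟨y, hy⟩ := exists_linearIndependent_pair_of_one_lt_finrank (R := F) (by omega) hx
  obtain ⟨z, hz⟩ : ∃ z : KK (lin A) (X - C b), z ≠ 0 := by
    have : 0 < finrank F (KK (lin A) (X - C b)) := by omega
    exact Module.finrank_pos_iff_exists_ne_zero.1 this
  set e₁ : Fin 3 → F := (x : Fin 3 → F) with he₁
  set e₂ : Fin 3 → F := (y : Fin 3 → F) with he₂
  set e₃ : Fin 3 → F := (z : Fin 3 → F) with he₃
  have h₁ : A *ᵥ e₁ = a • e₁ := hmem a x
  have h₂ : A *ᵥ e₂ = a • e₂ := hmem a y
  have h₃ : A *ᵥ e₃ = b • e₃ := hmem b z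
  have hz0 : e₃ ≠ 0 := fun h => hz (Subtype.ext h)
  rw [LinearIndependent.pair_iff] at hy
  let R : Matrix (Fin 3) (Fin 3) F := Matrix.of ![e₁, e₂, e₃]
  have hdet : R.det ≠ 0 := by
    have hli : LinearIndependent F R.row := by
      rw [Fintype.linearIndependent_iff]
      intro c hc i
      rw [Fin.sum_univ_three] at hc
      have hc' : c 0 • e₁ + c 1 • e₂ + c 2 • e₃ = 0 := hc
      -- apply `A - a`
      have happ := congrArg (fun v => A *ᵥ v - a • v) hc'
      simp only [Matrix.mulVec_add, Matrix.mulVec_smul, h₁, h₂, h₃, Matrix.mulVec_zero, smul_zero, sub_zero] at happ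
      have hc2 : c 2 = 0 := by
        by_contra h0
        have : (c 2 * (b - a)) • e₃ = 0 := by
          rw [← happ]
          ext t
          simp only [Pi.smul_apply, Pi.sub_apply, Pi.add_apply, smul_eq_mul]
          ring
        rcases smul_eq_zero.1 this with h | h
        · exact (mul_ne_zero h0 (sub_ne_zero.mpr hab.symm)) h
        · exact hz0 h
      have hrest : c 0 • x + c 1 • y = 0 := by
        apply Subtype.ext
        simpa [hc2] using hc'
      obtain ⟨h0, h1'⟩ := hy _ _ hrest
      fin_cases i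
      · exact h0
      · exact h1'
      · exact hc2
    have := (Matrix.linearIndependent_rows_iff_isUnit (A := R)).1 hli
    exact ((Matrix.isUnit_iff_isUnit_det _).1 this).ne_zero
  have hkey : R * A.transpose = Matrix.diagonal ![a, a, b] * R := by
    ext i j
    rw [Matrix.diagonal_mul, Matrix.mul_apply]
    have hrow : ∀ (e : Fin 3 → F) (c : F), A *ᵥ e = c • e → ∑ l, e l * A.transpose l j = c * e j := by
      intro e c he
      have := congrFun he j
      simp only [Matrix.mulVec, dotProduct, Pi.smul_apply, smul_eq_mul] at this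
      rw [← this]
      refine Finset.sum_congr rfl fun l _ => ?_
      rw [Matrix.transpose_apply, mul_comm]
    fin_cases i
    · exact hrow e₁ a h₁
    · exact hrow e₂ a h₂
    · exact hrow e₃ b h₃
  have h3 := congrArg Matrix.det hkey
  rw [Matrix.det_mul, Matrix.det_mul, Matrix.det_transpose, Matrix.det_diagonal, Fin.prod_univ_three] at h3
  simp only [Matrix.cons_val_zero, Matrix.cons_val_one, Matrix.cons_val] at h3
  apply mul_left_cancel₀ hdet
  rw [h3]
  ring

/-- The key local analysis in `SL`-form. -/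
theorem key_back (p : ℕ) [Fact p.Prime] [CharP F p] {n r : ℕ} (hr : r.Prime) (hr2 : r ≠ 2) (hrp : r ≠ p)
    (A B : Matrix (Fin n) (Fin n) F) (hAB : A * B = B * A) (hB : B ≠ 0) (hnil : IsNilpotent B)
    (c' : F) (hc0 : c' ≠ 0) (hAr : A ^ r = c' • 1) (hs : ∀ μ : F, A ≠ μ • 1) (hdet : A.det = 1) :
    orderOf ((Fintype.card F : ℕ) : ZMod r) + 2 ≤ n ∧
      ¬ (n = 3 ∧ r = 3 ∧ 3 ∣ Fintype.card F - 1 ∧ ¬ 9 ∣ Fintype.card F - 1) := by
  classical
  have hpp : p.Prime := Fact.out
  have hfin : finrank F (Fin n → F) = n := by simp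
  set k := orderOf ((Fintype.card F : ℕ) : ZMod r) with hk
  by_cases hroot : ∃ β : F, β ^ r = c'
  · obtain ⟨β, hβ⟩ := hroot
    have hβ0 : β ≠ 0 := by
      rintro rfl
      rw [zero_pow hr.ne_zero] at hβ
      exact hc0 hβ.symm
    set A' := β⁻¹ • A with hA'
    have hA'r : A' ^ r = 1 := by
      rw [hA', _root_.smul_pow, hAr, smul_smul, inv_pow, hβ, inv_mul_cancel₀ hc0, one_smul]
    have hs' : ∀ μ : F, A' ≠ μ • 1 := by
      intro μ h
      apply hs (β * μ)
      have : A = β • A' := by
        rw [hA', smul_smul, mul_inv_cancel₀ hβ0, one_smul]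
      rw [this, h, smul_smul]
    have hAB' : A' * B = B * A' := by
      rw [hA', Matrix.smul_mul, Matrix.mul_smul, hAB]
    rcases key_r p hr hrp A' B hAB' hB hnil hA'r hs' with ⟨f, g, hfi, hfm, hgi, hgm, hne, hfd, hgd, hf2, hg1, hsum, hkk⟩ | ⟨h1, h2⟩
    · have hf0 := hfi.natDegree_pos
      have hg0 := hgi.natDegree_pos
      refine ⟨?_, ?_⟩
      · rcases hkk with h | h <;> omega
      · rintro ⟨rfl, rfl, h3, h9⟩
        have hf1 : f.natDegree = 1 := by omega
        have hg1' : g.natDegree = 1 := by omega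
        obtain ⟨a, rfl⟩ : ∃ a, f = X - C a := by
          refine ⟨-f.coeff 0, ?_⟩
          have := hfm.as_sum
          rw [hf1] at this
          simpa [Finset.sum_range_one] using this
        obtain ⟨b, rfl⟩ : ∃ b, g = X - C b := by
          refine ⟨-g.coeff 0, ?_⟩
          have := hgm.as_sum
          rw [hg1'] at this
          simpa [Finset.sum_range_one] using this
        have hab : a ≠ b := by
          rintro rfl
          exact hne rfl
        have hdetA' := det_three A' hab (by omega) (by omega)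
        have h4 : A'.det = (β⁻¹) ^ 3 := by
          rw [hA', Matrix.det_smul, hdet]
          simp
        have ha3 : a ^ 3 = 1 := by
          have := (dvd_iff_isRoot).1 hfd
          simpa [sub_eq_zero] using this
        have hb3 : b ^ 3 = 1 := by
          have := (dvd_iff_isRoot).1 hgd
          simpa [sub_eq_zero] using this
        have ha0 : a ≠ 0 := by
          rintro rfl
          simp at ha3
        have hω : (β⁻¹) ^ 3 = a * a * b := by rw [← h4, hdetA']
        have hne1 : (β⁻¹) ^ 3 ≠ 1 := by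
          rw [hω]
          intro h
          apply hab
          have : a ^ 3 * b = a := by
            calc a ^ 3 * b = a * (a * a * b) := by ring
              _ = a := by rw [h, mul_one]
          rw [ha3, one_mul] at this
          exact this.symm
        have h9' : (β⁻¹) ^ 9 = 1 := by
          have : (β⁻¹) ^ 9 = ((β⁻¹) ^ 3) ^ 3 := by ring
          rw [this, hω]
          calc (a * a * b) ^ 3 = (a ^ 3) ^ 2 * b ^ 3 := by ring
            _ = 1 := by rw [ha3, hb3]; ring
        have hβ3 : β ^ 3 ≠ 1 := by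
          intro h
          apply hne1
          rw [inv_pow, h, inv_one]
        have hβ9 : β ^ 9 = 1 := by
          have := congrArg (·⁻¹) h9'
          simpa [inv_pow] using this
        haveI : Fact (Nat.Prime 3) := ⟨by norm_num⟩
        have hord : orderOf β = 3 ^ (1 + 1) :=
          orderOf_eq_prime_pow (p := 3) (n := 1) (by simpa using hβ3) (by simpa using hβ9)
        have hdv : orderOf β ∣ Fintype.card F - 1 :=
          orderOf_dvd_of_pow_eq_one (FiniteField.pow_card_sub_one_eq_one β hβ0)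
        rw [hord] at hdv
        exact h9 (by simpa using hdv)
    · refine ⟨by omega, ?_⟩
      rintro ⟨rfl, -, -, -⟩
      omega
  · -- no root: the polynomial `X ^ r - c'` is irreducible
    have hn0 : n ≠ 0 := by
      rintro rfl
      exact hs 0 (Subsingleton.elim _ _)
    haveI : Nonempty (Fin n) := ⟨⟨0, Nat.pos_of_ne_zero hn0⟩⟩
    have hirr : Irreducible (X ^ r - C c' : F[X]) :=
      X_pow_sub_C_irreducible_of_prime hr (fun b h => hroot ⟨b, h⟩)
    have hint : IsIntegral F A := Matrix.isIntegral A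
    have hmd : minpoly F A ∣ X ^ r - C c' := by
      apply minpoly.dvd
      simp [hAr, Algebra.algebraMap_eq_smul_one]
    have hmm : minpoly F A = X ^ r - C c' := by
      apply eq_of_monic_of_associated (minpoly.monic hint) (monic_X_pow_sub_C c' hr.ne_zero)
      exact ((hirr.dvd_iff.1 hmd).resolve_left (minpoly.not_isUnit F A)).symm
    have hsq : Squarefree (minpoly F (lin A)) := by
      rw [minpoly_lin, hmm]
      exact hirr.squarefree
    have hc : Commute (lin A) (lin B) := by
      change lin A * lin B = lin B * lin A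
      rw [← lin_mul, ← lin_mul, hAB]
    obtain ⟨f, hfi, hfm, hfd, hf2⟩ := exists_double hc (lin_ne hB) (lin_nil hnil) hsq
    rw [minpoly_lin, hmm] at hfd
    have hff : f = X ^ r - C c' := by
      apply eq_of_monic_of_associated hfm (monic_X_pow_sub_C c' hr.ne_zero)
      exact ((hirr.dvd_iff.1 hfd).resolve_left hfi.not_isUnit).symm
    have hdeg : f.natDegree = r := by
      rw [hff, natDegree_X_pow_sub_C]
    have hle := Submodule.finrank_le (KK (lin A) f)
    rw [hfin] at hle
    have hr3 : 3 ≤ r := by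
      have := hr.two_le
      omega
    have hn6 : 6 ≤ n := by omega
    have hrq : r ∣ Fintype.card F - 1 := by
      by_contra hnd
      have h1 : (Nat.card Fˣ).Coprime r := by
        rw [Nat.card_units, Nat.card_eq_fintype_card]
        exact ((Nat.Prime.coprime_iff_not_dvd hr).2 hnd).symm
      apply hroot
      refine ⟨(((powCoprime h1).symm (Units.mk0 c' hc0) : Fˣ) : F), ?_⟩
      have h2 : (powCoprime h1) ((powCoprime h1).symm (Units.mk0 c' hc0)) = Units.mk0 c' hc0 :=
        Equiv.apply_symm_apply _ _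
      have h3 := congrArg (fun t : Fˣ => (t : F)) h2
      simpa [powCoprime_apply] using h3
    have hk1 : k = 1 := by
      have hq1 : 1 ≤ Fintype.card F := Fintype.card_pos
      have h1 : ((Fintype.card F : ℕ) : ZMod r) = 1 := by
        have : Fintype.card F ≡ 1 [MOD r] := ((Nat.modEq_iff_dvd' hq1).mpr hrq).symm
        have := (ZMod.natCast_eq_natCast_iff _ _ _).mpr this
        simpa using this
      rw [hk, h1, orderOf_one]
    refine ⟨by omega, ?_⟩
    rintro ⟨rfl, -, -, -⟩
    omega

/-- The data attached to an element of order `r p` of `PSL`. -/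
theorem back_data (p : ℕ) [Fact p.Prime] [CharP F p] {n r : ℕ} (hn : 2 ≤ n) (hr : r.Prime) (hrp : r ≠ p)
    (g : Matrix.ProjectiveSpecialLinearGroup (Fin n) F) (hg : orderOf g = r * p) :
    ∃ (A B : Matrix (Fin n) (Fin n) F) (c' : F), A * B = B * A ∧ B ≠ 0 ∧ IsNilpotent B ∧ c' ≠ 0 ∧
      A ^ r = c' • 1 ∧ (∀ μ : F, A ≠ μ • 1) ∧ A.det = 1 := by
  classical
  haveI : NeZero n := ⟨by omega⟩
  haveI : Nonempty (Fin n) := ⟨⟨0, by omega⟩⟩
  have hpp : p.Prime := Fact.out
  have hpr : p.Coprime r := (Nat.coprime_primes hpp hr).2 hrp.symm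
  obtain ⟨f₀, -, hcard⟩ := FiniteField.card F p
  have hqp : p ∣ Fintype.card F := by
    rw [hcard]
    exact dvd_pow_self p f₀.pos.ne'
  have hq1 : 1 ≤ Fintype.card F := Fintype.card_pos
  have hpc : p.Coprime (Fintype.card F - 1) := by
    rw [hpp.coprime_iff_not_dvd]
    intro h
    have h2 : p ∣ Fintype.card F - (Fintype.card F - 1) := Nat.dvd_sub hqp h
    have h3 : Fintype.card F - (Fintype.card F - 1) = 1 := by omega
    rw [h3] at h2
    exact hpp.one_lt.ne' (Nat.dvd_one.1 h2)
  set c := Fintype.card F - 1 with hc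
  have hM : p.Coprime (r * c) := Nat.Coprime.mul_right hpr hpc
  obtain ⟨x, rfl⟩ := QuotientGroup.mk_surjective g
  let t₁ := Nat.chineseRemainder hM 1 0
  let t₂ := Nat.chineseRemainder hM 0 1
  have ht₁p : (t₁ : ℕ) ≡ 1 [MOD p] := t₁.2.1
  have ht₁M : (t₁ : ℕ) ≡ 0 [MOD r * c] := t₁.2.2
  have ht₂p : (t₂ : ℕ) ≡ 0 [MOD p] := t₂.2.1
  have ht₂M : (t₂ : ℕ) ≡ 1 [MOD r * c] := t₂.2.2
  have hMd : r * c ∣ (t₁ : ℕ) := (Nat.modEq_zero_iff_dvd).mp ht₁M
  have hpd : p ∣ (t₂ : ℕ) := (Nat.modEq_zero_iff_dvd).mp ht₂p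
  have hgo : (x : Matrix.ProjectiveSpecialLinearGroup (Fin n) F) ^ (r * p) = 1 := by
    rw [← hg]; exact pow_orderOf_eq_one _
  have hcen : x ^ (r * p) ∈ Subgroup.center (Matrix.SpecialLinearGroup (Fin n) F) := by
    have h := hgo
    rwa [← QuotientGroup.mk_pow, QuotientGroup.eq_one_iff] at h
  have hxord : x ^ (r * p * c) = 1 := by
    rw [pow_mul]
    exact center_pow _ hcen
  set u := x ^ (t₁ : ℕ) with hu
  set v := x ^ (t₂ : ℕ) with hv
  have hup : u ^ p = 1 := by
    obtain ⟨a, ha⟩ := hMd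
    rw [hu, ← pow_mul, ha]
    have : r * c * a * p = r * p * c * a := by ring
    rw [this, pow_mul, hxord, one_pow]
  have hu1 : u ≠ 1 := by
    intro h
    have h1 : (x : Matrix.ProjectiveSpecialLinearGroup (Fin n) F) ^ (t₁ : ℕ) = 1 := by
      rw [← QuotientGroup.mk_pow]
      change ((u : Matrix.SpecialLinearGroup (Fin n) F) : Matrix.ProjectiveSpecialLinearGroup (Fin n) F) = 1
      rw [h]
      rfl
    have h2 := orderOf_dvd_of_pow_eq_one h1
    rw [hg] at h2
    have h3 : p ∣ (t₁ : ℕ) := (Dvd.intro_left _ rfl).trans h2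
    have h4 : (t₁ : ℕ) ≡ 0 [MOD p] := (Nat.modEq_zero_iff_dvd).mpr h3
    have h5 : 1 ≡ 0 [MOD p] := ht₁p.symm.trans h4
    have h6 : p ∣ 1 := (Nat.modEq_zero_iff_dvd).mp h5
    exact hpp.one_lt.ne' (Nat.dvd_one.1 h6)
  have hvr : v ^ r ∈ Subgroup.center (Matrix.SpecialLinearGroup (Fin n) F) := by
    obtain ⟨a, ha⟩ := hpd
    rw [← QuotientGroup.eq_one_iff, hv, ← pow_mul, ha]
    have : p * a * r = r * p * a := by ring
    rw [this, pow_mul, QuotientGroup.mk_pow, QuotientGroup.mk_pow, hgo, one_pow]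
  have hv1 : ¬ v ∈ Subgroup.center (Matrix.SpecialLinearGroup (Fin n) F) := by
    intro h
    have h1 : (x : Matrix.ProjectiveSpecialLinearGroup (Fin n) F) ^ (t₂ : ℕ) = 1 := by
      rw [← QuotientGroup.mk_pow, QuotientGroup.eq_one_iff]
      exact h
    have h2 := orderOf_dvd_of_pow_eq_one h1
    rw [hg] at h2
    have h3 : r ∣ (t₂ : ℕ) := (Dvd.intro _ rfl).trans h2
    have h4 : (t₂ : ℕ) ≡ 1 [MOD r] := ht₂M.of_mul_right c
    have h5 : (t₂ : ℕ) ≡ 0 [MOD r] := (Nat.modEq_zero_iff_dvd).mpr h3
    have h6 : r ∣ 1 := (Nat.modEq_zero_iff_dvd).mp (h4.symm.trans h5)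
    exact hr.one_lt.ne' (Nat.dvd_one.1 h6)
  haveI : CharP (Matrix (Fin n) (Fin n) F) p := Matrix.charP _
  have hcomm : v * u = u * v := by
    rw [hv, hu, ← pow_add, ← pow_add, add_comm]
  have hAB0 : (v : Matrix (Fin n) (Fin n) F) * (u : Matrix (Fin n) (Fin n) F) =
      (u : Matrix (Fin n) (Fin n) F) * (v : Matrix (Fin n) (Fin n) F) := by
    have := congrArg (fun z : Matrix.SpecialLinearGroup (Fin n) F => (z : Matrix (Fin n) (Fin n) F)) hcomm
    simpa using this
  have hvr2 := (Matrix.SpecialLinearGroup.mem_center_iff).1 hvr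
  obtain ⟨s, hs1, hs2⟩ := hvr2
  refine ⟨(v : Matrix (Fin n) (Fin n) F), (u : Matrix (Fin n) (Fin n) F) - 1, s, ?_, ?_, ?_, ?_, ?_, ?_, v.2⟩
  · rw [Matrix.mul_sub, Matrix.sub_mul, Matrix.mul_one, Matrix.one_mul, hAB0]
  · intro h
    apply hu1
    apply Subtype.ext
    rw [Matrix.SpecialLinearGroup.coe_one]
    exact sub_eq_zero.1 h
  · refine ⟨p, ?_⟩
    have hcm : Commute (u : Matrix (Fin n) (Fin n) F) 1 := Commute.one_right _
    rw [sub_pow_char_of_commute p hcm, one_pow]
    have : (u : Matrix (Fin n) (Fin n) F) ^ p = 1 := by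
      have := congrArg (fun z : Matrix.SpecialLinearGroup (Fin n) F => (z : Matrix (Fin n) (Fin n) F)) hup
      simpa using this
    rw [this, sub_self]
  · rintro rfl
    rw [Fintype.card_fin, zero_pow (by omega)] at hs1
    exact zero_ne_one hs1
  · have : ((v ^ r : Matrix.SpecialLinearGroup (Fin n) F) : Matrix (Fin n) (Fin n) F) =
        (v : Matrix (Fin n) (Fin n) F) ^ r := by simp
    rw [← this, ← hs2]
    ext i j
    simp [Matrix.scalar_apply, Matrix.one_apply, Matrix.diagonal_apply]
  · intro μ hμ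
    apply hv1
    rw [Matrix.SpecialLinearGroup.mem_center_iff]
    refine ⟨μ, ?_, ?_⟩
    · have h1 : (v : Matrix (Fin n) (Fin n) F).det = 1 := v.2
      rw [hμ, Matrix.det_smul, Matrix.det_one, mul_one] at h1
      exact h1
    · rw [hμ]
      ext i j
      simp [Matrix.scalar_apply, Matrix.one_apply, Matrix.diagonal_apply]

end CfsgLib.H9.PGraph
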