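import Mathlib
import Cfsg.Agent.Lib.H9.PGraph4

/-!
Adjacency of an odd prime and the characteristic in the prime graph of `PSL_n(q)`: constructions.
-/
set_option autoImplicit false
open scoped MatrixGroups Matrix

namespace CfsgLib.H9.PGraph

open Polynomial Module

variable {F : Type*} [Field F] [Fintype F]

/-- Block sum of matrices. -/
noncomputable def blkM {a b : ℕ} (x : Matrix (Fin a) (Fin a) F) (y : Matrix (Fin b) (Fin b) F) :
    Matrix (Fin (a + b)) (Fin (a + b)) F :=
  Matrix.reindex finSumFinEquiv finSumFinEquiv (Matrix.fromBlocks x 0 0 y)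

theorem blkM_mul {a b : ℕ} (x x' : Matrix (Fin a) (Fin a) F) (y y' : Matrix (Fin b) (Fin b) F) :
    blkM x y * blkM x' y' = blkM (x * x') (y * y') := by
  simp only [blkM, Matrix.reindex_apply, Matrix.submatrix_mul_equiv, Matrix.fromBlocks_multiply]
  simp

theorem blkM_one {a b : ℕ} : blkM (1 : Matrix (Fin a) (Fin a) F) (1 : Matrix (Fin b) (Fin b) F) = 1 := by
  simp [blkM]

theorem blkM_inj {a b : ℕ} {x x' : Matrix (Fin a) (Fin a) F} {y y' : Matrix (Fin b) (Fin b) F}
    (h : blkM x y = blkM x' y') : x = x' ∧ y = y' := by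
  have h1 : Matrix.fromBlocks x 0 0 y = Matrix.fromBlocks x' 0 0 y' :=
    (Matrix.reindex finSumFinEquiv finSumFinEquiv).injective h
  have := Matrix.fromBlocks_inj.1 h1
  exact ⟨this.1, this.2.2.2⟩

/-- Block sum in `GL`. -/
noncomputable def blkG {a b : ℕ} (x : GL (Fin a) F) (y : GL (Fin b) F) : GL (Fin (a + b)) F where
  val := blkM (x : Matrix (Fin a) (Fin a) F) (y : Matrix (Fin b) (Fin b) F)
  inv := blkM ((x⁻¹ : GL (Fin a) F) : Matrix (Fin a) (Fin a) F) ((y⁻¹ : GL (Fin b) F) : Matrix (Fin b) (Fin b) F)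
  val_inv := by
    rw [blkM_mul, ← Units.val_mul, ← Units.val_mul, mul_inv_cancel, mul_inv_cancel, Units.val_one, Units.val_one, blkM_one]
  inv_val := by
    rw [blkM_mul, ← Units.val_mul, ← Units.val_mul, inv_mul_cancel, inv_mul_cancel, Units.val_one, Units.val_one, blkM_one]

theorem blkG_pow {a b : ℕ} (x : GL (Fin a) F) (y : GL (Fin b) F) (j : ℕ) :
    (blkG x y) ^ j = blkG (x ^ j) (y ^ j) := by
  induction j with
  | zero =>
    apply Units.ext
    simp only [pow_zero, Units.val_one]
    exact blkM_one.symm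
  | succ j ih =>
    rw [pow_succ, ih]
    apply Units.ext
    simp only [pow_succ, Units.val_mul]
    exact blkM_mul _ _ _ _

theorem blkG_one_iff {a b : ℕ} (x : GL (Fin a) F) (y : GL (Fin b) F) :
    blkG x y = 1 ↔ x = 1 ∧ y = 1 := by
  constructor
  · intro h
    have h1 : blkM (x : Matrix (Fin a) (Fin a) F) (y : Matrix (Fin b) (Fin b) F) = blkM 1 1 := by
      rw [blkM_one]
      exact congrArg Units.val h
    obtain ⟨h2, h3⟩ := blkM_inj h1
    exact ⟨Units.ext h2, Units.ext h3⟩
  · rintro ⟨rfl, rfl⟩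
    apply Units.ext
    exact blkM_one

theorem exists_gl_mul_order {a b : ℕ} (x : GL (Fin a) F) (y : GL (Fin b) F)
    (hc : (orderOf x).Coprime (orderOf y)) :
    ∃ z : GL (Fin (a + b)) F, orderOf z = orderOf x * orderOf y := by
  refine ⟨blkG x y, ?_⟩
  apply Nat.dvd_antisymm
  · apply orderOf_dvd_of_pow_eq_one
    rw [blkG_pow, blkG_one_iff]
    constructor
    · rw [pow_mul, pow_orderOf_eq_one, one_pow]
    · rw [mul_comm, pow_mul, pow_orderOf_eq_one, one_pow]
  · have h := pow_orderOf_eq_one (blkG x y)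
    rw [blkG_pow, blkG_one_iff] at h
    exact hc.mul_dvd_of_dvd_of_dvd (orderOf_dvd_of_pow_eq_one h.1) (orderOf_dvd_of_pow_eq_one h.2)

theorem exists_gl_order_r {k r : ℕ} (hr : r.Prime) (hk : 1 ≤ k) (h : r ∣ Fintype.card F ^ k - 1) :
    ∃ x : GL (Fin k) F, orderOf x = r := by
  haveI : Fact r.Prime := ⟨hr⟩
  have h1 : r ∣ Nat.card (GL (Fin k) F) := by
    rw [Matrix.card_GL_field]
    refine Dvd.dvd.trans ?_ (Finset.dvd_prod_of_mem _ (Finset.mem_univ (⟨0, hk⟩ : Fin k)))
    simpa using h
  exact exists_prime_orderOf_dvd_card' r h1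

theorem exists_gl_order_p (p : ℕ) [Fact p.Prime] [CharP F p] {m : ℕ} (hm : 2 ≤ m) :
    ∃ x : GL (Fin m) F, orderOf x = p := by
  have h1 : p ∣ Nat.card (GL (Fin m) F) := by
    rw [Matrix.card_GL_field]
    refine Dvd.dvd.trans ?_ (Finset.dvd_prod_of_mem _ (Finset.mem_univ (⟨1, by omega⟩ : Fin m)))
    obtain ⟨f₀, -, hcard⟩ := FiniteField.card F p
    have hqp : p ∣ Fintype.card F := by
      rw [hcard]
      exact dvd_pow_self p f₀.pos.ne'
    simp only [pow_one]
    obtain ⟨c, rfl⟩ : ∃ c, m = c + 2 := ⟨m - 2, by omega⟩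
    apply Nat.dvd_sub (hqp.trans (dvd_pow_self _ (by omega))) hqp
  exact exists_prime_orderOf_dvd_card' p h1

/-- The element in the case `k ≥ 2`. -/
theorem elem_large (p : ℕ) [Fact p.Prime] [CharP F p] {n r : ℕ} (hr : r.Prime) (hrp : r ≠ p) {k : ℕ}
    (hk : k = orderOf ((Fintype.card F : ℕ) : ZMod r)) (hk2 : 2 ≤ k) (hkn : k + 2 ≤ n) :
    ∃ g : Matrix.ProjectiveSpecialLinearGroup (Fin n) F, orderOf g = r * p := by
  classical
  have hpp : p.Prime := Fact.out
  obtain ⟨m, rfl⟩ : ∃ m, n = k + m := ⟨n - k, by omega⟩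
  have hrk : r ∣ Fintype.card F ^ k - 1 := by
    have h1 : ((Fintype.card F : ℕ) : ZMod r) ^ k = 1 := by
      rw [hk]
      exact pow_orderOf_eq_one _
    have h2 : Fintype.card F ^ k ≡ 1 [MOD r] := by
      rw [← ZMod.natCast_eq_natCast_iff]
      push_cast
      exact h1
    exact (Nat.modEq_iff_dvd' (Nat.one_le_pow _ _ Fintype.card_pos)).mp h2.symm
  obtain ⟨x, hx⟩ := exists_gl_order_r (F := F) hr (by omega) hrk
  obtain ⟨y, hy⟩ := exists_gl_order_p (F := F) p (m := m) (by omega)
  have hrp' : r.Coprime p := (Nat.coprime_primes hr hpp).2 hrp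
  obtain ⟨z, hz⟩ := exists_gl_mul_order x y (by rw [hx, hy]; exact hrp')
  rw [hx, hy] at hz
  have hrq : ¬ r ∣ Fintype.card F - 1 := not_dvd_sub_one (by rw [← hk]; exact hk2)
  obtain ⟨f₀, -, hcard⟩ := FiniteField.card F p
  have hqp : p ∣ Fintype.card F := by
    rw [hcard]
    exact dvd_pow_self p f₀.pos.ne'
  have hq1 : 1 ≤ Fintype.card F := Fintype.card_pos
  have hpc : ¬ p ∣ Fintype.card F - 1 := by
    intro h
    have h2 : p ∣ Fintype.card F - (Fintype.card F - 1) := Nat.dvd_sub hqp h
    have h3 : Fintype.card F - (Fintype.card F - 1) = 1 := by omega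
    rw [h3] at h2
    exact hpp.one_lt.ne' (Nat.dvd_one.1 h2)
  have hcop : (r * p).Coprime (Fintype.card F - 1) :=
    Nat.Coprime.mul_left ((Nat.Prime.coprime_iff_not_dvd hr).2 hrq) ((Nat.Prime.coprime_iff_not_dvd hpp).2 hpc)
  obtain ⟨w, hw, -⟩ := gl_to_sl z (by rw [hz]; exact hcop)
  haveI : NeZero (k + m) := ⟨by omega⟩
  refine ⟨(w : Matrix.ProjectiveSpecialLinearGroup (Fin (k + m)) F), ?_⟩
  rw [psl_image w (by rw [hw, hz]; exact hcop), hw, hz]

/-- The element built from a diagonal matrix and an elementary matrix. -/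
theorem exists_diag_elem (p : ℕ) [Fact p.Prime] [CharP F p] {n r : ℕ} (hr : r.Prime) (hrp : r ≠ p)
    (i₀ i₁ : Fin n) (h01 : i₀ < i₁) (d : Fin n → F) (hd0 : ∀ i, d i ≠ 0) (hprod : ∏ i, d i = 1)
    (hc : d i₀ = d i₁) (hall : ∀ i i', d i ^ r = d i' ^ r)
    (hmin : ∀ j : ℕ, (∀ i i', d i ^ j = d i' ^ j) → r ∣ j) :
    ∃ g : Matrix.ProjectiveSpecialLinearGroup (Fin n) F, orderOf g = r * p := by
  classical
  have hpp : p.Prime := Fact.out
  have hne : i₀ ≠ i₁ := ne_of_lt h01
  set c := d i₀ with hcdef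
  let E : Matrix (Fin n) (Fin n) F := Matrix.single i₀ i₁ 1
  have hEa : ∀ a b, E a b = if a = i₀ ∧ b = i₁ then 1 else 0 := by
    intro a b
    by_cases h : a = i₀ ∧ b = i₁
    · obtain ⟨rfl, rfl⟩ := h
      simp [E]
    · rw [if_neg h]
      simp only [E]
      rw [Matrix.single_apply, if_neg]
      rintro ⟨rfl, rfl⟩
      exact h ⟨rfl, rfl⟩
  let Y : ℕ → Matrix (Fin n) (Fin n) F := fun j =>
    Matrix.diagonal (fun i => d i ^ j) + (((j : F)) * c ^ j) • E
  let X : Matrix (Fin n) (Fin n) F := Matrix.diagonal d + c • E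
  have hDE : ∀ (e : Fin n → F), Matrix.diagonal e * E = e i₀ • E := by
    intro e
    ext a b
    rw [Matrix.diagonal_mul, Matrix.smul_apply, hEa, smul_eq_mul]
    by_cases h1 : a = i₀
    · subst h1; simp
    · simp [h1]
  have hED : ∀ (e : Fin n → F), E * Matrix.diagonal e = e i₁ • E := by
    intro e
    ext a b
    rw [Matrix.mul_diagonal, Matrix.smul_apply, hEa, smul_eq_mul]
    by_cases h1 : b = i₁
    · subst h1; simp [mul_comm]
    · simp [h1]
  have hEE : E * E = 0 := by
    ext a b
    rw [Matrix.mul_apply, Matrix.zero_apply]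
    apply Finset.sum_eq_zero
    intro l _
    rw [hEa, hEa]
    by_cases h1 : l = i₁
    · subst h1
      have : ¬ (l = i₀ ∧ b = l) := fun h => hne h.1.symm
      simp [this]
    · simp [h1]
  have hpow : ∀ j : ℕ, X ^ j = Y j := by
    intro j
    induction j with
    | zero =>
      simp [Y, Matrix.diagonal_one]
    | succ j ih =>
      rw [pow_succ, ih]
      simp only [X, Y]
      rw [Matrix.add_mul, Matrix.mul_add, Matrix.mul_add, Matrix.diagonal_mul_diagonal, Matrix.mul_smul,
        Matrix.smul_mul, Matrix.smul_mul, Matrix.mul_smul, hDE, hED, hEE, ← hc]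
      simp only [smul_zero, add_zero, smul_smul]
      rw [add_assoc, ← add_smul]
      congr 2
      · ext i
        rw [pow_succ]
      · push_cast
        simp only [← hcdef]
        ring
  have hXup : X.BlockTriangular id := by
    intro a b hab
    have hne' : a ≠ b := ne_of_gt hab
    simp only [X, Matrix.add_apply, Matrix.diagonal_apply_ne _ hne', Matrix.smul_apply, zero_add, hEa, smul_eq_mul]
    rw [if_neg, mul_zero]
    rintro ⟨rfl, rfl⟩
    exact absurd h01 (not_lt.mpr (le_of_lt hab))
  have hdet : X.det = 1 := by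
    rw [Matrix.det_of_upperTriangular hXup, ← hprod]
    refine Finset.prod_congr rfl fun a _ => ?_
    simp only [X, Matrix.add_apply, Matrix.diagonal_apply_eq, Matrix.smul_apply, hEa, smul_eq_mul]
    have : ¬ (a = i₀ ∧ a = i₁) := fun h => hne (h.1.symm.trans h.2)
    simp [this]
  let x : Matrix.SpecialLinearGroup (Fin n) F := ⟨X, hdet⟩
  have hxpow : ∀ j : ℕ, ((x ^ j : Matrix.SpecialLinearGroup (Fin n) F) : Matrix (Fin n) (Fin n) F) = Y j := by
    intro j
    rw [Matrix.SpecialLinearGroup.coe_pow, ← hpow]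
  have hp0 : ((r * p : ℕ) : F) = 0 := by
    have : ((p : ℕ) : F) = 0 := CharP.cast_eq_zero F p
    push_cast
    rw [this, mul_zero]
  have hcen : x ^ (r * p) ∈ Subgroup.center (Matrix.SpecialLinearGroup (Fin n) F) := by
    rw [Matrix.SpecialLinearGroup.mem_center_iff]
    refine ⟨c ^ (r * p), ?_, ?_⟩
    · have h1 : ∀ i, c ^ (r * p) = d i ^ (r * p) := by
        intro i
        rw [pow_mul, pow_mul, hall i₀ i]
      calc (c ^ (r * p)) ^ Fintype.card (Fin n) = ∏ i : Fin n, c ^ (r * p) := by simp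
        _ = ∏ i, d i ^ (r * p) := Finset.prod_congr rfl fun i _ => h1 i
        _ = (∏ i, d i) ^ (r * p) := Finset.prod_pow _ _ _
        _ = 1 := by rw [hprod, one_pow]
    · rw [hxpow]
      simp only [Y, hp0, zero_mul, zero_smul, add_zero, Matrix.scalar_apply]
      congr 1
      ext i
      rw [pow_mul, pow_mul, hall i₀ i]
  have hr' : r.Coprime p := (Nat.coprime_primes hr hpp).2 hrp
  refine ⟨(x : Matrix.ProjectiveSpecialLinearGroup (Fin n) F), ?_⟩
  apply Nat.dvd_antisymm
  · apply orderOf_dvd_of_pow_eq_one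
    rw [← QuotientGroup.mk_pow, QuotientGroup.eq_one_iff]
    exact hcen
  · have h1 := pow_orderOf_eq_one (x : Matrix.ProjectiveSpecialLinearGroup (Fin n) F)
    set o := orderOf (x : Matrix.ProjectiveSpecialLinearGroup (Fin n) F) with ho
    rw [← QuotientGroup.mk_pow, QuotientGroup.eq_one_iff, Matrix.SpecialLinearGroup.mem_center_iff] at h1
    obtain ⟨s, -, hs⟩ := h1
    rw [hxpow] at hs
    have hentry : ∀ a b, (Matrix.scalar (Fin n) s) a b = Y o a b := by
      intro a b
      rw [hs]
    have h2 : ((o : ℕ) : F) * c ^ o = 0 := by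
      have := hentry i₀ i₁
      simp only [Matrix.scalar_apply, Y, Matrix.add_apply, Matrix.diagonal_apply_ne _ hne, zero_add,
        Matrix.smul_apply, hEa, smul_eq_mul] at this
      simpa using this.symm
    have hpo : p ∣ o := by
      have h3 : ((o : ℕ) : F) = 0 := by
        rcases mul_eq_zero.1 h2 with h | h
        · exact h
        · exact absurd h (pow_ne_zero _ (hd0 i₀))
      exact (CharP.cast_eq_zero_iff F p o).1 h3
    have hro : r ∣ o := by
      apply hmin
      have hdiag : ∀ i, d i ^ o = s := by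
        intro i
        have := hentry i i
        simp only [Matrix.scalar_apply, Y, Matrix.add_apply, Matrix.diagonal_apply_eq,
          Matrix.smul_apply, hEa, smul_eq_mul] at this
        have h4 : ¬ (i = i₀ ∧ i = i₁) := fun h => hne (h.1.symm.trans h.2)
        simpa [h4] using this.symm
      intro i i'
      rw [hdiag, hdiag]
    exact hr'.mul_dvd_of_dvd_of_dvd hro hpo

theorem exists_unit_order {d : ℕ} (hd : d ∣ Fintype.card F - 1) (hd0 : d ≠ 0) :
    ∃ a : F, a ≠ 0 ∧ orderOf a = d := by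
  obtain ⟨γ, hγ⟩ := IsCyclic.exists_generator (α := Fˣ)
  have hord : orderOf γ = Fintype.card F - 1 := by
    rw [orderOf_eq_card_of_forall_mem_zpowers hγ, Nat.card_units, Nat.card_eq_fintype_card]
  have hq1 : 1 < Fintype.card F := Fintype.one_lt_card
  obtain ⟨e, he⟩ := hd
  have he0 : e ≠ 0 := by
    rintro rfl
    omega
  have h1 : orderOf (γ ^ e) = d := by
    rw [orderOf_pow_of_dvd he0 (by rw [hord, he]; exact Dvd.intro_left _ rfl), hord, he]
    exact Nat.mul_div_cancel _ (Nat.pos_of_ne_zero he0)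
  refine ⟨((γ ^ e : Fˣ) : F), Units.ne_zero _, ?_⟩
  rw [orderOf_units, h1]

/-- The statement S2470. -/
theorem main_2470 (p : ℕ) [Fact p.Prime] [CharP F p] (n : ℕ) (hn : 2 ≤ n)
    (r : ℕ) (hr : r.Prime) (hr2 : r ≠ 2) (hrp : r ≠ p)
    (k : ℕ) (hk : k = orderOf ((Fintype.card F : ℕ) : ZMod r)) :
    (r * p ∉ Set.range (orderOf : Matrix.ProjectiveSpecialLinearGroup (Fin n) F → ℕ)) ↔
      (n - 2 < k ∨ (n = 3 ∧ r = 3 ∧ 3 ∣ Fintype.card F - 1 ∧ ¬ 9 ∣ Fintype.card F - 1)) := by
  classical
  have hpp : p.Prime := Fact.out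
  haveI : Fact r.Prime := ⟨hr⟩
  have hco : r.Coprime (Fintype.card F) := CfsgLib.H9.CommP.not_dvd_card (F := F) p r hpp hr hrp
  have hk0 : 0 < k := by
    rw [hk]
    apply Nat.pos_of_ne_zero
    intro h0
    have h1 : ((Fintype.card F : ℕ) : ZMod r) ≠ 0 := by
      intro h
      rw [ZMod.natCast_eq_zero_iff] at h
      have := Nat.Coprime.eq_one_of_dvd hco h
      exact hr.one_lt.ne' this
    have h2 := ZMod.pow_card_sub_one_eq_one h1
    have h3 := orderOf_dvd_of_pow_eq_one h2
    rw [h0] at h3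
    have := hr.two_le
    have h4 := Nat.eq_zero_of_zero_dvd h3
    omega
  constructor
  · intro hno
    by_contra hcon
    push Not at hcon
    obtain ⟨hkn, hex⟩ := hcon
    apply hno
    have hkn' : k + 2 ≤ n := by omega
    by_cases hk2 : 2 ≤ k
    · obtain ⟨g, hg⟩ := elem_large (F := F) p hr hrp hk hk2 hkn'
      exact ⟨g, hg⟩
    · have hk1 : k = 1 := by omega
      have hrq : r ∣ Fintype.card F - 1 := by
        have h1 : ((Fintype.card F : ℕ) : ZMod r) ^ 1 = 1 := by
          have := pow_orderOf_eq_one ((Fintype.card F : ℕ) : ZMod r)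
          rwa [← hk, hk1] at this
        have h2 : Fintype.card F ≡ 1 [MOD r] := by
          rw [← ZMod.natCast_eq_natCast_iff]
          simpa using h1
        exact (Nat.modEq_iff_dvd' Fintype.card_pos).mp h2.symm
      by_cases hn4 : 4 ≤ n
      · obtain ⟨a, ha0, ha⟩ := exists_unit_order (F := F) hrq hr.ne_zero
        let i₀ : Fin n := ⟨0, by omega⟩
        let i₁ : Fin n := ⟨1, by omega⟩
        let i₂ : Fin n := ⟨2, by omega⟩
        let i₃ : Fin n := ⟨3, by omega⟩
        have h20 : i₀ ≠ i₂ := by simp [i₀, i₂, Fin.ext_iff]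
        have h30 : i₀ ≠ i₃ := by simp [i₀, i₃, Fin.ext_iff]
        have h21 : i₁ ≠ i₂ := by simp [i₁, i₂, Fin.ext_iff]
        have h31 : i₁ ≠ i₃ := by simp [i₁, i₃, Fin.ext_iff]
        have har : a ^ r = 1 := by rw [← ha]; exact pow_orderOf_eq_one a
        let d : Fin n → F := fun i => (if i = i₂ then a else 1) * (if i = i₃ then a⁻¹ else 1)
        have hdr : ∀ i, d i ^ r = 1 := by
          intro i
          simp only [d, mul_pow, ite_pow, one_pow, inv_pow, har, inv_one, ite_self, mul_one]
        have hd0' : d i₀ = 1 := by simp [d, h20, h30]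
        have hd2' : d i₂ = a := by
          have : i₂ ≠ i₃ := by simp [i₂, i₃, Fin.ext_iff]
          simp [d, this]
        obtain ⟨g, hg⟩ := exists_diag_elem (F := F) p hr hrp i₀ i₁ (by simp [i₀, i₁, Fin.lt_def]) d
          (by
            intro i
            simp only [d]
            apply mul_ne_zero <;> split_ifs <;> simp [ha0])
          (by
            simp only [d]
            rw [Finset.prod_mul_distrib, Finset.prod_ite_eq', Finset.prod_ite_eq']
            simp [ha0])
          (by simp [d, h20, h30, h21, h31])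
          (by intro i i'; rw [hdr, hdr])
          (by
            intro j hj
            have := hj i₀ i₂
            rw [hd0', hd2', one_pow] at this
            rw [← ha]
            exact orderOf_dvd_of_pow_eq_one this.symm)
        exact ⟨g, hg⟩
      · have hn3 : n = 3 := by omega
        subst hn3
        obtain ⟨c, hc0, hc3⟩ : ∃ c : F, c ≠ 0 ∧ orderOf (c ^ 3) = r := by
          by_cases hr3 : r = 3
          · subst hr3
            have h9 : 9 ∣ Fintype.card F - 1 := by
              exact hex rfl rfl hrq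
            obtain ⟨c, hc0, hc⟩ := exists_unit_order (F := F) h9 (by norm_num)
            refine ⟨c, hc0, ?_⟩
            rw [orderOf_pow_of_dvd (by norm_num) (by rw [hc]; norm_num), hc]
          · obtain ⟨c, hc0, hc⟩ := exists_unit_order (F := F) hrq hr.ne_zero
            refine ⟨c, hc0, ?_⟩
            have h3 : Nat.Coprime 3 r := (Nat.coprime_primes (by norm_num) hr).2 (fun h => hr3 h.symm)
            rw [Nat.Coprime.orderOf_pow (by rw [hc]; exact h3.symm), hc]
        have hc3r : (c ^ 3) ^ r = 1 := by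
          rw [← hc3]
          exact pow_orderOf_eq_one _
        have hkey : c ^ r = ((c ^ 2)⁻¹) ^ r := by
          have h5 : c ^ r * (c ^ 2) ^ r = 1 := by
            rw [← mul_pow, ← hc3r]
            congr 1
            ring
          rw [inv_pow]
          exact eq_inv_of_mul_eq_one_left h5
        let d : Fin 3 → F := ![c, c, (c ^ 2)⁻¹]
        obtain ⟨g, hg⟩ := exists_diag_elem (F := F) p hr hrp (0 : Fin 3) 1 (by decide) d
          (by
            intro i
            fin_cases i <;> simp [d, hc0])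
          (by
            rw [Fin.prod_univ_three]
            simp only [d, Matrix.cons_val_zero, Matrix.cons_val_one, Matrix.cons_val]
            field_simp)
          rfl
          (by
            intro i i'
            fin_cases i <;> fin_cases i' <;> simp only [d, Matrix.cons_val_zero, Matrix.cons_val_one, Matrix.cons_val, Fin.zero_eta, Fin.mk_one, Fin.reduceFinMk, hkey])
          (by
            intro j hj
            have h1 := hj 0 2
            simp only [d, Matrix.cons_val_zero, Matrix.cons_val] at h1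
            rw [← hc3]
            apply orderOf_dvd_of_pow_eq_one
            have h2 : (c ^ 3) ^ j = c ^ j * (c ^ 2) ^ j := by
              rw [← mul_pow]
              congr 1
              ring
            rw [h2, h1, inv_pow, inv_mul_cancel₀ (pow_ne_zero _ (pow_ne_zero _ hc0))])
        exact ⟨g, hg⟩
  · rintro hyp ⟨g, hg⟩
    obtain ⟨A, B, c', h1, h2, h3, h4, h5, h6, h7⟩ := back_data (F := F) p hn hr hrp g hg
    obtain ⟨h8, h9⟩ := key_back p hr hr2 hrp A B h1 h2 h3 c' h4 h5 h6 h7
    rcases hyp with h | h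
    · rw [hk] at h
      omega
    · exact h9 h

end CfsgLib.H9.PGraph
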