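import Mathlib
import Cfsg.Agent.Lib.Char.Complete
import Cfsg.Prelude.Def_Perm

/-! The centraliser ring of a representation, with applications to permutation characters. -/

set_option autoImplicit false
set_option linter.unusedVariables false
set_option linter.unusedSectionVars false
set_option linter.unusedSimpArgs false
set_option linter.style.haveILetI false

namespace CfsgLib.H9.PermChar

open Module LinearMap Cfsg CfsgLib.Char
open scoped ComplexConjugate TensorProduct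

universe u v w

section Sandwich

variable {V : Type v} {W : Type w} [AddCommGroup V] [Module ℂ V] [FiniteDimensional ℂ V]
  [AddCommGroup W] [Module ℂ W] [FiniteDimensional ℂ W]

/-- `f ↦ A ∘ f ∘ B`. -/
def sandwich (A : V →ₗ[ℂ] V) (B : W →ₗ[ℂ] W) : (W →ₗ[ℂ] V) →ₗ[ℂ] (W →ₗ[ℂ] V) where
  toFun f := A ∘ₗ f ∘ₗ B
  map_add' f g := by ext; simp
  map_smul' c f := by ext; simp

@[simp] theorem sandwich_apply (A : V →ₗ[ℂ] V) (B : W →ₗ[ℂ] W) (f : W →ₗ[ℂ] V) :
    sandwich A B f = A ∘ₗ f ∘ₗ B := rfl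

theorem trace_sandwich (A : V →ₗ[ℂ] V) (B : W →ₗ[ℂ] W) :
    LinearMap.trace ℂ (W →ₗ[ℂ] V) (sandwich A B) = LinearMap.trace ℂ V A * LinearMap.trace ℂ W B := by
  let D := dualTensorHomEquiv ℂ W V
  have h : sandwich A B = D.conj (TensorProduct.map (Module.Dual.transpose (R := ℂ) B) A) := by
    apply LinearMap.ext
    intro f
    obtain ⟨x, rfl⟩ := D.surjective f
    induction x using TensorProduct.induction_on with
    | zero => simp
    | add a b ha hb =>
      rw [map_add, map_add, ha, hb]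
      simp only [map_add]
    | tmul φ v =>
      ext w
      simp [LinearEquiv.conj_apply, D, Module.Dual.transpose_apply]
  rw [h, LinearMap.trace_conj', LinearMap.trace_tensorProduct', LinearMap.trace_transpose', mul_comm]

end Sandwich

section Homs

variable {G : Type u} [Group G] [Fintype G] {V : Type v} {W : Type w} [AddCommGroup V] [Module ℂ V]
  [FiniteDimensional ℂ V] [AddCommGroup W] [Module ℂ W] [FiniteDimensional ℂ W]
  (ρ : Representation ℂ G V) (σ : Representation ℂ G W)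

/-- `G`-homomorphisms as a subspace. -/
def homs : Submodule ℂ (W →ₗ[ℂ] V) where
  carrier := {f | ∀ g, ρ g ∘ₗ f = f ∘ₗ σ g}
  add_mem' := by
    intro a b ha hb g
    ext x
    have h1 := LinearMap.congr_fun (ha g) x
    have h2 := LinearMap.congr_fun (hb g) x
    simp only [LinearMap.comp_apply] at h1 h2
    simp [h1, h2]
  zero_mem' := by
    intro g
    ext
    simp
  smul_mem' := by
    intro c a ha g
    ext x
    have h1 := LinearMap.congr_fun (ha g) x
    simp only [LinearMap.comp_apply] at h1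
    simp [h1]

theorem mem_homs {f : W →ₗ[ℂ] V} : f ∈ homs ρ σ ↔ ∀ g x, ρ g (f x) = f (σ g x) := by
  constructor
  · intro h g x
    exact LinearMap.congr_fun (h g) x
  · intro h g
    ext x
    exact h g x

/-- Endomorphisms commuting with the representation. -/
def IsComm (S : V →ₗ[ℂ] V) : Prop := ∀ g x, S (ρ g x) = ρ g (S x)

/-- The action of a commuting endomorphism on homomorphisms. -/
def star (S : V →ₗ[ℂ] V) (hS : IsComm ρ S) : homs ρ σ →ₗ[ℂ] homs ρ σ where
  toFun f := ⟨S ∘ₗ f.1, by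
    rw [mem_homs]
    intro g x
    show ρ g (S (f.1 x)) = S (f.1 (σ g x))
    rw [← hS g, (mem_homs ρ σ).mp f.2 g x]⟩
  map_add' a b := by
    apply Subtype.ext
    ext x
    simp
  map_smul' c a := by
    apply Subtype.ext
    ext x
    simp

@[simp] theorem star_apply (S : V →ₗ[ℂ] V) (hS : IsComm ρ S) (f : homs ρ σ) (x : W) :
    (star ρ σ S hS f).1 x = S (f.1 x) := rfl

theorem card_ne (G : Type u) [Group G] [Fintype G] : (Fintype.card G : ℂ) ≠ 0 := by
  exact_mod_cast Fintype.card_ne_zero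

/-- The averaging projection. -/
noncomputable def avg : (W →ₗ[ℂ] V) →ₗ[ℂ] (W →ₗ[ℂ] V) :=
  (Fintype.card G : ℂ)⁻¹ • ∑ g : G, sandwich (ρ g) (σ g⁻¹)

theorem avg_apply (f : W →ₗ[ℂ] V) : avg ρ σ f = (Fintype.card G : ℂ)⁻¹ • ∑ g : G, ρ g ∘ₗ f ∘ₗ σ g⁻¹ := by
  simp [avg, LinearMap.sum_apply]

theorem avg_mem (f : W →ₗ[ℂ] V) : avg ρ σ f ∈ homs ρ σ := by
  rw [mem_homs]
  intro h x
  rw [avg_apply]
  simp only [LinearMap.smul_apply, LinearMap.sum_apply, LinearMap.comp_apply, map_smul, map_sum]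
  congr 1
  apply Fintype.sum_equiv (Equiv.mulLeft h)
  intro g
  simp only [Equiv.coe_mulLeft, map_mul, mul_inv_rev]
  simp [Module.End.mul_apply]

theorem avg_of_mem (f : W →ₗ[ℂ] V) (hf : f ∈ homs ρ σ) : avg ρ σ f = f := by
  rw [avg_apply]
  have h1 : ∀ g : G, ρ g ∘ₗ f ∘ₗ σ g⁻¹ = f := by
    intro g
    ext x
    simp only [LinearMap.comp_apply]
    rw [(mem_homs ρ σ).mp hf g]
    simp [← Module.End.mul_apply, ← map_mul]
  simp only [h1, Finset.sum_const, Finset.card_univ]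
  rw [← Nat.cast_smul_eq_nsmul ℂ, smul_smul, inv_mul_cancel₀ (card_ne G), one_smul]

/-- The trace formula for the action on homomorphisms. -/
theorem trace_star (S : V →ₗ[ℂ] V) (hS : IsComm ρ S) :
    LinearMap.trace ℂ (homs ρ σ) (star ρ σ S hS) =
      (Fintype.card G : ℂ)⁻¹ * ∑ g : G, LinearMap.trace ℂ V (S ∘ₗ ρ g) * LinearMap.trace ℂ W (σ g⁻¹) := by
  let T : (W →ₗ[ℂ] V) →ₗ[ℂ] (W →ₗ[ℂ] V) := sandwich S LinearMap.id ∘ₗ avg ρ σ
  have hT : T = (Fintype.card G : ℂ)⁻¹ • ∑ g : G, sandwich (S ∘ₗ ρ g) (σ g⁻¹) := by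
    ext f
    simp only [T, LinearMap.comp_apply, avg_apply, sandwich_apply, LinearMap.id_comp, LinearMap.smul_apply,
      LinearMap.sum_apply, map_smul, map_sum]
    rfl
  have hmem : ∀ f, T f ∈ homs ρ σ := by
    intro f
    have := (star ρ σ S hS ⟨avg ρ σ f, avg_mem ρ σ f⟩).2
    exact this
  have h1 := LinearMap.trace_restrict_eq_of_forall_mem (homs ρ σ) T hmem
  have h2 : T.restrict (fun x _ => hmem x) = star ρ σ S hS := by
    apply LinearMap.ext
    intro f
    apply Subtype.ext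
    show S ∘ₗ (avg ρ σ f.1) ∘ₗ LinearMap.id = S ∘ₗ f.1
    rw [avg_of_mem ρ σ f.1 f.2]
    rfl
  rw [← h2]
  refine h1.trans ?_
  rw [hT, map_smul, map_sum, smul_eq_mul]
  congr 1
  apply Finset.sum_congr rfl
  intro g _
  rw [trace_sandwich]

/-- A frequently used special case: dimension. -/
theorem finrank_homs : (finrank ℂ (homs ρ σ) : ℂ) =
    (Fintype.card G : ℂ)⁻¹ * ∑ g : G, ρ.character g * σ.character g⁻¹ := by
  have h := trace_star ρ σ LinearMap.id (fun g x => rfl)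
  have h1 : star ρ σ LinearMap.id (fun g x => rfl) = LinearMap.id := by
    apply LinearMap.ext
    intro f
    apply Subtype.ext
    ext x
    rfl
  rw [h1, LinearMap.trace_id] at h
  simpa [Representation.character] using h

theorem classInner_eq_finrank : classInner ρ.character σ.character = (finrank ℂ (homs ρ σ) : ℂ) := by
  rw [finrank_homs, classInner_character_eq]
  simp only [Nat.card_eq_fintype_card]

/-- The character associated with a commuting endomorphism. -/
noncomputable def phi (S : V →ₗ[ℂ] V) : G → ℂ := fun g => LinearMap.trace ℂ V (S ∘ₗ ρ g)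

theorem phi_isClass (S : V →ₗ[ℂ] V) (hS : IsComm ρ S) : IsClassFunction G (phi ρ S) := by
  intro g h
  unfold phi
  have h1 : S ∘ₗ ρ (h * g * h⁻¹) = ρ h ∘ₗ ((S ∘ₗ ρ g) ∘ₗ ρ h⁻¹) := by
    ext x
    simp only [LinearMap.comp_apply, map_mul, Module.End.mul_apply]
    exact hS h _
  have h2 : ρ h⁻¹ ∘ₗ ρ h = LinearMap.id := by
    rw [← Module.End.mul_eq_comp, ← map_mul, inv_mul_cancel, map_one]
    rfl
  rw [h1, LinearMap.trace_comp_comm', LinearMap.comp_assoc, h2, LinearMap.comp_id]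

theorem phi_classInner (S : V →ₗ[ℂ] V) (hS : IsComm ρ S) :
    classInner (phi ρ S) σ.character = LinearMap.trace ℂ (homs ρ σ) (star ρ σ S hS) := by
  rw [trace_star, classInner_def]
  simp only [Nat.card_eq_fintype_card]
  congr 1
  apply Finset.sum_congr rfl
  intro g _
  have h1 := (CfsgLib.Char.isCharacter_character σ).map_inv g
  unfold phi
  rw [← h1]
  rfl

theorem isIntegral_trace_of_aeval {U : Type*} [AddCommGroup U] [Module ℂ U] [FiniteDimensional ℂ U]
    (T : U →ₗ[ℂ] U) (p : Polynomial ℤ) (hp : p.Monic) (h : Polynomial.aeval T p = 0) :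
    IsIntegral ℤ (LinearMap.trace ℂ U T) := by
  have hs : (LinearMap.charpoly T).Splits := IsAlgClosed.splits _
  rw [Module.End.trace_eq_sum_roots_charpoly_of_splits hs]
  apply IsIntegral.multiset_sum
  intro μ hμ
  have hroot : (LinearMap.charpoly T).IsRoot μ := Polynomial.isRoot_of_mem_roots hμ
  have hev := (Module.End.hasEigenvalue_iff_isRoot_charpoly T μ).mpr hroot
  obtain ⟨v, hv⟩ := hev.exists_hasEigenvector
  have h1 := Module.End.aeval_apply_of_hasEigenvector (p := p.map (algebraMap ℤ ℂ)) hv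
  have h2 : Polynomial.aeval T (p.map (algebraMap ℤ ℂ)) = Polynomial.aeval T p := by
    rw [Polynomial.aeval_map_algebraMap]
  rw [h2, h] at h1
  simp only [LinearMap.zero_apply] at h1
  have h3 : Polynomial.aeval μ (p.map (algebraMap ℤ ℂ)) = 0 := by
    have h4 := (smul_eq_zero.mp h1.symm).resolve_right hv.2
    exact h4
  refine ⟨p, hp, ?_⟩
  rw [Polynomial.aeval_map_algebraMap] at h3
  rw [Polynomial.aeval_def] at h3
  exact h3

theorem star_pow (S : V →ₗ[ℂ] V) (hS : IsComm ρ S) (n : ℕ) (f : homs ρ σ) :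
    (((star ρ σ S hS) ^ n) f).1 = (S ^ n) ∘ₗ f.1 := by
  induction n generalizing f with
  | zero =>
    ext x
    simp
  | succ n ih =>
    rw [pow_succ, Module.End.mul_apply, ih]
    ext x
    simp [pow_succ, Module.End.mul_apply]

theorem star_aeval (S : V →ₗ[ℂ] V) (hS : IsComm ρ S) (p : Polynomial ℤ) (f : homs ρ σ) :
    ((Polynomial.aeval (star ρ σ S hS) p) f).1 = (Polynomial.aeval S p) ∘ₗ f.1 := by
  rw [Polynomial.aeval_eq_sum_range, Polynomial.aeval_eq_sum_range]
  ext x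
  have h1 : ∀ i, (((p.coeff i • (star ρ σ S hS) ^ i) f).1 x) = p.coeff i • ((S ^ i) (f.1 x)) := by
    intro i
    have := star_pow ρ σ S hS i f
    have h2 := LinearMap.congr_fun this x
    simp only [LinearMap.smul_apply, LinearMap.comp_apply] at h2 ⊢
    rw [← h2]
    rfl
  simp only [LinearMap.comp_apply, LinearMap.sum_apply, AddSubmonoidClass.coe_finset_sum]
  apply Finset.sum_congr rfl
  intro i _
  exact h1 i

theorem isIntegral_classInner (S : V →ₗ[ℂ] V) (hS : IsComm ρ S) (p : Polynomial ℤ) (hp : p.Monic)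
    (h : Polynomial.aeval S p = 0) : IsIntegral ℤ (classInner (phi ρ S) σ.character) := by
  rw [phi_classInner ρ σ S hS]
  apply isIntegral_trace_of_aeval _ p hp
  apply LinearMap.ext
  intro f
  apply Subtype.ext
  rw [star_aeval, h]
  rfl

/-- Every `G`-hom from an irreducible is injective or zero. -/
theorem injective_of_irr [σ.IsIrreducible] (f : W →ₗ[ℂ] V) (hf : f ∈ homs ρ σ) (hne : f ≠ 0) :
    Function.Injective f := by
  rw [← LinearMap.ker_eq_bot]
  have h1 := ((CfsgLib.Char.isIrreducible_iff σ).mp inferInstance).2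
  rcases h1 (LinearMap.ker f) (by
    intro g x hx
    rw [LinearMap.mem_ker] at hx ⊢
    rw [← (mem_homs ρ σ).mp hf g, hx, map_zero]) with h | h
  · exact h
  · exfalso
    apply hne
    ext x
    have : x ∈ LinearMap.ker f := by rw [h]; trivial
    simpa using this

/-- Retraction of an injective `G`-hom. -/
theorem exists_retract (f : W →ₗ[ℂ] V) (hf : f ∈ homs ρ σ) (hinj : Function.Injective f) :
    ∃ r : V →ₗ[ℂ] W, r ∈ homs σ ρ ∧ r ∘ₗ f = LinearMap.id := by
  obtain ⟨r₀, hr₀⟩ := LinearMap.exists_leftInverse_of_injective f (LinearMap.ker_eq_bot.mpr hinj)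
  refine ⟨avg σ ρ r₀, avg_mem σ ρ r₀, ?_⟩
  rw [avg_apply]
  ext x
  simp only [LinearMap.comp_apply, LinearMap.smul_apply, LinearMap.sum_apply, LinearMap.id_apply]
  have h1 : ∀ g : G, σ g (r₀ (ρ g⁻¹ (f x))) = x := by
    intro g
    have h2 : ρ g⁻¹ (f x) = f (σ g⁻¹ x) := (mem_homs ρ σ).mp hf g⁻¹ x
    rw [h2]
    have h3 : r₀ (f (σ g⁻¹ x)) = σ g⁻¹ x := LinearMap.congr_fun hr₀ _
    rw [h3, ← Module.End.mul_apply, ← map_mul, mul_inv_cancel, map_one]
    rfl
  simp only [h1, Finset.sum_const, Finset.card_univ]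
  rw [← Nat.cast_smul_eq_nsmul ℂ, smul_smul, inv_mul_cancel₀ (card_ne G), one_smul]

/-- Schur: a commuting endomorphism of an irreducible rep is scalar (composition form). -/
theorem comp_scalar [σ.IsIrreducible] (f : W →ₗ[ℂ] V) (hf : f ∈ homs ρ σ) (r : V →ₗ[ℂ] W) (hr : r ∈ homs σ ρ) :
    ∃ c : ℂ, r ∘ₗ f = c • LinearMap.id := by
  apply CfsgLib.Char.schur_scalar σ
  intro g v
  simp only [LinearMap.comp_apply]
  rw [← (mem_homs ρ σ).mp hf g v, (mem_homs σ ρ).mp hr g]

/-- `G`-endomorphisms built from `φ ∘ r`. -/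
theorem isComm_comp (f : W →ₗ[ℂ] V) (hf : f ∈ homs ρ σ) (r : V →ₗ[ℂ] W) (hr : r ∈ homs σ ρ) :
    IsComm ρ (f ∘ₗ r) := by
  intro g v
  simp only [LinearMap.comp_apply]
  rw [← (mem_homs σ ρ).mp hr g, (mem_homs ρ σ).mp hf g]

theorem comp_mem (S : V →ₗ[ℂ] V) (hS : IsComm ρ S) (f : W →ₗ[ℂ] V) (hf : f ∈ homs ρ σ) : S ∘ₗ f ∈ homs ρ σ :=
  (star ρ σ S hS ⟨f, hf⟩).2

end Homs

section Span

variable {G : Type u} [Group G] [Fintype G] {V : Type v} [AddCommGroup V] [Module ℂ V]
  [FiniteDimensional ℂ V] (ρ : Representation ℂ G V)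

/-- An endomorphism killing all irreducible subrepresentations vanishes. -/
theorem eq_zero_of_irr (D : V →ₗ[ℂ] V) (hD : IsComm ρ D)
    (h : ∀ (W : Type v) [AddCommGroup W] [Module ℂ W] [FiniteDimensional ℂ W] (σ : Representation ℂ G W)
      [σ.IsIrreducible] (ι : W →ₗ[ℂ] V), ι ∈ homs ρ σ → D ∘ₗ ι = 0) : D = 0 := by
  let K : Subrepresentation ρ := ⟨LinearMap.ker D, by
    intro g x hx
    rw [LinearMap.mem_ker] at hx ⊢
    rw [hD g x, hx, map_zero]⟩
  obtain ⟨C, hC⟩ := CfsgLib.Char.exists_compl ρ K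
  have hc := CfsgLib.Char.isCompl_toSubmodule hC
  by_cases hCt : Subsingleton C.toSubmodule
  · have hCbot : C.toSubmodule = ⊥ := (Submodule.subsingleton_iff_eq_bot).mp hCt
    rw [hCbot] at hc
    have hKtop : K.toSubmodule = ⊤ := by
      have := hc.sup_eq_top
      simpa using this
    apply LinearMap.ext
    intro x
    have : x ∈ K.toSubmodule := by rw [hKtop]; trivial
    exact this
  · exfalso
    rw [not_subsingleton_iff_nontrivial] at hCt
    obtain ⟨W, hW⟩ := CfsgLib.Char.exists_irr_subrep C.toRepresentation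
    let ι : W.toSubmodule →ₗ[ℂ] V := C.toSubmodule.subtype ∘ₗ W.toSubmodule.subtype
    have hι : ι ∈ homs ρ W.toRepresentation := by
      rw [mem_homs]
      intro g x
      rfl
    have h1 := h W.toSubmodule W.toRepresentation ι hι
    have hWnt : Nontrivial W.toSubmodule := ((CfsgLib.Char.isIrreducible_iff _).mp hW).1
    obtain ⟨x, hx⟩ := exists_ne (0 : W.toSubmodule)
    have h2 : D (ι x) = 0 := LinearMap.congr_fun h1 x
    have h3 : ι x ∈ K.toSubmodule := h2
    have h4 : ι x ∈ C.toSubmodule := (x.1).2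
    have h5 := Submodule.disjoint_def.mp hc.disjoint (ι x) h3 h4
    apply hx
    apply Subtype.ext
    apply Subtype.ext
    exact h5

/-- Multiplicity-free implies commutative. -/
theorem comm_of_le_one (h : ∀ (W : Type v) [AddCommGroup W] [Module ℂ W] [FiniteDimensional ℂ W]
      (σ : Representation ℂ G W) [σ.IsIrreducible], finrank ℂ (homs ρ σ) ≤ 1)
    (S T : V →ₗ[ℂ] V) (hS : IsComm ρ S) (hT : IsComm ρ T) : S ∘ₗ T = T ∘ₗ S := by
  have hD : IsComm ρ (S ∘ₗ T - T ∘ₗ S) := by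
    intro g x
    simp only [LinearMap.sub_apply, LinearMap.comp_apply, map_sub, hT g, hS g]
  have h0 := eq_zero_of_irr ρ _ hD (by
    intro W _ _ _ σ _ ι hι
    by_cases hι0 : ι = 0
    · rw [hι0]
      ext
      simp
    have hne : (⟨ι, hι⟩ : homs ρ σ) ≠ 0 := fun h' => hι0 (congrArg Subtype.val h')
    have hpos : 0 < finrank ℂ (homs ρ σ) := by
      haveI : Nontrivial (homs ρ σ) := ⟨⟨_, 0, hne⟩⟩
      exact finrank_pos
    have h1 : finrank ℂ (homs ρ σ) = 1 := le_antisymm (h W σ) hpos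
    obtain ⟨c, hc⟩ := exists_smul_eq_of_finrank_eq_one h1 hne (⟨S ∘ₗ ι, comp_mem ρ σ S hS ι hι⟩ : homs ρ σ)
    obtain ⟨d, hd⟩ := exists_smul_eq_of_finrank_eq_one h1 hne (⟨T ∘ₗ ι, comp_mem ρ σ T hT ι hι⟩ : homs ρ σ)
    have hc' : S ∘ₗ ι = c • ι := (congrArg Subtype.val hc).symm
    have hd' : T ∘ₗ ι = d • ι := (congrArg Subtype.val hd).symm
    ext x
    have h2 : S (ι x) = c • ι x := LinearMap.congr_fun hc' x
    have h3 : T (ι x) = d • ι x := LinearMap.congr_fun hd' x
    simp only [LinearMap.comp_apply, LinearMap.sub_apply, h2, h3, map_smul, LinearMap.zero_apply]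
    rw [smul_smul, smul_smul, mul_comm, sub_self])
  exact sub_eq_zero.mp h0

/-- Commutative implies multiplicity-free. -/
theorem le_one_of_comm {W : Type w} [AddCommGroup W] [Module ℂ W] [FiniteDimensional ℂ W]
    (σ : Representation ℂ G W) [σ.IsIrreducible]
    (h : ∀ S T : V →ₗ[ℂ] V, IsComm ρ S → IsComm ρ T → S ∘ₗ T = T ∘ₗ S) : finrank ℂ (homs ρ σ) ≤ 1 := by
  by_contra hlt
  push Not at hlt
  have hnt : Nontrivial (homs ρ σ) := by
    apply Module.nontrivial_of_finrank_pos (R := ℂ)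
    omega
  obtain ⟨φ₁, hφ₁⟩ := exists_ne (0 : homs ρ σ)
  have hφ₁' : φ₁.1 ≠ 0 := fun h' => hφ₁ (Subtype.ext h')
  have hinj := injective_of_irr ρ σ φ₁.1 φ₁.2 hφ₁'
  obtain ⟨r, hr, hr1⟩ := exists_retract ρ σ φ₁.1 φ₁.2 hinj
  -- a second vector outside the line
  have : ∃ φ₂ : homs ρ σ, φ₂ ∉ Submodule.span ℂ {φ₁} := by
    by_contra hcon
    push Not at hcon
    have htop : Submodule.span ℂ {φ₁} = ⊤ := Submodule.eq_top_iff'.mpr hcon
    have h1 := finrank_span_singleton (K := ℂ) hφ₁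
    rw [htop, finrank_top] at h1
    omega
  obtain ⟨φ₂, hφ₂⟩ := this
  obtain ⟨c, hc⟩ := comp_scalar ρ σ φ₂.1 φ₂.2 r hr
  have hcomm := h (φ₁.1 ∘ₗ r) (φ₂.1 ∘ₗ r) (isComm_comp ρ σ _ φ₁.2 r hr) (isComm_comp ρ σ _ φ₂.2 r hr)
  apply hφ₂
  rw [Submodule.mem_span_singleton]
  refine ⟨c, ?_⟩
  apply Subtype.ext
  ext w
  -- evaluate at `φ₁ w`
  have h2 := LinearMap.congr_fun hcomm (φ₁.1 w)
  simp only [LinearMap.comp_apply] at h2
  have h3 : r (φ₁.1 w) = w := LinearMap.congr_fun hr1 w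
  have h4 : ∀ x, r (φ₂.1 x) = c • x := fun x => by
    have := LinearMap.congr_fun hc x
    simpa using this
  simp only [h3, h4, map_smul] at h2
  exact h2

end Span

section Perm

variable {G : Type u} [Group G] [Fintype G] {Ω : Type v} [Fintype Ω] [MulAction G Ω]

theorem permRep_eq : Cfsg.permRep ℂ G Ω = CfsgLib.Char.permRep Ω := by
  ext g f x
  rfl

theorem permRep_char (g : G) : (Cfsg.permRep ℂ G Ω).character g = (Nat.card (MulAction.fixedBy Ω g) : ℂ) := by
  rw [permRep_eq, CfsgLib.Char.permRep_character]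

/-- the permutation character -/
noncomputable def pi (G : Type u) [Group G] (Ω : Type v) [MulAction G Ω] : G → ℂ :=
  fun g => (Nat.card (MulAction.fixedBy Ω g) : ℂ)

theorem pi_eq : pi G Ω = (Cfsg.permRep ℂ G Ω).character := by
  funext g
  exact (permRep_char g).symm

theorem isComm_iff (S : (Ω → ℂ) →ₗ[ℂ] (Ω → ℂ)) :
    S ∈ ((Cfsg.permRep ℂ G Ω).linHom (Cfsg.permRep ℂ G Ω)).invariants ↔ IsComm (Cfsg.permRep ℂ G Ω) S := by
  have hinv1 : ∀ (g : G) (x : Ω → ℂ), (Cfsg.permRep ℂ G Ω) g⁻¹ ((Cfsg.permRep ℂ G Ω) g x) = x := by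
    intro g x
    funext y
    show x (g⁻¹ • (g⁻¹)⁻¹ • y) = x y
    simp
  have hinv2 : ∀ (g : G) (x : Ω → ℂ), (Cfsg.permRep ℂ G Ω) g ((Cfsg.permRep ℂ G Ω) g⁻¹ x) = x := by
    intro g x
    funext y
    show x ((g⁻¹)⁻¹ • g⁻¹ • y) = x y
    simp
  rw [Representation.mem_invariants]
  constructor
  · intro h g x
    have h1 := LinearMap.congr_fun (h g) ((Cfsg.permRep ℂ G Ω) g x)
    rw [Representation.linHom_apply] at h1
    simp only [LinearMap.comp_apply] at h1
    rw [hinv1] at h1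
    exact h1.symm
  · intro h g
    rw [Representation.linHom_apply]
    ext1 x
    simp only [LinearMap.comp_apply]
    rw [← h g, hinv2]

theorem main_0718 : (∀ χ : G → ℂ, Cfsg.IsIrrCharacter G χ →
      Cfsg.classInner (fun g : G => (Nat.card (MulAction.fixedBy Ω g) : ℂ)) χ = 0 ∨
      Cfsg.classInner (fun g : G => (Nat.card (MulAction.fixedBy Ω g) : ℂ)) χ = 1) ↔
    ∀ S T : (Ω → ℂ) →ₗ[ℂ] (Ω → ℂ), S ∈ ((Cfsg.permRep ℂ G Ω).linHom (Cfsg.permRep ℂ G Ω)).invariants →
      T ∈ ((Cfsg.permRep ℂ G Ω).linHom (Cfsg.permRep ℂ G Ω)).invariants → S ∘ₗ T = T ∘ₗ S := by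
  have hpi : (fun g : G => (Nat.card (MulAction.fixedBy Ω g) : ℂ)) = (Cfsg.permRep ℂ G Ω).character := pi_eq
  rw [hpi]
  constructor
  · intro h S T hS hT
    apply comm_of_le_one (Cfsg.permRep ℂ G Ω) _ S T ((isComm_iff S).mp hS) ((isComm_iff T).mp hT)
    intro W _ _ _ σ _
    have h1 := h σ.character (CfsgLib.Char.isIrrCharacter_character σ)
    rw [classInner_eq_finrank] at h1
    rcases h1 with h1 | h1
    · have : finrank ℂ (homs (Cfsg.permRep ℂ G Ω) σ) = 0 := by exact_mod_cast h1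
      omega
    · have : finrank ℂ (homs (Cfsg.permRep ℂ G Ω) σ) = 1 := by exact_mod_cast h1
      omega
  · rintro h χ ⟨n, σ, hσ, rfl⟩
    have h1 := le_one_of_comm (Cfsg.permRep ℂ G Ω) σ (fun S T hS hT => h S T ((isComm_iff S).mpr hS) ((isComm_iff T).mpr hT))
    rw [classInner_eq_finrank]
    have h2 : finrank ℂ (homs (Cfsg.permRep ℂ G Ω) σ) = 0 ∨ finrank ℂ (homs (Cfsg.permRep ℂ G Ω) σ) = 1 := by omega
    rcases h2 with h2 | h2 <;> rw [h2] <;> simp

/-- operator with a given kernel -/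
noncomputable def opOf (M : Ω → Ω → ℂ) : (Ω → ℂ) →ₗ[ℂ] (Ω → ℂ) := (Matrix.of M).mulVecLin

theorem opOf_apply (M : Ω → Ω → ℂ) (f : Ω → ℂ) (x : Ω) : opOf M f x = ∑ y, M x y * f y := rfl

theorem opOf_comm (M : Ω → Ω → ℂ) (hM : ∀ (g : G) x y, M (g • x) (g • y) = M x y) :
    IsComm (Cfsg.permRep ℂ G Ω) (opOf M) := by
  intro g f
  funext x
  show ∑ y, M x y * f (g⁻¹ • y) = ∑ y, M (g⁻¹ • x) y * f y
  apply Fintype.sum_equiv (MulAction.toPerm g⁻¹)
  intro y
  show M x y * f (g⁻¹ • y) = M (g⁻¹ • x) (g⁻¹ • y) * f (g⁻¹ • y)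
  rw [hM]

theorem trace_opOf [DecidableEq Ω] (M : Ω → Ω → ℂ) : LinearMap.trace ℂ (Ω → ℂ) (opOf M) = ∑ x, M x x := by
  rw [LinearMap.trace_eq_matrix_trace ℂ (Pi.basisFun ℂ Ω), Matrix.trace]
  apply Finset.sum_congr rfl
  intro x _
  simp only [Matrix.diag_apply, LinearMap.toMatrix_apply, Pi.basisFun_apply, Pi.basisFun_repr, opOf_apply]
  rw [Finset.sum_eq_single x]
  · simp
  · intro b _ hb
    simp [Pi.single_eq_of_ne hb]
  · simp

theorem phi_opOf [DecidableEq Ω] (M : Ω → Ω → ℂ) (g : G) :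
    phi (Cfsg.permRep ℂ G Ω) (opOf M) g = ∑ x, M x (g • x) := by
  unfold phi
  rw [LinearMap.trace_eq_matrix_trace ℂ (Pi.basisFun ℂ Ω), Matrix.trace]
  apply Finset.sum_congr rfl
  intro x _
  simp only [Matrix.diag_apply, LinearMap.toMatrix_apply, Pi.basisFun_apply, Pi.basisFun_repr,
    LinearMap.comp_apply, opOf_apply]
  rw [Finset.sum_eq_single (g • x)]
  · have : (Cfsg.permRep ℂ G Ω) g (Pi.single x 1) (g • x) = 1 := by
      show (Pi.single x 1 : Ω → ℂ) (g⁻¹ • g • x) = 1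
      simp
    rw [this, mul_one]
  · intro b _ hb
    have : (Cfsg.permRep ℂ G Ω) g (Pi.single x 1) b = 0 := by
      show (Pi.single x 1 : Ω → ℂ) (g⁻¹ • b) = 0
      apply Pi.single_eq_of_ne
      intro h
      apply hb
      rw [← h, smul_inv_smul]
    rw [this, mul_zero]
  · simp

/-- An operator with an integral kernel satisfies a monic integer polynomial. -/
theorem exists_poly_int (N : Ω → Ω → ℤ) :
    ∃ p : Polynomial ℤ, p.Monic ∧ Polynomial.aeval (opOf (fun x y => ((N x y : ℤ) : ℂ))) p = 0 := by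
  classical
  let A : Matrix Ω Ω ℤ := Matrix.of N
  refine ⟨A.charpoly, Matrix.charpoly_monic A, ?_⟩
  let Θ : Matrix Ω Ω ℤ →+* ((Ω → ℂ) →ₗ[ℂ] (Ω → ℂ)) :=
    (Matrix.toLinAlgEquiv' : Matrix Ω Ω ℂ ≃ₐ[ℂ] _).toRingEquiv.toRingHom.comp (Int.castRingHom ℂ).mapMatrix
  have h1 : Θ A = opOf (fun x y => ((N x y : ℤ) : ℂ)) := by
    apply LinearMap.ext
    intro f
    funext x
    rfl
  rw [← h1]
  have h2 := Polynomial.aeval_algHom_apply (Θ.toIntAlgHom) A A.charpoly
  have h3 : Θ.toIntAlgHom A = Θ A := rfl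
  rw [h3] at h2
  rw [h2, Matrix.aeval_self_charpoly]
  exact map_zero _

/-- Integrality gives divisibility. -/
theorem nat_dvd_of_integral (f k : ℕ) (I : ℂ) (hI : IsIntegral ℤ I) (h : (k : ℂ) = f * I) : f ∣ k := by
  rcases Nat.eq_zero_or_pos f with rfl | hf
  · simp at h
    simp [h]
  have hf' : (f : ℂ) ≠ 0 := by exact_mod_cast hf.ne'
  have hI' : I = (((k : ℚ) / f : ℚ) : ℂ) := by
    push_cast
    field_simp
    rw [h]
    ring
  rw [hI'] at hI
  have h1 : IsIntegral ℤ ((k : ℚ) / f : ℚ) := by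
    apply (isIntegral_algebraMap_iff (R := ℤ) (A := ℚ) (B := ℂ) (x := ((k : ℚ) / f : ℚ)) (algebraMap ℚ ℂ).injective).mp
    rw [eq_ratCast]
    exact hI
  obtain ⟨y, hy⟩ := IsIntegrallyClosed.isIntegral_iff.mp h1
  have h2 : (k : ℚ) = f * y := by
    have hf'' : (f : ℚ) ≠ 0 := by exact_mod_cast hf.ne'
    have : (y : ℚ) = (k : ℚ) / f := by simpa using hy
    rw [this]
    field_simp
  have h3 : (k : ℤ) = f * y := by exact_mod_cast h2
  have h4 : (f : ℤ) ∣ k := ⟨y, h3⟩
  exact Int.natCast_dvd_natCast.mp h4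

section Orbital

variable [MulAction.IsPretransitive G Ω]

open Classical in
/-- the orbital kernel -/
noncomputable def orbN (a b : Ω) : Ω → Ω → ℤ :=
  fun x y => if ∃ g : G, g • a = x ∧ g • b = y then 1 else 0

theorem orbN_inv (a b : Ω) (g : G) (x y : Ω) : orbN (G := G) a b (g • x) (g • y) = orbN (G := G) a b x y := by
  classical
  unfold orbN
  have : (∃ t : G, t • a = g • x ∧ t • b = g • y) ↔ ∃ t : G, t • a = x ∧ t • b = y := by
    constructor
    · rintro ⟨t, h1, h2⟩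
      refine ⟨g⁻¹ * t, ?_, ?_⟩
      · rw [mul_smul, h1, inv_smul_smul]
      · rw [mul_smul, h2, inv_smul_smul]
    · rintro ⟨t, h1, h2⟩
      refine ⟨g * t, ?_, ?_⟩
      · rw [mul_smul, h1]
      · rw [mul_smul, h2]
  simp only [this]

noncomputable def orbM (a b : Ω) : Ω → Ω → ℂ := fun x y => ((orbN (G := G) a b x y : ℤ) : ℂ)

theorem orbM_inv (a b : Ω) (g : G) (x y : Ω) : orbM (G := G) a b (g • x) (g • y) = orbM (G := G) a b x y := by
  unfold orbM
  rw [orbN_inv]

theorem orbM_comm (a b : Ω) : IsComm (Cfsg.permRep ℂ G Ω) (opOf (orbM (G := G) a b)) :=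
  opOf_comm _ (orbM_inv a b)

/-- The valency. -/
theorem sum_orbM (a b x : Ω) : ∑ y, orbM (G := G) a b x y = (Nat.card (MulAction.orbit (MulAction.stabilizer G a) b) : ℂ) := by
  classical
  obtain ⟨t, rfl⟩ := MulAction.exists_smul_eq G a x
  have h1 : ∑ y, orbM (G := G) a b (t • a) y = ∑ y, orbM (G := G) a b a y := by
    apply Fintype.sum_equiv (MulAction.toPerm t⁻¹)
    intro y
    have := orbM_inv (G := G) a b t a (t⁻¹ • y)
    rw [smul_inv_smul] at this
    exact this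
  rw [h1]
  have h2 : ∀ y, orbM (G := G) a b a y = if y ∈ MulAction.orbit (MulAction.stabilizer G a) b then 1 else 0 := by
    intro y
    unfold orbM orbN
    have : (∃ g : G, g • a = a ∧ g • b = y) ↔ y ∈ MulAction.orbit (MulAction.stabilizer G a) b := by
      constructor
      · rintro ⟨g, h3, h4⟩
        exact ⟨⟨g, h3⟩, h4⟩
      · rintro ⟨g, h4⟩
        exact ⟨g.1, g.2, h4⟩
    by_cases hy : y ∈ MulAction.orbit (MulAction.stabilizer G a) b
    · rw [if_pos (this.mpr hy), if_pos hy]; simp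
    · rw [if_neg (fun h => hy (this.mp h)), if_neg hy]; simp
  simp only [h2]
  rw [Finset.sum_boole, Nat.card_eq_fintype_card, Fintype.card_subtype]

open Classical in
/-- Fibres of the orbit map. -/
theorem card_fiber (x y : Ω) : (Fintype.card Ω : ℂ) * (Finset.univ.filter (fun g : G => g • x = y)).card = Fintype.card G := by
  classical
  have h1 : ∀ z, (Finset.univ.filter (fun g : G => g • x = z)).card = (Finset.univ.filter (fun g : G => g • x = y)).card := by
    intro z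
    obtain ⟨t, rfl⟩ := MulAction.exists_smul_eq G y z
    apply Finset.card_bij (fun g _ => t⁻¹ * g)
    · intro g hg
      simp only [Finset.mem_filter, Finset.mem_univ, true_and] at hg ⊢
      rw [mul_smul, hg, inv_smul_smul]
    · intro g _ g' _ h
      exact mul_left_cancel h
    · intro g hg
      simp only [Finset.mem_filter, Finset.mem_univ, true_and] at hg
      refine ⟨t * g, ?_, by group⟩
      simp only [Finset.mem_filter, Finset.mem_univ, true_and]
      rw [mul_smul, hg]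
  have h2 : Fintype.card G = ∑ z : Ω, (Finset.univ.filter (fun g : G => g • x = z)).card := by
    rw [← Finset.card_univ]
    exact Finset.card_eq_sum_card_fiberwise (fun _ _ => Finset.mem_coe.mpr (Finset.mem_univ _))
  rw [h2, Finset.sum_congr rfl (fun z _ => h1 z), Finset.sum_const, Finset.card_univ, smul_eq_mul]
  push_cast
  rfl

theorem classInner_phi_one [Nonempty Ω] (a b : Ω) :
    classInner (phi (Cfsg.permRep ℂ G Ω) (opOf (orbM (G := G) a b))) (fun _ => 1) =
      (Nat.card (MulAction.orbit (MulAction.stabilizer G a) b) : ℂ) := by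
  classical
  rw [classInner_def]
  simp only [map_one, mul_one]
  simp only [phi_opOf]
  rw [Finset.sum_comm]
  set k : ℂ := (Nat.card (MulAction.orbit (MulAction.stabilizer G a) b) : ℂ) with hk
  have hn : (Fintype.card Ω : ℂ) ≠ 0 := by
    exact_mod_cast Fintype.card_ne_zero
  have hG : (Fintype.card G : ℂ) ≠ 0 := card_ne G
  have h1 : ∀ x : Ω, ∑ g : G, orbM (G := G) a b x (g • x) = (Fintype.card G : ℂ) / Fintype.card Ω * k := by
    intro x
    have h2 : ∑ g : G, orbM (G := G) a b x (g • x) =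
        ∑ y : Ω, ∑ g ∈ Finset.univ.filter (fun g : G => g • x = y), orbM (G := G) a b x y := by
      rw [← Finset.sum_fiberwise (s := Finset.univ) (g := fun g : G => g • x)]
      apply Finset.sum_congr rfl
      intro y _
      apply Finset.sum_congr rfl
      intro g hg
      simp only [Finset.mem_filter, Finset.mem_univ, true_and] at hg
      rw [hg]
    rw [h2]
    have h3 : ∀ y, ∑ g ∈ Finset.univ.filter (fun g : G => g • x = y), orbM (G := G) a b x y
        = (Fintype.card G : ℂ) / Fintype.card Ω * orbM (G := G) a b x y := by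
      intro y
      rw [Finset.sum_const, nsmul_eq_mul]
      congr 1
      rw [eq_div_iff hn, mul_comm]
      exact card_fiber x y
    simp only [h3]
    rw [← Finset.mul_sum, sum_orbM]
  simp only [h1]
  rw [Finset.sum_const, Finset.card_univ, nsmul_eq_mul, Nat.card_eq_fintype_card]
  field_simp

theorem isIntegral_natC (m : ℕ) : IsIntegral ℤ (m : ℂ) := by
  have := isIntegral_algebraMap (R := ℤ) (A := ℂ) (x := (m : ℤ))
  simpa using this

theorem classInner_phi_integral (a b : Ω) {χ : G → ℂ} (hχ : IsIrrCharacter G χ) :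
    IsIntegral ℤ (classInner (phi (Cfsg.permRep ℂ G Ω) (opOf (orbM (G := G) a b))) χ) := by
  obtain ⟨n, σ, hσ, rfl⟩ := hχ
  obtain ⟨p, hp, hp0⟩ := exists_poly_int (orbN (G := G) a b)
  exact isIntegral_classInner (Cfsg.permRep ℂ G Ω) σ _ (orbM_comm a b) p hp hp0

theorem classInner_phi_zero (S : (Ω → ℂ) →ₗ[ℂ] (Ω → ℂ)) (hS : IsComm (Cfsg.permRep ℂ G Ω) S)
    {χ : G → ℂ} (hχ : IsIrrCharacter G χ) (h0 : classInner (pi G Ω) χ = 0) :
    classInner (phi (Cfsg.permRep ℂ G Ω) S) χ = 0 := by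
  obtain ⟨n, σ, hσ, rfl⟩ := hχ
  rw [pi_eq, classInner_eq_finrank] at h0
  have h1 : finrank ℂ (homs (Cfsg.permRep ℂ G Ω) σ) = 0 := by exact_mod_cast h0
  rw [phi_classInner (Cfsg.permRep ℂ G Ω) σ S hS]
  have h2 : Subsingleton (homs (Cfsg.permRep ℂ G Ω) σ) := Module.finrank_zero_iff.mp h1
  have h3 : star (Cfsg.permRep ℂ G Ω) σ S hS = 0 := by
    apply LinearMap.ext
    intro f
    exact Subsingleton.elim _ _
  rw [h3, map_zero]

theorem main_0715 [DecidableEq Ω] (f : ℕ)
    (hf : ∀ χ : G → ℂ, IsIrrCharacter G χ → χ ≠ (fun _ => 1) → classInner (pi G Ω) χ ≠ 0 →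
      ∃ m : ℕ, χ 1 = (f : ℂ) * m) (a b : Ω) (hab : b ≠ a) :
    f ∣ Nat.card (MulAction.orbit (MulAction.stabilizer G a) b) := by
  classical
  haveI : Nonempty Ω := ⟨a⟩
  set S := opOf (orbM (G := G) a b) with hSdef
  have hS := orbM_comm (G := G) a b
  have hclass := phi_isClass (Cfsg.permRep ℂ G Ω) S hS
  have h0 : phi (Cfsg.permRep ℂ G Ω) S 1 = 0 := by
    rw [hSdef, phi_opOf]
    apply Finset.sum_eq_zero
    intro x _
    rw [one_smul]
    unfold orbM orbN
    rw [if_neg]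
    · simp
    · rintro ⟨g, h1, h2⟩
      exact hab (smul_left_cancel g (h2.trans h1.symm))
  have hexp := classFunction_apply hclass 1
  rw [h0] at hexp
  let ψ₀ : IrrCharacter G := ⟨fun _ => 1, isIrrCharacter_one⟩
  rw [← Finset.add_sum_erase _ _ (Finset.mem_univ ψ₀)] at hexp
  have hψ₀ : classInner (phi (Cfsg.permRep ℂ G Ω) S) (ψ₀ : G → ℂ) * (ψ₀ : G → ℂ) 1 =
      (Nat.card (MulAction.orbit (MulAction.stabilizer G a) b) : ℂ) := by
    rw [classInner_phi_one a b]
    simp [ψ₀]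
  rw [hψ₀] at hexp
  have hJ : ∀ ψ : IrrCharacter G, ψ ≠ ψ₀ → ∃ J : ℂ, IsIntegral ℤ J ∧
      classInner (phi (Cfsg.permRep ℂ G Ω) S) (ψ : G → ℂ) * (ψ : G → ℂ) 1 = f * J := by
    intro ψ hψ
    by_cases hm : classInner (pi G Ω) (ψ : G → ℂ) = 0
    · refine ⟨0, isIntegral_zero, ?_⟩
      rw [classInner_phi_zero S hS ψ.2 hm]
      simp
    · obtain ⟨m, hm'⟩ := hf ψ ψ.2 (fun h => hψ (Subtype.ext h)) hm
      refine ⟨m * classInner (phi (Cfsg.permRep ℂ G Ω) S) (ψ : G → ℂ), ?_, ?_⟩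
      · exact (isIntegral_natC m).mul (classInner_phi_integral a b ψ.2)
      · rw [hm']
        ring
  choose! J hJ1 hJ2 using hJ
  have hsum : ∑ ψ ∈ Finset.univ.erase ψ₀, classInner (phi (Cfsg.permRep ℂ G Ω) S) (ψ : G → ℂ) * (ψ : G → ℂ) 1
      = f * ∑ ψ ∈ Finset.univ.erase ψ₀, J ψ := by
    rw [Finset.mul_sum]
    apply Finset.sum_congr rfl
    intro ψ hψ
    exact hJ2 ψ (Finset.ne_of_mem_erase hψ)
  rw [hsum] at hexp
  apply nat_dvd_of_integral f _ (-∑ ψ ∈ Finset.univ.erase ψ₀, J ψ)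
  · apply IsIntegral.neg
    apply IsIntegral.sum
    intro ψ hψ
    exact hJ1 ψ (Finset.ne_of_mem_erase hψ)
  · rw [mul_neg]
    exact eq_neg_of_add_eq_zero_left hexp.symm

end Orbital

end Perm

end CfsgLib.H9.PermChar
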