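import Mathlib
import Cfsg.Agent.Lib.H9.PermChar
import Cfsg.Agent.Lib.Char.Misc3

/-! Rank and multiplicities of permutation characters. -/

set_option autoImplicit false
set_option linter.unusedVariables false
set_option linter.unusedSectionVars false
set_option linter.unusedSimpArgs false
set_option linter.style.haveILetI false

namespace CfsgLib.H9.PermChar

open Module Cfsg CfsgLib.Char
open scoped ComplexConjugate

universe u v

variable {G : Type u} [Group G] [Fintype G] {Ω : Type v} [Fintype Ω] [MulAction G Ω]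

theorem pi_isCharacter : IsCharacter G (pi G Ω) := isCharacter_perm Ω

theorem classInner_pi_one [MulAction.IsPretransitive G Ω] [Nonempty Ω] :
    classInner (pi G Ω) (fun _ => 1) = 1 := by
  have h1 := sum_fixedBy_eq (G := G) Ω
  have h2 : Nat.card (MulAction.orbitRel.Quotient G Ω) = 1 := by
    rw [Nat.card_eq_one_iff_unique]
    exact ⟨(MulAction.pretransitive_iff_subsingleton_quotient G Ω).mp inferInstance,
      ⟨Quotient.mk'' (Classical.arbitrary Ω)⟩⟩
  rw [h2] at h1
  rw [classInner_def]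
  simpa [pi] using h1

theorem fix_pairs (g : G) : Nat.card (MulAction.fixedBy (Ω × Ω) g) =
    (Nat.card (MulAction.fixedBy Ω g)) ^ 2 := by
  have e : MulAction.fixedBy (Ω × Ω) g ≃ MulAction.fixedBy Ω g × MulAction.fixedBy Ω g :=
    { toFun := fun p => (⟨p.1.1, by
          have h : g • p.1 = p.1 := p.2
          exact congrArg Prod.fst h⟩, ⟨p.1.2, by
          have h : g • p.1 = p.1 := p.2
          exact congrArg Prod.snd h⟩)
      invFun := fun p => ⟨(p.1.1, p.2.1), by
        show g • ((p.1.1, p.2.1) : Ω × Ω) = _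
        rw [Prod.smul_mk]
        have h1 : g • p.1.1 = p.1.1 := p.1.2
        have h2 : g • p.2.1 = p.2.1 := p.2.2
        rw [h1, h2]⟩
      left_inv := fun p => rfl
      right_inv := fun p => rfl }
  rw [Nat.card_congr e, Nat.card_prod, sq]

section
variable [MulAction.IsPretransitive G Ω]

/-- orbits of the point stabiliser give orbits on pairs. -/
theorem card_pairs (a : Ω) :
    Nat.card (MulAction.orbitRel.Quotient G (Ω × Ω)) =
      Nat.card (MulAction.orbitRel.Quotient (MulAction.stabilizer G a) Ω) := by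
  symm
  let F : MulAction.orbitRel.Quotient (MulAction.stabilizer G a) Ω →
      MulAction.orbitRel.Quotient G (Ω × Ω) :=
    Quotient.lift (fun b => (Quotient.mk'' (a, b) : MulAction.orbitRel.Quotient G (Ω × Ω)))
      (by
        intro b b' h
        have h' : b ∈ MulAction.orbit (MulAction.stabilizer G a) b' := h
        obtain ⟨s, hs⟩ := h'
        apply Quotient.sound'
        show (a, b) ∈ MulAction.orbit G (a, b')
        refine ⟨(s : G), ?_⟩
        have hsa : (s : G) • a = a := s.2
        have hsb : (s : G) • b' = b := hs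
        show (s : G) • (a, b') = (a, b)
        rw [Prod.smul_mk, hsa, hsb])
  apply Nat.card_eq_of_bijective F
  constructor
  · intro q q'
    induction q using Quotient.inductionOn
    induction q' using Quotient.inductionOn
    rename_i b b'
    intro h
    have h' : (a, b) ∈ MulAction.orbit G (a, b') := Quotient.exact' h
    obtain ⟨g, hg⟩ := h'
    have hg' : g • (a, b') = (a, b) := hg
    rw [Prod.smul_mk, Prod.mk.injEq] at hg'
    apply Quotient.sound'
    show b ∈ MulAction.orbit (MulAction.stabilizer G a) b'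
    exact ⟨⟨g, hg'.1⟩, hg'.2⟩
  · intro q
    induction q using Quotient.inductionOn
    rename_i p
    obtain ⟨g, hg⟩ := MulAction.exists_smul_eq G p.1 a
    refine ⟨Quotient.mk'' (g • p.2), ?_⟩
    show (Quotient.mk'' (a, g • p.2) : MulAction.orbitRel.Quotient G (Ω × Ω)) = _
    apply Quotient.sound'
    show (a, g • p.2) ∈ MulAction.orbit G p
    refine ⟨g, ?_⟩
    show g • p = _
    rw [Prod.smul_def, hg]

/-- `⟨π, π⟩` is the rank. -/
theorem classInner_pi_pi (a : Ω) : classInner (pi G Ω) (pi G Ω) =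
    (Nat.card (MulAction.orbitRel.Quotient (MulAction.stabilizer G a) Ω) : ℂ) := by
  rw [← card_pairs a, ← sum_fixedBy_eq (G := G) (Ω × Ω), classInner_def]
  congr 1
  apply Finset.sum_congr rfl
  intro g _
  simp only [pi, fix_pairs, Complex.conj_natCast]
  push_cast
  ring

end

variable (G Ω) in
/-- multiplicity of an irreducible character in the permutation character -/
noncomputable def mult (ψ : IrrCharacter G) : ℕ :=
  ((pi_isCharacter (G := G) (Ω := Ω)).classInner_nat ψ.2).choose

theorem mult_spec (ψ : IrrCharacter G) : classInner (pi G Ω) (ψ : G → ℂ) = mult G Ω ψ :=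
  ((pi_isCharacter (G := G) (Ω := Ω)).classInner_nat ψ.2).choose_spec

theorem pi_apply_sum (g : G) : pi G Ω g = ∑ ψ : IrrCharacter G, (mult G Ω ψ : ℂ) * (ψ : G → ℂ) g := by
  have h := (pi_isCharacter (G := G) (Ω := Ω)).eq_sum_classInner
  have h2 := congrFun h g
  rw [h2, Finset.sum_apply]
  apply Finset.sum_congr rfl
  intro ψ _
  rw [Pi.smul_apply, smul_eq_mul, mult_spec]

theorem pi_eq_sum_fun : pi G Ω = ∑ ψ : IrrCharacter G, (mult G Ω ψ : ℂ) • (ψ : G → ℂ) := by
  funext g
  rw [pi_apply_sum, Finset.sum_apply]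
  rfl

theorem sum_mult_sq [MulAction.IsPretransitive G Ω] (a : Ω) :
    ∑ ψ : IrrCharacter G, (mult G Ω ψ) ^ 2 =
      Nat.card (MulAction.orbitRel.Quotient (MulAction.stabilizer G a) Ω) := by
  have h := classInner_pi_pi (G := G) a
  conv_lhs at h => rw [pi_eq_sum_fun (G := G) (Ω := Ω)]
  rw [← pi_eq_sum_fun (G := G) (Ω := Ω)] at h
  conv_lhs at h => arg 2; rw [pi_eq_sum_fun (G := G) (Ω := Ω)]
  rw [classInner_sum_right] at h
  have h2 : ∀ ψ : IrrCharacter G, classInner (pi G Ω) ((mult G Ω ψ : ℂ) • (ψ : G → ℂ)) =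
      ((mult G Ω ψ ^ 2 : ℕ) : ℂ) := by
    intro ψ
    rw [classInner_smul_right, mult_spec]
    simp
    ring
  simp only [h2] at h
  exact_mod_cast h

/-- The degree of an irreducible character as a natural number. -/
noncomputable def deg (ψ : IrrCharacter G) : ℕ := ψ.2.isCharacter.map_one.choose

theorem deg_spec (ψ : IrrCharacter G) : (ψ : G → ℂ) 1 = deg ψ := ψ.2.isCharacter.map_one.choose_spec

theorem deg_pos (ψ : IrrCharacter G) : 0 < deg ψ := by
  rcases Nat.eq_zero_or_pos (deg ψ) with h | h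
  · exact absurd (by rw [deg_spec, h]; simp) ψ.2.map_one_ne_zero
  · exact h

theorem pi_one : pi G Ω 1 = Fintype.card Ω := by
  have : Nat.card (MulAction.fixedBy Ω (1 : G)) = Fintype.card Ω := by
    rw [MulAction.fixedBy_one_eq_univ]
    simp
  simp [pi, this]

theorem sum_mult_deg : ∑ ψ : IrrCharacter G, mult G Ω ψ * deg ψ = Fintype.card Ω := by
  have h := pi_apply_sum (G := G) (Ω := Ω) 1
  rw [pi_one] at h
  simp only [deg_spec] at h
  exact_mod_cast h.symm

/-- the principal character as an element of `IrrCharacter`. -/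
noncomputable def psi0 (G : Type u) [Group G] [Fintype G] : IrrCharacter G := ⟨fun _ => 1, isIrrCharacter_one⟩

theorem mult_psi0 [MulAction.IsPretransitive G Ω] [Nonempty Ω] : mult G Ω (psi0 G) = 1 := by
  have h := mult_spec (G := G) (Ω := Ω) (psi0 G)
  have h2 : classInner (pi G Ω) ((psi0 G : IrrCharacter G) : G → ℂ) = 1 := classInner_pi_one
  rw [h2] at h
  exact_mod_cast h.symm

theorem deg_psi0 : deg (psi0 G) = 1 := by
  have h := deg_spec (psi0 G)
  have h2 : ((psi0 G : IrrCharacter G) : G → ℂ) 1 = 1 := rfl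
  rw [h2] at h
  exact_mod_cast h.symm

section Sub

variable [MulAction.IsPretransitive G Ω]

/-- Sum of the subdegrees. -/
theorem sum_subdegrees (a : Ω) [Fintype (MulAction.orbitRel.Quotient (MulAction.stabilizer G a) Ω)] :
    ∑ q : MulAction.orbitRel.Quotient (MulAction.stabilizer G a) Ω,
      Nat.card (MulAction.orbit (MulAction.stabilizer G a) (Quotient.out q)) = Fintype.card Ω := by
  classical
  have e := MulAction.selfEquivSigmaOrbits (MulAction.stabilizer G a) Ω
  rw [← Nat.card_eq_fintype_card, Nat.card_congr e, Nat.card_sigma]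

theorem orbit_out_card (a b : Ω) : Nat.card (MulAction.orbit (MulAction.stabilizer G a)
      (Quotient.out (Quotient.mk'' b : MulAction.orbitRel.Quotient (MulAction.stabilizer G a) Ω))) =
    Nat.card (MulAction.orbit (MulAction.stabilizer G a) b) := by
  have h : Quotient.out (Quotient.mk'' b : MulAction.orbitRel.Quotient (MulAction.stabilizer G a) Ω)
      ∈ MulAction.orbit (MulAction.stabilizer G a) b :=
    Quotient.mk_out (s := MulAction.orbitRel (MulAction.stabilizer G a) Ω) b
  rw [MulAction.orbit_eq_iff.mpr h]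

theorem orbit_self_card (a : Ω) : Nat.card (MulAction.orbit (MulAction.stabilizer G a) a) = 1 := by
  have : MulAction.orbit (MulAction.stabilizer G a) a = {a} := by
    ext x
    constructor
    · rintro ⟨s, rfl⟩
      exact s.2
    · rintro rfl
      exact MulAction.mem_orbit_self _
  rw [this]
  simp

theorem card_orbit_pos (a b : Ω) : 0 < Nat.card (MulAction.orbit (MulAction.stabilizer G a) b) := by
  haveI : Nonempty (MulAction.orbit (MulAction.stabilizer G a) b) := ⟨⟨b, MulAction.mem_orbit_self _⟩⟩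
  exact Nat.card_pos

end Sub

section Main16

variable [MulAction.IsPretransitive G Ω] [DecidableEq Ω]

theorem orbit_mk_ne (a b : Ω) (hab : b ≠ a) :
    (Quotient.mk'' b : MulAction.orbitRel.Quotient (MulAction.stabilizer G a) Ω) ≠ Quotient.mk'' a := by
  intro h
  have h' : b ∈ MulAction.orbit (MulAction.stabilizer G a) a := Quotient.exact' h
  obtain ⟨s, hs⟩ := h'
  apply hab
  rw [← hs]
  exact s.2

theorem out_ne (a : Ω) (q : MulAction.orbitRel.Quotient (MulAction.stabilizer G a) Ω)
    (hq : q ≠ Quotient.mk'' a) : Quotient.out q ≠ a := by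
  intro h
  apply hq
  exact (Quotient.out_eq q).symm.trans (congrArg (Quotient.mk'' (s₁ := MulAction.orbitRel (MulAction.stabilizer G a) Ω)) h)

theorem main_0716a (a : Ω) (f : ℕ)
    (hf : ∀ χ : G → ℂ, IsIrrCharacter G χ → χ ≠ (fun _ => 1) → classInner (pi G Ω) χ ≠ 0 → χ 1 = f) :
    (∀ χ : G → ℂ, IsIrrCharacter G χ → classInner (pi G Ω) χ = 0 ∨ classInner (pi G Ω) χ = 1) ∧
      ∀ b : Ω, b ≠ a → Nat.card (MulAction.orbit (MulAction.stabilizer G a) b) = f := by
  classical
  haveI : Nonempty Ω := ⟨a⟩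
  haveI : Fintype (MulAction.orbitRel.Quotient (MulAction.stabilizer G a) Ω) := Fintype.ofFinite _
  let q₀ : MulAction.orbitRel.Quotient (MulAction.stabilizer G a) Ω := Quotient.mk'' a
  have hdvd : ∀ b : Ω, b ≠ a → f ∣ Nat.card (MulAction.orbit (MulAction.stabilizer G a) b) :=
    fun b hb => main_0715 f (fun χ hχ h1 h2 => ⟨1, by rw [hf χ hχ h1 h2]; simp⟩) a b hb
  let k : MulAction.orbitRel.Quotient (MulAction.stabilizer G a) Ω → ℕ := fun q =>
    Nat.card (MulAction.orbit (MulAction.stabilizer G a) (Quotient.out q))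
  have hk0 : k q₀ = 1 := by
    show Nat.card (MulAction.orbit (MulAction.stabilizer G a) (Quotient.out (Quotient.mk'' a : MulAction.orbitRel.Quotient (MulAction.stabilizer G a) Ω))) = 1
    rw [orbit_out_card, orbit_self_card]
  have hkf : ∀ q ∈ Finset.univ.erase q₀, f ≤ k q := by
    intro q hq
    exact Nat.le_of_dvd (card_orbit_pos _ _) (hdvd _ (out_ne a q (Finset.ne_of_mem_erase hq)))
  have hdeg : ∀ ψ : IrrCharacter G, ψ ≠ psi0 G → mult G Ω ψ * deg ψ = mult G Ω ψ * f := by
    intro ψ hψ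
    rcases Nat.eq_zero_or_pos (mult G Ω ψ) with h | h
    · rw [h]; simp
    · have h1 : (ψ : G → ℂ) ≠ fun _ => 1 := fun h' => hψ (Subtype.ext h')
      have h2 : classInner (pi G Ω) (ψ : G → ℂ) ≠ 0 := by
        rw [mult_spec]
        exact_mod_cast h.ne'
      have h3 := hf ψ ψ.2 h1 h2
      rw [deg_spec] at h3
      have h4 : deg ψ = f := by exact_mod_cast h3
      rw [h4]
  set E := (Finset.univ : Finset (IrrCharacter G)).erase (psi0 G) with hE
  have S1 : Fintype.card Ω = 1 + ∑ ψ ∈ E, mult G Ω ψ * f := by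
    rw [← sum_mult_deg (G := G) (Ω := Ω), ← Finset.add_sum_erase _ _ (Finset.mem_univ (psi0 G)),
      mult_psi0, deg_psi0]
    simp only [one_mul, add_right_inj]
    apply Finset.sum_congr rfl
    intro ψ hψ
    exact hdeg ψ (Finset.ne_of_mem_erase hψ)
  have S2 : Nat.card (MulAction.orbitRel.Quotient (MulAction.stabilizer G a) Ω) =
      1 + ∑ ψ ∈ E, (mult G Ω ψ) ^ 2 := by
    rw [← sum_mult_sq (G := G) a, ← Finset.add_sum_erase _ _ (Finset.mem_univ (psi0 G)), mult_psi0]
    simp
    rfl
  have S3 : Fintype.card Ω = 1 + ∑ q ∈ Finset.univ.erase q₀, k q := by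
    rw [← sum_subdegrees (G := G) a, ← Finset.add_sum_erase _ _ (Finset.mem_univ q₀)]
    exact congrArg (· + _) hk0
  have S4 : Nat.card (MulAction.orbitRel.Quotient (MulAction.stabilizer G a) Ω) =
      1 + (Finset.univ.erase q₀).card := by
    rw [Finset.card_erase_of_mem (Finset.mem_univ _), Finset.card_univ, Nat.card_eq_fintype_card]
    have : 0 < Fintype.card (MulAction.orbitRel.Quotient (MulAction.stabilizer G a) Ω) :=
      Fintype.card_pos_iff.mpr ⟨q₀⟩
    omega
  have hcardE : (Finset.univ.erase q₀).card = ∑ ψ ∈ E, (mult G Ω ψ) ^ 2 := by omega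
  have hsumk : ∑ q ∈ Finset.univ.erase q₀, k q = ∑ ψ ∈ E, mult G Ω ψ * f := by omega
  have hle1 : ∑ q ∈ Finset.univ.erase q₀, f ≤ ∑ q ∈ Finset.univ.erase q₀, k q := Finset.sum_le_sum hkf
  have hle2 : (∑ ψ ∈ E, (mult G Ω ψ) ^ 2) * f ≤ (∑ ψ ∈ E, mult G Ω ψ) * f := by
    rw [Finset.sum_const, smul_eq_mul, hcardE, hsumk, ← Finset.sum_mul] at hle1
    exact hle1
  rcases Nat.eq_zero_or_pos f with hf0 | hfpos
  · -- no nonprincipal constituents
    refine ⟨?_, ?_⟩
    · intro χ hχ
      by_cases h1 : χ = fun _ => 1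
      · right
        rw [h1]
        exact classInner_pi_one
      · left
        by_contra h2
        have := hf χ hχ h1 h2
        rw [hf0] at this
        exact hχ.map_one_ne_zero (by simpa using this)
    · intro b hb
      have := hdvd b hb
      rw [hf0] at this ⊢
      exact Nat.eq_zero_of_zero_dvd this
  · have hle3 : ∑ ψ ∈ E, (mult G Ω ψ) ^ 2 ≤ ∑ ψ ∈ E, mult G Ω ψ := Nat.le_of_mul_le_mul_right hle2 hfpos
    have hle4 : ∀ ψ ∈ E, mult G Ω ψ ≤ (mult G Ω ψ) ^ 2 := fun ψ _ => by nlinarith [Nat.zero_le (mult G Ω ψ), Nat.le_self_pow (n := 2) (by norm_num) (mult G Ω ψ)]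
    have heq : ∑ ψ ∈ E, mult G Ω ψ = ∑ ψ ∈ E, (mult G Ω ψ) ^ 2 := le_antisymm (Finset.sum_le_sum hle4) hle3
    have heq2 := (Finset.sum_eq_sum_iff_of_le hle4).mp heq
    refine ⟨?_, ?_⟩
    · intro χ hχ
      by_cases h1 : χ = fun _ => 1
      · right
        rw [h1]
        exact classInner_pi_one
      · have h2 := heq2 ⟨χ, hχ⟩ (Finset.mem_erase.mpr ⟨fun h => h1 (congrArg Subtype.val h), Finset.mem_univ _⟩)
        have h3 := mult_spec (G := G) (Ω := Ω) ⟨χ, hχ⟩
        have h4 : classInner (pi G Ω) χ = mult G Ω ⟨χ, hχ⟩ := h3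
        have h5 : mult G Ω ⟨χ, hχ⟩ = 0 ∨ mult G Ω ⟨χ, hχ⟩ = 1 := by
          rcases Nat.lt_or_ge 1 (mult G Ω ⟨χ, hχ⟩) with h | h
          · nlinarith
          · omega
        rw [h4]
        rcases h5 with h5 | h5 <;> rw [h5] <;> simp
    · intro b hb
      have hb' := orbit_mk_ne (G := G) a b hb
      have hsum : ∑ q ∈ Finset.univ.erase q₀, f = ∑ q ∈ Finset.univ.erase q₀, k q := by
        rw [hsumk, Finset.sum_const, smul_eq_mul, hcardE, ← Finset.sum_mul, heq]
      have := (Finset.sum_eq_sum_iff_of_le hkf).mp hsum (Quotient.mk'' b) (Finset.mem_erase.mpr ⟨hb', Finset.mem_univ _⟩)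
      have h6 : k (Quotient.mk'' b) = Nat.card (MulAction.orbit (MulAction.stabilizer G a) b) :=
        orbit_out_card a b
      rw [← h6, ← this]

theorem main_0716b (a : Ω) (hr : Nat.card (MulAction.orbitRel.Quotient (MulAction.stabilizer G a) Ω) ≤ 5) :
    ∀ χ : G → ℂ, IsIrrCharacter G χ → classInner (pi G Ω) χ = 0 ∨ classInner (pi G Ω) χ = 1 := by
  classical
  intro χ hχ
  haveI : Nonempty Ω := ⟨a⟩
  set c : IrrCharacter G := ⟨χ, hχ⟩ with hc
  have h4 : classInner (pi G Ω) χ = mult G Ω c := mult_spec c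
  rw [h4]
  by_contra hcon
  have hM : 2 ≤ mult G Ω c := by
    by_contra h
    have : mult G Ω c = 0 ∨ mult G Ω c = 1 := by omega
    rcases this with h5 | h5 <;> rw [h5] at hcon <;> simp at hcon
  have hne : c ≠ psi0 G := by
    intro h
    rw [h, mult_psi0] at hM
    omega
  have h1 := sum_mult_sq (G := G) (Ω := Ω) a
  rw [← Finset.add_sum_erase _ _ (Finset.mem_univ (psi0 G)), mult_psi0,
    ← Finset.add_sum_erase _ _ (Finset.mem_erase.mpr ⟨hne, Finset.mem_univ c⟩)] at h1
  have hM2 : mult G Ω c = 2 := by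
    have h5 : (mult G Ω c) ^ 2 ≤ 4 := by
      have : ((1 : ℕ)) ^ 2 = 1 := by norm_num
      omega
    have h6 : mult G Ω c ≤ 2 := by
      by_contra h
      have : 3 ≤ mult G Ω c := by omega
      nlinarith
    omega
  rw [hM2] at h1
  have hrest : ∑ ψ ∈ (Finset.univ.erase (psi0 G)).erase c, (mult G Ω ψ) ^ 2 = 0 := by omega
  have hzero : ∀ ψ : IrrCharacter G, ψ ≠ psi0 G ∧ ψ ≠ c → mult G Ω ψ = 0 := by
    intro ψ hψ
    have := (Finset.sum_eq_zero_iff.mp hrest) ψ (Finset.mem_erase.mpr ⟨hψ.2, Finset.mem_erase.mpr ⟨hψ.1, Finset.mem_univ _⟩⟩)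
    simpa using this
  have hpi : ∀ g : G, pi G Ω g = 1 + 2 * χ g := by
    intro g
    rw [pi_apply_sum, Fintype.sum_eq_add (psi0 G) c hne.symm]
    · rw [mult_psi0, hM2]
      simp [psi0, hc]
    · intro ψ hψ
      rw [hzero ψ hψ]
      simp
  have hodd : ∀ g : G, 1 ≤ Nat.card (MulAction.fixedBy Ω g) := by
    intro g
    have h5 : ((Nat.card (MulAction.fixedBy Ω g) + 1 : ℕ) : ℂ) = (2 : ℕ) * (χ g + 1) := by
      have := hpi g
      unfold pi at this
      push_cast
      rw [this]
      ring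
    have h6 := nat_dvd_of_integral 2 _ (χ g + 1) (hχ.isCharacter.isIntegral g |>.add isIntegral_one) h5
    omega
  have hsum : ∑ g : G, Nat.card (MulAction.fixedBy Ω g) = ∑ g : G, 1 := by
    have h7 := classInner_pi_one (G := G) (Ω := Ω)
    rw [classInner_def] at h7
    have h8 : (Nat.card G : ℂ) ≠ 0 := card_ne_zero_C G
    have h9 : (∑ g : G, ((Nat.card (MulAction.fixedBy Ω g) : ℕ) : ℂ)) = Nat.card G := by
      have : (Nat.card G : ℂ)⁻¹ * ∑ g : G, ((Nat.card (MulAction.fixedBy Ω g) : ℕ) : ℂ) = 1 := by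
        simpa [pi] using h7
      field_simp at this
      exact this
    have h10 : (∑ g : G, Nat.card (MulAction.fixedBy Ω g)) = Nat.card G := by exact_mod_cast h9
    rw [h10]
    simp
  have h1fix := (Finset.sum_eq_sum_iff_of_le (fun g _ => hodd g)).mp hsum.symm 1 (Finset.mem_univ _)
  have h2fix : pi G Ω 1 = 1 := by
    unfold pi
    rw [← h1fix]
    simp
  rw [hpi] at h2fix
  have h3fix : χ 1 = 0 := by
    have : 2 * χ 1 = 0 := by linear_combination h2fix
    simpa using this
  exact hχ.map_one_ne_zero h3fix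

end Main16

end CfsgLib.H9.PermChar
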