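import Cfsg.Agent.Lib.H9.WPoly
import Cfsg.Prelude.Def_Perm

set_option autoImplicit false
set_option linter.unusedSectionVars false
set_option linter.unusedSimpArgs false

/-!
Wielandt's modular proof of Burnside's theorem on transitive groups of prime degree.
-/

namespace CfsgLib.H9.WPoly

open Polynomial

variable {K : Type*} [Field K] {p : ℕ} [Fact p.Prime] [CharP K p]

theorem deg_lt_succ {P : K[X]} {n : ℕ} : P.degree < ((n + 1 : ℕ) : WithBot ℕ) ↔ P.natDegree ≤ n := by
  by_cases h : P = 0
  · simp only [h, degree_zero, natDegree_zero, zero_le, iff_true]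
    exact WithBot.bot_lt_coe _
  · rw [degree_eq_natDegree h]
    exact_mod_cast Nat.lt_succ_iff

theorem sum_cast_pow_lt {i : ℕ} (hi : i < p - 1) : ∑ j : ZMod p, (ZMod.cast j : K) ^ i = 0 := by
  have h1 : ∑ j : ZMod p, j ^ i = 0 :=
    FiniteField.sum_pow_lt_card_sub_one (ZMod p) i (by rw [ZMod.card]; exact hi)
  have h2 := congrArg (ZMod.castHom (dvd_refl p) K) h1
  simpa using h2

theorem sum_cast_pow_top : ∑ j : ZMod p, (ZMod.cast j : K) ^ (p - 1) = -1 := by
  have hp : p.Prime := Fact.out
  have h1 : ∑ j : ZMod p, (1 - j ^ (p - 1)) = 1 := by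
    have h2 : ∀ j : ZMod p, 1 - j ^ (p - 1) = if j = 0 then 1 else 0 := by
      intro j
      split_ifs with h
      · rw [h, zero_pow (by have := hp.one_lt; omega), sub_zero]
      · rw [ZMod.pow_card_sub_one_eq_one h, sub_self]
    simp only [h2, Finset.sum_ite_eq', Finset.mem_univ, if_true]
  rw [Finset.sum_sub_distrib] at h1
  simp only [Finset.sum_const, Finset.card_univ, ZMod.card, nsmul_eq_mul, mul_one,
    ZMod.natCast_self, zero_sub] at h1
  have h2 : ∑ j : ZMod p, j ^ (p - 1) = -1 := by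
    rw [← h1, neg_neg]
  have h3 := congrArg (ZMod.castHom (dvd_refl p) K) h2
  simpa using h3

theorem sum_ev {P : K[X]} (hP : P.degree < p) : ∑ j : ZMod p, ev K p P j = - P.coeff (p - 1) := by
  have hp : p.Prime := Fact.out
  have hnd : P.natDegree < p := by
    by_cases h : P = 0
    · simp [h, hp.pos]
    · exact (natDegree_lt_iff_degree_lt h).mpr hP
  have h1 : ∀ j : ZMod p, ev K p P j = ∑ i ∈ Finset.range p, P.coeff i * (ZMod.cast j : K) ^ i :=
    fun j => eval_eq_sum_range' hnd _
  simp only [h1]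
  rw [Finset.sum_comm]
  simp only [← Finset.mul_sum]
  rw [Finset.sum_eq_single (p - 1)]
  · rw [sum_cast_pow_top]; ring
  · intro i hi hne
    have : i < p - 1 := by
      have := Finset.mem_range.mp hi
      omega
    rw [sum_cast_pow_lt this, mul_zero]
  · intro h
    exact absurd (Finset.mem_range.mpr (by have := hp.pos; omega)) h

theorem sum_ev_eq_zero {P : K[X]} (hP : P.degree < (p - 1 : ℕ)) : ∑ j : ZMod p, ev K p P j = 0 := by
  have hp : p.Prime := Fact.out
  have h1 : P.degree < p := lt_of_lt_of_le hP (by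
    have : p - 1 ≤ p := Nat.sub_le _ _
    exact_mod_cast this)
  rw [sum_ev h1, (degree_lt_iff_coeff_zero P _).mp hP _ le_rfl, neg_zero]

/-- `W (p-1)` consists of the functions with sum zero. -/
theorem mem_W_pred_iff {f : ZMod p → K} : f ∈ W K p (p - 1) ↔ ∑ j, f j = 0 := by
  have hp : p.Prime := Fact.out
  constructor
  · intro h
    obtain ⟨P, hP, rfl⟩ := mem_W.mp h
    exact sum_ev_eq_zero hP
  · intro h
    obtain ⟨P, hP, rfl⟩ := exists_ev f
    rw [sum_ev hP, neg_eq_zero] at h
    apply ev_mem_W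
    rw [degree_lt_iff_coeff_zero]
    intro m hm
    rcases hm.eq_or_lt with rfl | hm
    · exact h
    · exact (degree_lt_iff_coeff_zero P _).mp hP m (by omega)

theorem mul_mem_W {a b : ℕ} {f f' : ZMod p → K} (hf : f ∈ W K p (a + 1)) (hf' : f' ∈ W K p (b + 1)) :
    f * f' ∈ W K p (a + b + 1) := by
  obtain ⟨P, hP, rfl⟩ := mem_W.mp hf
  obtain ⟨Q, hQ, rfl⟩ := mem_W.mp hf'
  have h1 : ev K p P * ev K p Q = ev K p (P * Q) := by
    funext j
    simp [ev_apply]
  rw [h1]
  apply ev_mem_W
  rw [deg_lt_succ] at hP hQ ⊢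
  exact natDegree_mul_le.trans (add_le_add hP hQ)

theorem W_le_W_iff {r s : ℕ} (hr : r ≤ p) (hs : s ≤ p) : W K p r ≤ W K p s ↔ r ≤ s := by
  refine ⟨fun h => ?_, W_mono⟩
  have := Submodule.finrank_mono h
  rwa [finrank_W hr, finrank_W hs] at this

/-- the function `j ↦ j` -/
noncomputable def xfn : ZMod p → K := fun j => ZMod.cast j

theorem xfn_eq_ev : xfn = ev K p X := by
  funext j
  simp [xfn, ev_apply]

theorem one_eq_ev : (fun _ => 1 : ZMod p → K) = ev K p 1 := by
  funext j
  simp [ev_apply]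

theorem one_mem_W {r : ℕ} (hr : 1 ≤ r) : (fun _ => 1 : ZMod p → K) ∈ W K p r :=
  W_mono hr (mem_W_one_iff.mpr ⟨1, rfl⟩)

theorem xfn_mem_W {r : ℕ} (hr : 2 ≤ r) : (xfn : ZMod p → K) ∈ W K p r := by
  rw [xfn_eq_ev]
  apply ev_mem_W
  refine lt_of_le_of_lt degree_X_le ?_
  exact_mod_cast (by omega : 1 < r)

theorem xfn_not_mem_W_one : (xfn : ZMod p → K) ∉ W K p 1 := by
  intro h
  obtain ⟨c, hc⟩ := mem_W_one_iff.mp h
  have h0 := congrFun hc 0
  have h1 := congrFun hc 1
  simp only [xfn] at h0 h1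
  rw [cast_zero'] at h0
  rw [cast_one', ← h0] at h1
  exact one_ne_zero h1

section Action

variable {G : Type*} [Group G] [MulAction G (ZMod p)]

local notation "ρ" => Cfsg.permRep K G (ZMod p)

theorem rho_apply (g : G) (f : ZMod p → K) (j : ZMod p) : ρ g f j = f (g⁻¹ • j) := rfl

theorem rho_mul (g : G) (f f' : ZMod p → K) : ρ g (f * f') = ρ g f * ρ g f' := rfl

variable (K G) in
/-- Invariance of a subspace. -/
def Inv (Y : Submodule K (ZMod p → K)) : Prop := ∀ g : G, ∀ f ∈ Y, Cfsg.permRep K G (ZMod p) g f ∈ Y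

/-- An invariant subspace for a group containing the translation is some `W r`. -/
theorem Inv.eq_W {u : G} (hu : ∀ j : ZMod p, u • j = j + 1) {Y : Submodule K (ZMod p → K)}
    (hY : Inv K G Y) : ∃ r : ℕ, r ≤ p ∧ Y = W K p r := by
  apply eq_W_of_shift_invariant
  intro f hf
  have h1 := hY u f hf
  have h2 : ρ u f = fun j => f (j - 1) := by
    funext j
    rw [rho_apply]
    congr 1
    rw [inv_smul_eq_iff, hu]
    ring
  rwa [h2] at h1

theorem inv_W_of_gens {r : ℕ}
    (h : ∀ g : G, ∀ i < r, ρ g (ev K p (X ^ i)) ∈ W K p r) : Inv K G (W K p r) := by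
  classical
  intro g f hf
  have hW : W K p r = Submodule.span K (ev K p '' ((Finset.range r).image fun n => (X ^ n : K[X]))) := by
    rw [W, degreeLT_eq_span_X_pow, Submodule.map_span]
  have hle : W K p r ≤ (W K p r).comap (ρ g) := by
    conv_lhs => rw [hW]
    rw [Submodule.span_le]
    rintro _ ⟨_, hq, rfl⟩
    obtain ⟨i, hi, rfl⟩ := Finset.mem_image.mp hq
    exact h g i (Finset.mem_range.mp hi)
  exact hle hf

theorem inv_W_top {r : ℕ} (hr : p ≤ r) : Inv K G (W K p r) := by
  intro g f _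
  exact W_mono hr (mem_W_p _)

theorem inv_W_one : Inv K G (W K p 1) := by
  intro g f hf
  obtain ⟨c, rfl⟩ := mem_W_one_iff.mp hf
  exact mem_W_one_iff.mpr ⟨c, rfl⟩

theorem inv_W_add {a b : ℕ} (ha : Inv K G (W K p (a + 1))) (hb : Inv K G (W K p (b + 1))) :
    Inv K G (W K p (a + b + 1)) := by
  apply inv_W_of_gens
  intro g i hi
  obtain ⟨i₁, i₂, h1, h2, rfl⟩ : ∃ i₁ i₂, i₁ ≤ a ∧ i₂ ≤ b ∧ i = i₁ + i₂ := by
    by_cases h : i ≤ a
    · exact ⟨i, 0, h, Nat.zero_le _, rfl⟩
    · exact ⟨a, i - a, le_rfl, by omega, by omega⟩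
  have e : ev K p (X ^ (i₁ + i₂)) = ev K p (X ^ i₁) * ev K p (X ^ i₂) := by
    funext j
    simp [ev_apply, pow_add]
  rw [e, rho_mul]
  apply mul_mem_W
  · apply ha
    apply ev_mem_W
    rw [deg_lt_succ]
    simpa using h1
  · apply hb
    apply ev_mem_W
    rw [deg_lt_succ]
    simpa using h2

theorem inv_W_reflect {t : ℕ} (ht : t + 2 ≤ p) (h : Inv K G (W K p (t + 1))) :
    Inv K G (W K p (p - 2 - t + 1)) := by
  intro g f hf
  obtain ⟨Q, hQ, hQf⟩ := exists_ev (ρ g f)
  rw [← hQf]
  apply ev_mem_W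
  rw [deg_lt_succ]
  by_contra hcon
  push Not at hcon
  set d := Q.natDegree with hd
  have hQ0 : Q ≠ 0 := by
    rintro rfl
    simp at hd
    omega
  have hdp : d ≤ p - 1 := by
    have := (natDegree_lt_iff_degree_lt hQ0).mpr hQ
    omega
  set H : K[X] := X ^ (p - 1 - d) with hH
  have hHmem : ev K p H ∈ W K p (t + 1) := by
    apply ev_mem_W
    rw [deg_lt_succ]
    simp only [hH, natDegree_X_pow]
    omega
  have h1 : ∑ j, ρ g f j * ev K p H j = - Q.leadingCoeff := by
    have h2 : ∀ j, ρ g f j * ev K p H j = ev K p (Q * H) j := by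
      intro j
      rw [← hQf]
      simp [ev_apply]
    simp only [h2]
    have hdeg : (Q * H).natDegree = p - 1 := by
      rw [natDegree_mul hQ0 (pow_ne_zero _ X_ne_zero)]
      simp only [hH, natDegree_X_pow]
      omega
    have hdeg' : (Q * H).degree < p := by
      have h3 : Q * H ≠ 0 := mul_ne_zero hQ0 (pow_ne_zero _ X_ne_zero)
      rw [degree_eq_natDegree h3, hdeg]
      have := (Fact.out : p.Prime).pos
      exact_mod_cast (by omega : p - 1 < p)
    rw [sum_ev hdeg', ← hdeg, coeff_natDegree, leadingCoeff_mul]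
    simp [hH]
  have h3 : ∑ j, ρ g f j * ev K p H j = ∑ j, f j * ρ g⁻¹ (ev K p H) j := by
    rw [← Equiv.sum_comp (MulAction.toPerm g : Equiv.Perm (ZMod p))]
    refine Finset.sum_congr rfl fun j _ => ?_
    simp [rho_apply]
  have h4 : f * ρ g⁻¹ (ev K p H) ∈ W K p (p - 2 - t + t + 1) := mul_mem_W hf (h g⁻¹ _ hHmem)
  have h5 : p - 2 - t + t + 1 = p - 1 := by omega
  rw [h5] at h4
  have h6 := mem_W_pred_iff.mp h4
  simp only [Pi.mul_apply] at h6
  rw [h3, h6] at h1
  have h7 : Q.leadingCoeff ≠ 0 := leadingCoeff_ne_zero.mpr hQ0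
  exact h7 (neg_eq_zero.mp h1.symm)

end Action

/-- Combinatorial lemma: the least positive element divides all elements. -/
theorem least_dvd (D : ℕ → Prop) (m : ℕ) (h0 : D 0)
    (hadd : ∀ a b, D a → D b → D (a + b)) (href : ∀ t, t ≤ m → D t → D (m - t))
    {s : ℕ} (hs : 0 < s) (hDs : D s) (hmin : ∀ t, 0 < t → t < s → ¬ D t) :
    ∀ t, t ≤ m → D t → s ∣ t := by
  intro t ht hDt
  have hmul : ∀ q, D (q * s) := by
    intro q
    induction q with
    | zero => simpa using h0
    | succ q ih => rw [Nat.succ_mul]; exact hadd _ _ ih hDs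
  have h1 := hadd _ _ (href t ht hDt) (hmul (t / s))
  have h2 : t = t % s + (t / s) * s := by
    rw [mul_comm]; exact (Nat.mod_add_div t s).symm
  have h3 : m - t + t / s * s ≤ m := by
    have : t / s * s ≤ t := Nat.div_mul_le_self t s
    omega
  have h4 := href _ h3 h1
  have h5 : m - (m - t + t / s * s) = t % s := by omega
  rw [h5] at h4
  by_contra hnd
  have h6 : 0 < t % s := Nat.pos_of_ne_zero (fun h => hnd (Nat.dvd_of_mod_eq_zero h))
  exact hmin _ h6 (Nat.mod_lt t hs) h4

section Main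

variable {G : Type*} [Group G] [MulAction G (ZMod p)]

local notation "ρ" => Cfsg.permRep K G (ZMod p)

/-- The contradiction for the least positive `s` with `2 ≤ s`, `2 * s < p`. -/
theorem false_of_least {u : G} (hu : ∀ j : ZMod p, u • j = j + 1) {s : ℕ} (hs2 : 2 ≤ s)
    (hsp : 2 * s < p) (hDs : Inv K G (W K p (s + 1)))
    (hmin : ∀ t, 0 < t → t < s → ¬ Inv K G (W K p (t + 1))) : False := by
  classical
  -- the submodule generated by `x` and `1`
  let Y : Submodule K (ZMod p → K) :=
    Submodule.span K (Set.range (fun g : G => ρ g xfn) ∪ {fun _ => 1})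
  have hYinv : Inv K G Y := by
    intro g f hf
    have hmap : Y.map (ρ g) ≤ Y := by
      rw [Submodule.map_span, Submodule.span_le]
      rintro _ ⟨f, hf, rfl⟩
      rcases hf with ⟨h, rfl⟩ | hf
      · apply Submodule.subset_span
        left
        refine ⟨g * h, ?_⟩
        show ρ (g * h) xfn = ρ g (ρ h xfn)
        rw [map_mul]
        rfl
      · rw [Set.mem_singleton_iff] at hf
        rw [hf]
        apply Submodule.subset_span
        right
        rfl
    exact hmap ⟨f, hf, rfl⟩
  obtain ⟨r, hr, hYr⟩ := hYinv.eq_W hu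
  have hxY : (xfn : ZMod p → K) ∈ Y := by
    apply Submodule.subset_span
    left
    refine ⟨1, ?_⟩
    show ρ 1 xfn = xfn
    rw [map_one]
    rfl
  have h1Y : (fun _ => 1 : ZMod p → K) ∈ Y := Submodule.subset_span (Or.inr rfl)
  have hr2 : 2 ≤ r := by
    by_contra h
    have : W K p r ≤ W K p 1 := W_mono (by omega)
    apply xfn_not_mem_W_one (K := K) (p := p)
    exact this (hYr ▸ hxY)
  -- some translate has exact degree `s`
  obtain ⟨g, hg⟩ : ∃ g : G, ρ g xfn ∉ W K p s := by
    by_contra hcon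
    push Not at hcon
    have hYle : Y ≤ W K p s := by
      rw [Submodule.span_le]
      rintro _ (⟨g, rfl⟩ | h)
      · exact hcon g
      · rw [Set.mem_singleton_iff] at h
        rw [h]
        exact one_mem_W (by omega)
    rw [hYr] at hYle
    have hle := (W_le_W_iff hr (by omega)).mp hYle
    obtain ⟨t, rfl⟩ : ∃ t, r = t + 1 := ⟨r - 1, by omega⟩
    exact hmin t (by omega) (by omega) (hYr ▸ hYinv)
  have hxs : ρ g xfn ∈ W K p (s + 1) := hDs g _ (xfn_mem_W (by omega))
  obtain ⟨F, hF, hFe⟩ := mem_W.mp hxs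
  have hFd : F.natDegree = s := by
    rw [deg_lt_succ] at hF
    by_contra hne
    apply hg
    rw [← hFe]
    apply ev_mem_W
    obtain ⟨s', rfl⟩ : ∃ s', s = s' + 1 := ⟨s - 1, by omega⟩
    rw [deg_lt_succ]
    omega
  have hF0 : F ≠ 0 := by
    rintro rfl
    simp at hFd
    omega
  have hsq : (xfn * xfn : ZMod p → K) ∈ W K p (s + 1) := by
    have : (xfn * xfn : ZMod p → K) ∈ W K p (1 + 1 + 1) := by
      have h1 : (xfn : ZMod p → K) ∈ W K p (1 + 1) := xfn_mem_W le_rfl
      exact mul_mem_W h1 h1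
    exact W_mono (by omega) this
  have h2 := hDs g _ hsq
  rw [rho_mul, ← hFe] at h2
  obtain ⟨Q, hQ, hQe⟩ := mem_W.mp h2
  have hFF : ev K p F * ev K p F = ev K p (F * F) := by
    funext j
    simp [ev_apply]
  rw [hFF] at hQe
  have hdegFF : (F * F).natDegree = 2 * s := by
    rw [natDegree_mul hF0 hF0, hFd]
    ring
  have hFFlt : (F * F).degree < p := by
    rw [degree_eq_natDegree (mul_ne_zero hF0 hF0), hdegFF]
    exact_mod_cast hsp
  have hQlt : Q.degree < p := lt_of_lt_of_le hQ (by exact_mod_cast (by omega : s + 1 ≤ p))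
  have heq := ev_injOn hQlt hFFlt hQe
  rw [deg_lt_succ, heq, hdegFF] at hQ
  omega

/-- If `W 2` is invariant, the group acts by affine maps. -/
theorem affine_of_inv {g : G} (h : Inv K G (W K p (1 + 1))) :
    ∃ a b : ZMod p, ∀ j : ZMod p, g • j = a * j + b := by
  have h1 := h g⁻¹ xfn (xfn_mem_W le_rfl)
  obtain ⟨F, hF, hFe⟩ := mem_W.mp h1
  rw [deg_lt_succ] at hF
  have hval : ∀ j : ZMod p, (ZMod.cast (g • j) : K) = F.eval (ZMod.cast j : K) := by
    intro j
    have := congrFun hFe j
    rw [ev_apply] at this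
    rw [this, rho_apply, inv_inv]
    rfl
  have hF2 : ∀ x : K, F.eval x = F.coeff 1 * x + F.coeff 0 := by
    intro x
    rw [eval_eq_sum_range' (by omega : F.natDegree < 2)]
    simp [Finset.sum_range_succ]
    ring
  refine ⟨g • 1 - g • 0, g • 0, fun j => ?_⟩
  apply cast_injective (K := K)
  show (ZMod.cast (g • j) : K) = ZMod.cast ((g • 1 - g • 0) * j + g • 0)
  rw [cast_add', cast_mul', cast_sub', hval, hval, hval, hF2, hF2, hF2, cast_zero', cast_one']
  ring

/-- Main theorem on invariant subspaces: if the group contains the translation and does not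
consist of affine maps, the only invariant subspaces are `0`, the constants, the functions of sum
zero and the whole space. -/
theorem inv_eq_of_not_affine {u : G} (hu : ∀ j : ZMod p, u • j = j + 1)
    (hna : ¬ ∀ g : G, ∃ a b : ZMod p, ∀ j : ZMod p, g • j = a * j + b)
    {Y : Submodule K (ZMod p → K)} (hY : Inv K G Y) :
    Y = ⊥ ∨ Y = W K p 1 ∨ Y = W K p (p - 1) ∨ Y = ⊤ := by
  classical
  have hp : p.Prime := Fact.out
  obtain ⟨r, hr, rfl⟩ := hY.eq_W hu
  by_cases hr0 : r = 0
  · left; rw [hr0, W_zero]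
  by_cases hr1 : r = 1
  · right; left; rw [hr1]
  by_cases hrp : r = p
  · right; right; right; rw [hrp, W_p]
  by_cases hrp1 : r = p - 1
  · right; right; left; rw [hrp1]
  exfalso
  let D : ℕ → Prop := fun t => Inv K G (W K p (t + 1))
  have hD0 : D 0 := inv_W_one
  have hadd : ∀ a b, D a → D b → D (a + b) := fun a b ha hb => inv_W_add ha hb
  have href : ∀ t, t ≤ p - 2 → D t → D (p - 2 - t) := by
    intro t ht hDt
    have hp2 := hp.two_le
    exact inv_W_reflect (by omega) hDt
  have hex : ∃ t, 0 < t ∧ D t := ⟨r - 1, by omega, by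
    show Inv K G (W K p (r - 1 + 1))
    rw [show r - 1 + 1 = r by omega]
    exact hY⟩
  let s := Nat.find hex
  obtain ⟨hs0, hDs⟩ : 0 < s ∧ D s := Nat.find_spec hex
  have hsle : s ≤ r - 1 := Nat.find_min' hex ⟨by omega, by
    show Inv K G (W K p (r - 1 + 1))
    rw [show r - 1 + 1 = r by omega]
    exact hY⟩
  have hmin : ∀ t, 0 < t → t < s → ¬ D t := fun t ht hts hDt => Nat.find_min hex hts ⟨ht, hDt⟩
  have hp2 := hp.two_le
  have hdvd := least_dvd D (p - 2) hD0 hadd href hs0 hDs hmin
  have hD2 : D (p - 2) := by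
    have := href 0 (Nat.zero_le _) hD0
    simpa using this
  have hsd := hdvd (p - 2) le_rfl hD2
  have h2s : 2 * s < p := by
    obtain ⟨c, hc⟩ := hsd
    have : c ≠ 0 := by
      rintro rfl
      omega
    have hc2 : c ≠ 1 := by
      rintro rfl
      omega
    have h2c : 2 ≤ c := by omega
    have h3 : s * 2 ≤ s * c := Nat.mul_le_mul_left s h2c
    omega
  by_cases hs2 : 2 ≤ s
  · exact false_of_least hu hs2 h2s hDs hmin
  · have hs1 : s = 1 := by omega
    rw [hs1] at hDs
    exact hna fun g => affine_of_inv hDs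

end Main

section Burn

variable {G : Type*} [Group G] [MulAction G (ZMod p)]

/-- **Burnside's theorem, in coordinates**: if the point stabiliser of `0` does not link `d₀` and
`d₁`, all the group elements are affine maps. -/
theorem affine_of_not_linked (K : Type*) [Field K] [CharP K p] {u : G} (hu : ∀ j : ZMod p, u • j = j + 1) {d₀ d₁ : ZMod p}
    (h0 : d₀ ≠ 0) (h1 : d₁ ≠ 0) (hnot : ¬ ∃ g : G, g • (0 : ZMod p) = 0 ∧ g • d₀ = d₁) :
    ∀ g : G, ∃ a b : ZMod p, ∀ j : ZMod p, g • j = a * j + b := by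
  classical
  let rr := Cfsg.permRep K G (ZMod p)
  have hp : p.Prime := Fact.out
  have hp2 := hp.two_le
  let R : ZMod p → ZMod p → Prop := fun a b => ∃ g : G, g • (0 : ZMod p) = a ∧ g • d₀ = b
  have hR : ∀ (g : G) a b, R (g • a) (g • b) ↔ R a b := by
    intro g a b
    constructor
    · rintro ⟨h, h2, h3⟩
      exact ⟨g⁻¹ * h, by rw [mul_smul, h2, inv_smul_smul], by rw [mul_smul, h3, inv_smul_smul]⟩
    · rintro ⟨h, h2, h3⟩
      exact ⟨g * h, by rw [mul_smul, h2], by rw [mul_smul, h3]⟩
  let L : (ZMod p → K) →ₗ[K] (ZMod p → K) :=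
    { toFun := fun f a => ∑ b, if R a b then f b - f a else 0
      map_add' := fun f f' => by
        funext a
        simp only [Pi.add_apply, ← Finset.sum_add_distrib]
        refine Finset.sum_congr rfl fun b _ => ?_
        split_ifs <;> ring
      map_smul' := fun c f => by
        funext a
        simp only [Pi.smul_apply, smul_eq_mul, RingHom.id_apply, Finset.mul_sum]
        refine Finset.sum_congr rfl fun b _ => ?_
        split_ifs <;> ring }
  have hLapp : ∀ f a, L f a = ∑ b, if R a b then f b - f a else 0 := fun _ _ => rfl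
  have hequiv : ∀ (g : G) f, L (rr g f) = rr g (L f) := by
    intro g f
    funext a
    rw [rho_apply, hLapp, hLapp]
    rw [← Equiv.sum_comp (MulAction.toPerm g⁻¹ : Equiv.Perm (ZMod p))
      (fun b => if R (g⁻¹ • a) b then f b - f (g⁻¹ • a) else 0)]
    refine Finset.sum_congr rfl fun b _ => ?_
    simp only [MulAction.toPerm_apply, rho_apply]
    have h2 : R (g⁻¹ • a) (g⁻¹ • b) ↔ R a b := hR g⁻¹ a b
    simp only [h2]
    rfl
  -- values of `L` on delta functions
  have hLδ : ∀ b, b ≠ 0 → L (Pi.single b 1) 0 = if R 0 b then 1 else 0 := by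
    intro b hb
    rw [hLapp]
    have h2 : ∀ c, (if R 0 c then (Pi.single b (1 : K) : ZMod p → K) c - (Pi.single b (1 : K) : ZMod p → K) 0 else 0)
        = if c = b then (if R 0 b then 1 else 0) else 0 := by
      intro c
      have h3 : (Pi.single b (1 : K) : ZMod p → K) 0 = 0 := by
        simp [Pi.single_apply, Ne.symm hb]
      rw [h3, sub_zero]
      by_cases hc : c = b
      · subst hc
        simp
      · simp [Pi.single_apply, hc]
    simp only [h2, Finset.sum_ite_eq', Finset.mem_univ, if_true]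
  have hR0 : R 0 d₀ := ⟨1, one_smul _ _, one_smul _ _⟩
  have hR1 : ¬ R 0 d₁ := fun ⟨g, h2, h3⟩ => hnot ⟨g, h2, h3⟩
  have hne : d₀ ≠ d₁ := by
    rintro rfl
    exact hR1 hR0
  have hL0 : L (Pi.single d₀ 1) 0 = 1 := by rw [hLδ d₀ h0, if_pos hR0]
  have hL1 : L (Pi.single d₁ 1) 0 = 0 := by rw [hLδ d₁ h1, if_neg hR1]
  -- kernel
  have hkerinv : Inv K G (LinearMap.ker L) := by
    intro g f hf
    rw [LinearMap.mem_ker] at hf ⊢
    rw [hequiv, hf, map_zero]
  obtain ⟨k, hk, hkerk⟩ := hkerinv.eq_W hu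
  have hconst : (fun _ => 1 : ZMod p → K) ∈ LinearMap.ker L := by
    rw [LinearMap.mem_ker]
    funext a
    rw [hLapp]
    simp
  have hk1 : 1 ≤ k := by
    by_contra h
    have hk0 : k = 0 := by omega
    rw [hkerk, hk0, W_zero, Submodule.mem_bot] at hconst
    have := congrFun hconst 0
    simp at this
  have hk2 : k ≤ p - 2 := by
    by_contra h
    have : p - 1 ≤ k := by omega
    have hd : (Pi.single d₀ 1 - Pi.single d₁ 1 : ZMod p → K) ∈ W K p (p - 1) := by
      rw [mem_W_pred_iff]
      simp [Finset.sum_sub_distrib, Finset.sum_pi_single']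
    have hd2 : (Pi.single d₀ 1 - Pi.single d₁ 1 : ZMod p → K) ∈ LinearMap.ker L := by
      rw [hkerk]
      exact W_mono this hd
    rw [LinearMap.mem_ker, map_sub] at hd2
    have := congrFun hd2 0
    rw [Pi.sub_apply, hL0, hL1] at this
    simp at this
  -- range
  have hraninv : Inv K G (LinearMap.range L) := by
    rintro g _ ⟨f, rfl⟩
    exact ⟨rr g f, hequiv g f⟩
  obtain ⟨r, hr, hranr⟩ := hraninv.eq_W hu
  have hr1 : 1 ≤ r := by
    by_contra h
    have hr0 : r = 0 := by omega
    rw [hr0, W_zero] at hranr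
    have h2 : L (Pi.single d₀ 1) ∈ LinearMap.range L := ⟨_, rfl⟩
    rw [hranr, Submodule.mem_bot] at h2
    have := congrFun h2 0
    rw [hL0] at this
    simp at this
  obtain ⟨y, hy⟩ : (fun _ => 1 : ZMod p → K) ∈ LinearMap.range L := by
    rw [hranr]
    exact one_mem_W hr1
  -- preimage of the constants
  let Y₂ : Submodule K (ZMod p → K) := (W K p 1).comap L
  have hY₂inv : Inv K G Y₂ := by
    intro g f hf
    show L (rr g f) ∈ W K p 1
    rw [hequiv]
    exact inv_W_one g _ hf
  obtain ⟨r', hr', hY₂r'⟩ := hY₂inv.eq_W hu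
  have hY₂le : Y₂ ≤ W K p (k + 1) := by
    intro f hf
    rw [mem_W_succ_iff (by omega), ← hkerk, LinearMap.mem_ker]
    have h2 : rr u = T K p := by
      refine LinearMap.ext fun f => funext fun j => ?_
      show f (u⁻¹ • j) = f (j - 1)
      congr 1
      rw [inv_smul_eq_iff, hu]
      ring
    have h3 : L (N K p f) = N K p (L f) := by
      show L (T K p f - f) = T K p (L f) - L f
      rw [map_sub, ← h2, hequiv]
    rw [h3]
    exact N_eq_zero_iff.mpr hf
  have hyY₂ : y ∈ Y₂ := by
    show L y ∈ W K p 1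
    rw [hy]
    exact one_mem_W le_rfl
  have hyk : y ∉ W K p k := by
    rw [← hkerk, LinearMap.mem_ker, hy]
    intro h
    have := congrFun h 0
    simp at this
  have hr'1 : r' = k + 1 := by
    have h3 : r' ≤ k + 1 := by
      rw [hY₂r'] at hY₂le
      exact (W_le_W_iff hr' (by omega)).mp hY₂le
    have h4 : k < r' := by
      by_contra h5
      apply hyk
      rw [hY₂r'] at hyY₂
      exact W_mono (by omega) hyY₂
    omega
  -- the combinatorics
  let D : ℕ → Prop := fun t => Inv K G (W K p (t + 1))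
  have hD0 : D 0 := inv_W_one
  have hadd : ∀ a b, D a → D b → D (a + b) := fun a b ha hb => inv_W_add ha hb
  have href : ∀ t, t ≤ p - 2 → D t → D (p - 2 - t) := by
    intro t ht hDt
    exact inv_W_reflect (by omega) hDt
  have hDk : D k := by
    show Inv K G (W K p (k + 1))
    rw [← hr'1, ← hY₂r']
    exact hY₂inv
  have hDk1 : D (k - 1) := by
    show Inv K G (W K p (k - 1 + 1))
    rw [show k - 1 + 1 = k by omega, ← hkerk]
    exact hkerinv
  have hex : ∃ t, 0 < t ∧ D t := ⟨k, by omega, hDk⟩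
  let s := Nat.find hex
  obtain ⟨hs0, hDs⟩ : 0 < s ∧ D s := Nat.find_spec hex
  have hmin : ∀ t, 0 < t → t < s → ¬ D t := fun t ht hts hDt => Nat.find_min hex hts ⟨ht, hDt⟩
  have hdvd := least_dvd D (p - 2) hD0 hadd href hs0 hDs hmin
  have h1' := hdvd k hk2 hDk
  have h2' := hdvd (k - 1) (by omega) hDk1
  have hs1 : s ∣ 1 := by
    have := Nat.dvd_sub h1' h2'
    rwa [show k - (k - 1) = 1 by omega] at this
  have hs : s = 1 := Nat.dvd_one.mp hs1
  rw [hs] at hDs
  exact fun g => affine_of_inv hDs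

end Burn


/-- A group acting faithfully on `ZMod p` by affine maps is solvable. -/
theorem isSolvable_of_affine {G : Type*} [Group G] [MulAction G (ZMod p)]
    [FaithfulSMul G (ZMod p)]
    (h : ∀ g : G, ∃ a b : ZMod p, ∀ j : ZMod p, g • j = a * j + b) : Group.IsSolvable G := by
  classical
  have hp : p.Prime := Fact.out
  have haff : ∀ (g : G) (j : ZMod p), g • j = (g • 1 - g • 0) * j + g • 0 := by
    intro g j
    obtain ⟨a, b, hab⟩ := h g
    rw [hab, hab, hab]
    ring
  let φ₀ : G →* ZMod p :=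
    { toFun := fun g => g • 1 - g • 0
      map_one' := by simp
      map_mul' := fun g g' => by
        simp only [mul_smul]
        rw [haff g (g' • 1), haff g (g' • 0)]
        ring }
  let φ : G →* (ZMod p)ˣ := φ₀.toHomUnits
  have hker : ∀ x ∈ φ.ker, ∀ y ∈ φ.ker, x * y = y * x := by
    intro x hx y hy
    have hx1 : φ₀ x = 1 := by
      have := congrArg Units.val (MonoidHom.mem_ker.mp hx)
      simpa [φ] using this
    have hy1 : φ₀ y = 1 := by
      have := congrArg Units.val (MonoidHom.mem_ker.mp hy)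
      simpa [φ] using this
    have hx2 : ∀ j : ZMod p, x • j = j + x • (0 : ZMod p) := by
      intro j
      rw [haff x j]
      have : (x • (1 : ZMod p) - x • 0) = 1 := hx1
      rw [this, one_mul]
    have hy2 : ∀ j : ZMod p, y • j = j + y • (0 : ZMod p) := by
      intro j
      rw [haff y j]
      have : (y • (1 : ZMod p) - y • 0) = 1 := hy1
      rw [this, one_mul]
    apply FaithfulSMul.eq_of_smul_eq_smul (α := ZMod p)
    intro j
    rw [mul_smul, mul_smul, hx2 (y • j), hy2 j, hy2 (x • j), hx2 j]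
    ring
  haveI : Group.IsSolvable φ.ker := Group.isSolvable_of_comm fun a b => Subtype.ext (hker a.1 a.2 b.1 b.2)
  exact Group.isSolvable_of_ker_le_range φ.ker.subtype φ (by simp)

end CfsgLib.H9.WPoly

namespace CfsgLib.H9.WPoly

section Coord

variable {p : ℕ} [Fact p.Prime] {α : Type*} [Fintype α]

/-- Coordinates on a set of prime size given by a transitive permutation group. -/
theorem exists_coord {G : Type*} [Group G] [Finite G] [MulAction G α] [FaithfulSMul G α]
    [MulAction.IsPretransitive G α] (hα : Fintype.card α = p) :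
    ∃ (e : ZMod p ≃ α) (u : G), ∀ j : ZMod p, u • e j = e (j + 1) := by
  classical
  have hp : p.Prime := Fact.out
  haveI : NeZero p := ⟨hp.ne_zero⟩
  haveI : Nonempty α := by
    rw [← Fintype.card_pos_iff, hα]
    exact hp.pos
  obtain ⟨a⟩ := ‹Nonempty α›
  have hdvd : p ∣ Nat.card G := by
    have h1 := Subgroup.card_mul_index (MulAction.stabilizer G a)
    have h2 : (MulAction.stabilizer G a).index = p := by
      rw [MulAction.index_stabilizer, MulAction.orbit_eq_univ, Set.ncard_univ, Nat.card_eq_fintype_card, hα]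
    rw [h2] at h1
    exact ⟨_, by rw [← h1, mul_comm]⟩
  obtain ⟨u, hu⟩ := exists_prime_orderOf_dvd_card' p hdvd
  have hu1 : u ≠ 1 := by
    rintro rfl
    rw [orderOf_one] at hu
    exact hp.one_lt.ne hu
  obtain ⟨x, hx⟩ : ∃ x : α, u • x ≠ x := by
    by_contra hcon
    push Not at hcon
    apply hu1
    apply FaithfulSMul.eq_of_smul_eq_smul (α := α)
    intro y
    rw [hcon y, one_smul]
  have hfix : ∀ i : ℕ, 0 < i → i < p → u ^ i • x ≠ x := by
    intro i hi hip hfx
    have hcop : Nat.Coprime i p := (Nat.coprime_comm.mp ((Nat.Prime.coprime_iff_not_dvd hp).mpr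
      (fun h => by have := Nat.le_of_dvd hi h; omega)))
    obtain ⟨k, hk⟩ := Nat.exists_mul_mod_eq_one_of_coprime hcop hp.one_lt
    have hpow : ∀ m : ℕ, (u ^ i) ^ m • x = x := by
      intro m
      induction m with
      | zero => simp
      | succ m ih => rw [pow_succ, mul_smul, hfx, ih]
    have h1 := hpow k
    rw [← pow_mul] at h1
    have h2 : u ^ (i * k) = u := by
      conv_rhs => rw [← pow_one u]
      rw [pow_eq_pow_iff_modEq, hu]
      show i * k % p = 1 % p
      rw [hk.2, Nat.mod_eq_of_lt hp.one_lt]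
    rw [h2] at h1
    exact hx h1
  let e₀ : ZMod p → α := fun j => u ^ j.val • x
  have hinj : Function.Injective e₀ := by
    have key : ∀ j j' : ZMod p, j.val < j'.val → e₀ j ≠ e₀ j' := by
      intro j j' hlt heq
      have h1 : u ^ (j'.val - j.val) • x = x := by
        have h2 : u ^ j'.val = u ^ j.val * u ^ (j'.val - j.val) := by
          rw [← pow_add]
          congr 1
          omega
        have h3 : u ^ j.val • x = u ^ j.val • (u ^ (j'.val - j.val) • x) := by
          rw [← mul_smul, ← h2]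
          exact heq
        exact (smul_left_cancel _ h3).symm
      exact hfix _ (by omega) (by have := ZMod.val_lt j'; omega) h1
    intro j j' heq
    rcases lt_trichotomy j.val j'.val with h | h | h
    · exact absurd heq (key j j' h)
    · exact ZMod.val_injective p h
    · exact absurd heq.symm (key j' j h)
  have hbij : Function.Bijective e₀ := by
    rw [Fintype.bijective_iff_injective_and_card]
    exact ⟨hinj, by rw [ZMod.card, hα]⟩
  refine ⟨Equiv.ofBijective e₀ hbij, u, fun j => ?_⟩
  show u • (u ^ j.val • x) = u ^ (j + 1).val • x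
  rw [← mul_smul, ← pow_succ']
  congr 1
  haveI : Fact (1 < p) := ⟨hp.one_lt⟩
  rw [ZMod.val_add, ZMod.val_one]
  have h3 := pow_mod_orderOf u (j.val + 1)
  rw [hu] at h3
  exact h3.symm

/-- The action on the coordinates. -/
@[reducible] def coordAction (G : Type*) [Group G] [MulAction G α] (e : ZMod p ≃ α) :
    MulAction G (ZMod p) where
  smul g j := e.symm (g • e j)
  one_smul j := by
    show e.symm ((1 : G) • e j) = j
    simp
  mul_smul g h j := by
    show e.symm ((g * h) • e j) = e.symm (g • e (e.symm (h • e j)))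
    simp [mul_smul]

variable (K : Type*) [Field K]

/-- Transport of functions. -/
noncomputable def coordF (e : ZMod p ≃ α) : (α → K) ≃ₗ[K] (ZMod p → K) :=
  LinearEquiv.funCongrLeft K K e

theorem coordF_apply (e : ZMod p ≃ α) (f : α → K) (j : ZMod p) : coordF K e f j = f (e j) := rfl

end Coord

end CfsgLib.H9.WPoly
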