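import Mathlib
import Cfsg.Agent.Lib.ClassGeo.Trans
import Cfsg.Prelude.Def_PLocal
import Cfsg.Prelude.Def_LocalEven

/-! `PSL_2(K)` does not involve `Qd(p)`: its `p`-subgroups are abelian. -/

set_option autoImplicit false
set_option linter.unusedVariables false
set_option linter.unusedSectionVars false
set_option linter.unusedSimpArgs false
set_option linter.style.haveILetI false

namespace CfsgLib.H9.QdSection

open Matrix

/-- All `p`-subgroups are abelian. -/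
def PAb (p : ℕ) (G : Type*) [Group G] : Prop :=
  ∀ S : Subgroup G, IsPGroup p S → ∀ a ∈ S, ∀ b ∈ S, a * b = b * a

theorem PAb.subgroup {p : ℕ} {G : Type*} [Group G] (h : PAb p G) (K : Subgroup G) : PAb p K := by
  intro S hS a ha b hb
  have h1 : IsPGroup p (S.map K.subtype) := hS.map K.subtype
  apply Subtype.ext
  exact h _ h1 a.1 ⟨a, ha, rfl⟩ b.1 ⟨b, hb, rfl⟩

theorem PAb.surj {p : ℕ} [Fact p.Prime] {G G' : Type*} [Group G] [Finite G] [Group G'] (h : PAb p G) (f : G →* G')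
    (hf : Function.Surjective f) : PAb p G' := by
  intro S hS a ha b hb
  haveI : Finite G' := Finite.of_surjective f hf
  obtain ⟨Q, hQ⟩ := hS.exists_le_sylow
  obtain ⟨P, rfl⟩ := Sylow.mapSurjective_surjective hf p Q
  have ha' := hQ ha
  have hb' := hQ hb
  rw [Sylow.coe_mapSurjective] at ha' hb'
  obtain ⟨x, hx, rfl⟩ := ha'
  obtain ⟨y, hy, rfl⟩ := hb'
  rw [← map_mul, ← map_mul, h _ P.2 x hx y hy]

variable {K : Type*} [Field K] [Fintype K]

theorem sl2_commute (g h : Matrix.SpecialLinearGroup (Fin 2) K)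
    (hg : (g : Matrix (Fin 2) (Fin 2) K) *ᵥ (Pi.single 0 1) = Pi.single 0 1)
    (hh : (h : Matrix (Fin 2) (Fin 2) K) *ᵥ (Pi.single 0 1) = Pi.single 0 1) : g * h = h * g := by
  have entries : ∀ g : Matrix.SpecialLinearGroup (Fin 2) K,
      (g : Matrix (Fin 2) (Fin 2) K) *ᵥ (Pi.single 0 1) = Pi.single 0 1 →
      (g : Matrix (Fin 2) (Fin 2) K) 0 0 = 1 ∧ (g : Matrix (Fin 2) (Fin 2) K) 1 0 = 0 ∧ (g : Matrix (Fin 2) (Fin 2) K) 1 1 = 1 := by
    intro g hg
    have h1 := congrFun hg 0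
    have h2 := congrFun hg 1
    simp only [Matrix.mulVec_single_one, Matrix.col_apply] at h1 h2
    have h3 : (g : Matrix (Fin 2) (Fin 2) K) 0 0 = 1 := by simpa using h1
    have h4 : (g : Matrix (Fin 2) (Fin 2) K) 1 0 = 0 := by simpa using h2
    have h5 := g.2
    rw [Matrix.det_fin_two, h3, h4] at h5
    refine ⟨h3, h4, ?_⟩
    simpa using h5
  obtain ⟨a1, a2, a3⟩ := entries g hg
  obtain ⟨b1, b2, b3⟩ := entries h hh
  apply Subtype.ext
  change (g : Matrix (Fin 2) (Fin 2) K) * (h : Matrix (Fin 2) (Fin 2) K) = (h : Matrix (Fin 2) (Fin 2) K) * (g : Matrix (Fin 2) (Fin 2) K)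
  ext i j
  fin_cases i <;> fin_cases j <;> simp [Matrix.mul_apply, Fin.sum_univ_two, a1, a2, a3, b1, b2, b3, add_comm]

/-- Action on nonzero vectors. -/
abbrev NZ (K : Type*) [Field K] := {v : Fin 2 → K // v ≠ 0}

instance instActNZ : MulAction (Matrix.SpecialLinearGroup (Fin 2) K) (NZ K) where
  smul g v := ⟨(g : Matrix (Fin 2) (Fin 2) K) *ᵥ v.1, fun h => v.2 (by
    have h1 : ((g⁻¹ : Matrix.SpecialLinearGroup (Fin 2) K) : Matrix (Fin 2) (Fin 2) K) *ᵥ ((g : Matrix (Fin 2) (Fin 2) K) *ᵥ v.1) = 0 := by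
      rw [h, Matrix.mulVec_zero]
    rw [Matrix.mulVec_mulVec, ← Matrix.SpecialLinearGroup.coe_mul, inv_mul_cancel] at h1
    simpa using h1)⟩
  one_smul v := Subtype.ext (by
    change ((1 : Matrix.SpecialLinearGroup (Fin 2) K) : Matrix (Fin 2) (Fin 2) K) *ᵥ v.1 = v.1
    simp)
  mul_smul g h v := Subtype.ext (by
    change ((g * h : Matrix.SpecialLinearGroup (Fin 2) K) : Matrix (Fin 2) (Fin 2) K) *ᵥ v.1 = (g : Matrix (Fin 2) (Fin 2) K) *ᵥ ((h : Matrix (Fin 2) (Fin 2) K) *ᵥ v.1)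
    rw [Matrix.SpecialLinearGroup.coe_mul, Matrix.mulVec_mulVec])

theorem smul_val (g : Matrix.SpecialLinearGroup (Fin 2) K) (v : NZ K) :
    (g • v).1 = (g : Matrix (Fin 2) (Fin 2) K) *ᵥ v.1 := rfl

theorem not_dvd_card_NZ (p : ℕ) [Fact p.Prime] [CharP K p] : ¬ p ∣ Nat.card (NZ K) := by
  classical
  have hp : p ∣ Fintype.card K := by
    have := Nat.cast_card_eq_zero K
    exact (CharP.cast_eq_zero_iff K p _).mp this
  have h1 : Nat.card (NZ K) + 1 = Fintype.card K ^ 2 := by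
    rw [Nat.card_eq_fintype_card]
    have h2 := Fintype.card_subtype_compl (fun v : Fin 2 → K => v = 0)
    have h3 : Fintype.card {v : Fin 2 → K // v = 0} = 1 := Fintype.card_subtype_eq _
    have h4 : Fintype.card (Fin 2 → K) = Fintype.card K ^ 2 := by simp
    have h5 : Fintype.card (Fin 2 → K) ≥ 1 := Fintype.card_pos
    have h6 : Fintype.card (NZ K) = Fintype.card (Fin 2 → K) - 1 := by
      rw [← h3, ← h2]
    omega
  intro hd
  have h2 : p ∣ Fintype.card K ^ 2 := Dvd.dvd.pow hp (by norm_num)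
  rw [← h1] at h2
  have h3 : p ∣ 1 := (Nat.dvd_add_right hd).mp h2
  exact (Fact.out : p.Prime).one_lt.ne' (Nat.dvd_one.mp h3)

theorem sl2 (p : ℕ) [Fact p.Prime] [CharP K p] : PAb p (Matrix.SpecialLinearGroup (Fin 2) K) := by
  classical
  intro S hS a ha b hb
  haveI : Finite (NZ K) := inferInstance
  obtain ⟨v, hv⟩ := hS.nonempty_fixed_point_of_prime_not_dvd_card (NZ K) (not_dvd_card_NZ (K := K) p)
  obtain ⟨s, hs⟩ := CfsgLib.ClassGeo.exists_SL_mulVec_eq_single (i := (0 : Fin 2)) (j := 1) (by decide) v.1 v.2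
  have key : ∀ g ∈ S, ((s * g * s⁻¹ : Matrix.SpecialLinearGroup (Fin 2) K) : Matrix (Fin 2) (Fin 2) K) *ᵥ (Pi.single 0 1) = Pi.single 0 1 := by
    intro g hg
    have h1 : g • v = v := hv ⟨g, hg⟩
    have h2 : (g : Matrix (Fin 2) (Fin 2) K) *ᵥ v.1 = v.1 := congrArg Subtype.val h1
    have h3 : ((s⁻¹ : Matrix.SpecialLinearGroup (Fin 2) K) : Matrix (Fin 2) (Fin 2) K) *ᵥ (Pi.single 0 1) = v.1 := by
      rw [← hs, Matrix.mulVec_mulVec, ← Matrix.SpecialLinearGroup.coe_mul, inv_mul_cancel]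
      simp
    rw [Matrix.SpecialLinearGroup.coe_mul, ← Matrix.mulVec_mulVec, h3, Matrix.SpecialLinearGroup.coe_mul, ← Matrix.mulVec_mulVec, h2, hs]
  have h := sl2_commute _ _ (key a ha) (key b hb)
  have h2 : s * (a * b) * s⁻¹ = s * (b * a) * s⁻¹ := by
    calc s * (a * b) * s⁻¹ = (s * a * s⁻¹) * (s * b * s⁻¹) := by group
      _ = (s * b * s⁻¹) * (s * a * s⁻¹) := h
      _ = s * (b * a) * s⁻¹ := by group
  exact mul_left_cancel (mul_right_cancel h2)

/-- The unitriangular submonoid. -/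
def uniM (p : ℕ) [Fact p.Prime] : Submonoid (Matrix.SpecialLinearGroup (Fin 3) (ZMod p)) where
  carrier := {M | (M : Matrix (Fin 3) (Fin 3) (ZMod p)) 1 0 = 0 ∧ (M : Matrix (Fin 3) (Fin 3) (ZMod p)) 2 0 = 0 ∧
    (M : Matrix (Fin 3) (Fin 3) (ZMod p)) 2 1 = 0 ∧ (M : Matrix (Fin 3) (Fin 3) (ZMod p)) 0 0 = 1 ∧
    (M : Matrix (Fin 3) (Fin 3) (ZMod p)) 1 1 = 1 ∧ (M : Matrix (Fin 3) (Fin 3) (ZMod p)) 2 2 = 1}
  one_mem' := by simp
  mul_mem' := by
    rintro a b ⟨a1, a2, a3, a4, a5, a6⟩ ⟨b1, b2, b3, b4, b5, b6⟩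
    simp only [Set.mem_ofPred_eq, Matrix.SpecialLinearGroup.coe_mul, Matrix.mul_apply, Fin.sum_univ_three,
      a1, a2, a3, a4, a5, a6, b1, b2, b3, b4, b5, b6]
    simp

/-- The unitriangular subgroup. -/
def uni (p : ℕ) [Fact p.Prime] : Subgroup (Matrix.SpecialLinearGroup (Fin 3) (ZMod p)) where
  toSubmonoid := uniM p
  inv_mem' := by
    intro a ha
    have h1 : a⁻¹ = a ^ (orderOf a - 1) := by
      apply inv_eq_of_mul_eq_one_left
      rw [← pow_succ, Nat.sub_add_cancel (orderOf_pos a), pow_orderOf_eq_one]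
    rw [h1]
    exact (uniM p).pow_mem ha _

theorem uni_pow (p : ℕ) [Fact p.Prime] (hp : p ≠ 2) (g) (hg : g ∈ uni p) : g ^ p = 1 := by
  obtain ⟨a1, a2, a3, a4, a5, a6⟩ := hg
  have hp3 : 3 ≤ p := by
    have := (Fact.out : p.Prime).two_le
    omega
  apply Subtype.ext
  rw [Matrix.SpecialLinearGroup.coe_pow, Matrix.SpecialLinearGroup.coe_one]
  set G : Matrix (Fin 3) (Fin 3) (ZMod p) := (g : Matrix (Fin 3) (Fin 3) (ZMod p)) with hG
  set N : Matrix (Fin 3) (Fin 3) (ZMod p) := G - 1 with hN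
  have hGN : G = N + 1 := by rw [hN]; abel
  have h3 : N ^ 3 = 0 := by
    have e10 : N 1 0 = 0 := by simp [hN, a1]
    have e20 : N 2 0 = 0 := by simp [hN, a2]
    have e21 : N 2 1 = 0 := by simp [hN, a3]
    have e00 : N 0 0 = 0 := by simp [hN, a4]
    have e11 : N 1 1 = 0 := by simp [hN, a5]
    have e22 : N 2 2 = 0 := by simp [hN, a6]
    rw [pow_succ, pow_two]
    ext i j
    fin_cases i <;> fin_cases j <;> simp [Matrix.mul_apply, Fin.sum_univ_three, e10, e20, e21, e00, e11, e22]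
  have hNp : N ^ p = 0 := by
    have h4 : N ^ p = N ^ (p - 3) * N ^ 3 := by
      rw [← pow_add, Nat.sub_add_cancel hp3]
    rw [h4, h3, mul_zero]
  haveI : CharP (Matrix (Fin 3) (Fin 3) (ZMod p)) p := inferInstance
  rw [hGN]
  have := add_pow_char_of_commute (R := Matrix (Fin 3) (Fin 3) (ZMod p)) p (Commute.one_right N)
  rw [this, hNp]
  simp

/-- The elementary matrix `1 + E₀₁`. -/
def ea (p : ℕ) [Fact p.Prime] : Matrix.SpecialLinearGroup (Fin 3) (ZMod p) :=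
  ⟨!![1, 1, 0; 0, 1, 0; 0, 0, 1], by simp [Matrix.det_fin_three]⟩

/-- The elementary matrix `1 + E₁₂`. -/
def ec (p : ℕ) [Fact p.Prime] : Matrix.SpecialLinearGroup (Fin 3) (ZMod p) :=
  ⟨!![1, 0, 0; 0, 1, 1; 0, 0, 1], by simp [Matrix.det_fin_three]⟩

theorem not_qd (p : ℕ) [Fact p.Prime] (hp : p ≠ 2) : ¬ PAb p (Cfsg.qd p) := by
  intro h
  have ha : ea p ∈ Cfsg.qd p := Subgroup.subset_closure (show _ ∧ _ ∧ _ by simp [ea])
  have hc : ec p ∈ Cfsg.qd p := Subgroup.subset_closure (show _ ∧ _ ∧ _ by simp [ec])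
  have ha2 : ea p ∈ uni p := by
    refine ⟨?_, ?_, ?_, ?_, ?_, ?_⟩ <;> simp [ea]
  have hc2 : ec p ∈ uni p := by
    refine ⟨?_, ?_, ?_, ?_, ?_, ?_⟩ <;> simp [ec]
  have hS : IsPGroup p ((uni p).subgroupOf (Cfsg.qd p)) := by
    intro g
    refine ⟨1, ?_⟩
    apply Subtype.ext
    apply Subtype.ext
    simp only [pow_one]
    exact uni_pow p hp g.1.1 g.2
  have h1 := h _ hS ⟨ea p, ha⟩ (by simpa [Subgroup.mem_subgroupOf] using ha2) ⟨ec p, hc⟩ (by simpa [Subgroup.mem_subgroupOf] using hc2)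
  have h2 : ea p * ec p = ec p * ea p := congrArg Subtype.val h1
  have h3 := congrFun (congrFun (congrArg (fun x : Matrix.SpecialLinearGroup (Fin 3) (ZMod p) => (x : Matrix (Fin 3) (Fin 3) (ZMod p))) h2) 0) 2
  simp only [Matrix.SpecialLinearGroup.coe_mul] at h3
  simp [ea, ec, Matrix.mul_apply, Fin.sum_univ_three] at h3

theorem main {p : ℕ} [Fact p.Prime] (hp : p ≠ 2) {K : Type*} [Field K] [Fintype K] [CharP K p] :
    ¬ Cfsg.Involves ↥(Cfsg.qd p) (Matrix.ProjectiveSpecialLinearGroup (Fin 2) K) := by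
  rintro ⟨K', R, hR, ⟨e⟩⟩
  apply not_qd p hp
  have h1 : PAb p (Matrix.ProjectiveSpecialLinearGroup (Fin 2) K) := by
    refine PAb.surj (sl2 (K := K) p) (QuotientGroup.mk' _) (QuotientGroup.mk'_surjective _)
  have h2 : PAb p K' := h1.subgroup K'
  have h3 : PAb p (K' ⧸ R.subgroupOf K') := PAb.surj h2 (QuotientGroup.mk' _) (QuotientGroup.mk'_surjective _)
  exact PAb.surj h3 e.toMonoidHom e.surjective

end CfsgLib.H9.QdSection
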