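import Mathlib

/-! The centraliser of a transvection in `SL(5, 2)`. -/

set_option autoImplicit false
set_option linter.unusedVariables false
set_option linter.unusedSectionVars false
set_option linter.unusedSimpArgs false
set_option linter.style.haveILetI false

namespace CfsgLib.H9.SL5Tr

open Matrix
open scoped MatrixGroups

local notation "F2" => ZMod 2

abbrev M5 := Matrix (Fin 5) (Fin 5) (ZMod 2)

/-- The pattern of a matrix in the centraliser. -/
structure Pat (M : M5) : Prop where
  c0 : ∀ i : Fin 5, i ≠ 0 → M i 0 = 0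
  r1 : ∀ j : Fin 5, j ≠ 1 → M 1 j = 0
  d0 : M 0 0 = 1
  d1 : M 1 1 = 1

theorem pat_det (M : M5) (h : Pat M) :
    M.det = (Matrix.of fun (i j : Fin 3) => M i.succ.succ j.succ.succ).det := by
  rw [Matrix.det_succ_column_zero, Fin.sum_univ_succ]
  have h1 : ∀ i : Fin 4, M i.succ 0 = 0 := fun i => h.c0 _ (Fin.succ_ne_zero i)
  simp only [h1, mul_zero, zero_mul, Finset.sum_const_zero, add_zero, h.d0, Fin.val_zero, pow_zero, one_mul, mul_one]
  rw [Matrix.det_succ_row_zero, Fin.sum_univ_succ]
  have h2 : ∀ j : Fin 3, M 1 j.succ.succ = 0 := fun j => h.r1 _ (by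
    intro h'
    have := congrArg Fin.val h'
    simp at this)
  have h3 : ∀ j : Fin 3, (M.submatrix (Fin.succAbove 0) Fin.succ) 0 j.succ = 0 := fun j => by
    simpa using h2 j
  simp only [h3, mul_zero, zero_mul, Finset.sum_const_zero, add_zero, Fin.val_zero, pow_zero, one_mul]
  have h4 : (M.submatrix (Fin.succAbove 0) Fin.succ) 0 0 = 1 := by
    simpa using h.d1
  rw [h4, one_mul]
  congr 1

theorem comm_iff (M : M5) :
    M * transvection 0 1 1 = transvection 0 1 1 * M ↔
      (∀ i : Fin 5, i ≠ 0 → M i 0 = 0) ∧ (∀ j : Fin 5, j ≠ 1 → M 1 j = 0) ∧ M 0 0 = M 1 1 := by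
  have h : M * transvection 0 1 1 = transvection 0 1 1 * M ↔
      M * Matrix.single 0 1 (1 : F2) = Matrix.single 0 1 (1 : F2) * M := by
    rw [transvection, mul_add, add_mul, mul_one, one_mul, add_right_inj]
  rw [h]
  constructor
  · intro h
    refine ⟨?_, ?_, ?_⟩
    · intro i hi
      have := congrFun (congrFun h i) 1
      rw [Matrix.mul_single_apply_same, Matrix.single_mul_apply_of_ne _ 0 1 i _ hi, mul_one] at this
      exact this
    · intro j hj
      have := congrFun (congrFun h 0) j
      rw [Matrix.mul_single_apply_of_ne _ _ _ _ _ hj, Matrix.single_mul_apply_same, one_mul] at this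
      exact this.symm
    · have := congrFun (congrFun h 0) 1
      rw [Matrix.mul_single_apply_same, Matrix.single_mul_apply_same, one_mul, mul_one] at this
      exact this
  · rintro ⟨h1, h2, h3⟩
    ext i j
    by_cases hj : j = 1
    · subst hj
      rw [Matrix.mul_single_apply_same, mul_one]
      by_cases hi : i = 0
      · subst hi
        rw [Matrix.single_mul_apply_same, one_mul, h3]
      · rw [Matrix.single_mul_apply_of_ne _ 0 1 i _ hi, h1 i hi]
    · rw [Matrix.mul_single_apply_of_ne _ _ _ _ _ hj]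
      by_cases hi : i = 0
      · subst hi
        rw [Matrix.single_mul_apply_same, one_mul, h2 j hj]
      · rw [Matrix.single_mul_apply_of_ne _ 0 1 i _ hi]

/-- The matrix with given data. -/
def mkM (a : Fin 4 → F2) (c : Fin 3 → F2) (B : Matrix (Fin 3) (Fin 3) F2) : M5 := fun i j =>
  Fin.cases (Fin.cases 1 a j)
    (fun i' => Fin.cases (if j = 1 then 1 else 0)
      (fun i'' => Fin.cases 0 (fun j' => Fin.cases (c i'') (fun j'' => B i'' j'') j') j) i') i

theorem mkM_pat (a : Fin 4 → F2) (c : Fin 3 → F2) (B : Matrix (Fin 3) (Fin 3) F2) : Pat (mkM a c B) := by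
  refine ⟨?_, ?_, rfl, rfl⟩
  · intro i hi
    refine Fin.cases ?_ (fun i' => ?_) i hi
    · intro h; exact absurd rfl h
    · intro _
      refine Fin.cases ?_ (fun i'' => ?_) i'
      · rfl
      · rfl
  · intro j hj
    change (if j = 1 then (1 : F2) else 0) = 0
    rw [if_neg hj]

theorem pat_ext {M N : M5} (hM : Pat M) (hN : Pat N)
    (ha : ∀ k : Fin 4, M 0 k.succ = N 0 k.succ) (hc : ∀ k : Fin 3, M k.succ.succ 1 = N k.succ.succ 1)
    (hB : ∀ k l : Fin 3, M k.succ.succ l.succ.succ = N k.succ.succ l.succ.succ) : M = N := by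
  ext i j
  refine Fin.cases ?_ (fun i' => ?_) i
  · refine Fin.cases ?_ (fun j' => ?_) j
    · rw [hM.d0, hN.d0]
    · exact ha j'
  · refine Fin.cases ?_ (fun i'' => ?_) i'
    · change M 1 j = N 1 j
      by_cases hj : j = 1
      · rw [hj, hM.d1, hN.d1]
      · rw [hM.r1 j hj, hN.r1 j hj]
    · refine Fin.cases ?_ (fun j' => ?_) j
      · rw [hM.c0 _ (Fin.succ_ne_zero _), hN.c0 _ (Fin.succ_ne_zero _)]
      · refine Fin.cases ?_ (fun j'' => ?_) j'
        · exact hc i''
        · exact hB i'' j''

theorem main (s : SpecialLinearGroup (Fin 5) F2) (hs : (s : M5) = transvection 0 1 1) :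
    Nat.card (Subgroup.centralizer ({s} : Set (SpecialLinearGroup (Fin 5) F2))) = 21504 := by
  classical
  have hmem : ∀ g : SpecialLinearGroup (Fin 5) F2, g ∈ Subgroup.centralizer ({s} : Set (SpecialLinearGroup (Fin 5) F2)) ↔
      Pat (g : M5) := by
    intro g
    rw [Subgroup.mem_centralizer_singleton_iff]
    have h1 : g * s = s * g ↔ (g : M5) * transvection 0 1 1 = transvection 0 1 1 * (g : M5) := by
      rw [← hs]
      constructor
      · intro h
        have := congrArg (fun x : SpecialLinearGroup (Fin 5) F2 => (x : M5)) h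
        simpa using this
      · intro h
        apply Subtype.ext
        simpa using h
    rw [h1, comm_iff]
    constructor
    · rintro ⟨h2, h3, h4⟩
      have h5 : (g : M5) 0 0 = 1 := by
        have h6 : (g : M5) 0 0 ≠ 0 := by
          intro h7
          have h8 : (g : M5).det = 0 := by
            apply Matrix.det_eq_zero_of_column_eq_zero 0
            intro i
            by_cases hi : i = 0
            · rw [hi, h7]
            · exact h2 i hi
          rw [g.2] at h8
          exact one_ne_zero h8
        have : ∀ a : F2, a ≠ 0 → a = 1 := by decide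
        exact this _ h6
      exact ⟨h2, h3, h5, h4 ▸ h5⟩
    · intro h
      exact ⟨h.c0, h.r1, h.d0.trans h.d1.symm⟩
  let Φ : Subgroup.centralizer ({s} : Set (SpecialLinearGroup (Fin 5) F2)) →
      (Fin 4 → F2) × (Fin 3 → F2) × GL (Fin 3) F2 := fun g =>
    ((fun k => (g.1 : M5) 0 k.succ), (fun k => (g.1 : M5) k.succ.succ 1),
      Matrix.GeneralLinearGroup.mkOfDetNeZero (Matrix.of fun (i j : Fin 3) => (g.1 : M5) i.succ.succ j.succ.succ) (by
        rw [← pat_det _ ((hmem g.1).1 g.2), g.1.2]
        exact one_ne_zero))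
  have hΦ : Function.Bijective Φ := by
    constructor
    · intro g h hgh
      apply Subtype.ext
      apply Subtype.ext
      have h1 := congrArg Prod.fst hgh
      have h2 := congrArg (fun x => x.2.1) hgh
      have h3 := congrArg (fun x => ((x.2.2 : GL (Fin 3) F2) : Matrix (Fin 3) (Fin 3) F2)) hgh
      exact pat_ext ((hmem g.1).1 g.2) ((hmem h.1).1 h.2) (fun k => congrFun h1 k) (fun k => congrFun h2 k)
        (fun k l => congrFun (congrFun h3 k) l)
    · rintro ⟨a, c, B⟩
      have hP := mkM_pat a c (B : Matrix (Fin 3) (Fin 3) F2)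
      have hdet : (mkM a c (B : Matrix (Fin 3) (Fin 3) F2)).det = 1 := by
        rw [pat_det _ hP]
        have h1 : (Matrix.of fun (i j : Fin 3) => mkM a c (B : Matrix (Fin 3) (Fin 3) F2) i.succ.succ j.succ.succ)
            = (B : Matrix (Fin 3) (Fin 3) F2) := by
          ext i j
          rfl
        rw [h1]
        have h2 : (B : Matrix (Fin 3) (Fin 3) F2).det ≠ 0 := by
          have := Matrix.GeneralLinearGroup.det B
          exact (Matrix.isUnit_iff_isUnit_det _).1 B.isUnit |>.ne_zero
        have : ∀ a : F2, a ≠ 0 → a = 1 := by decide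
        exact this _ h2
      let g : SpecialLinearGroup (Fin 5) F2 := ⟨mkM a c (B : Matrix (Fin 3) (Fin 3) F2), hdet⟩
      refine ⟨⟨g, (hmem g).2 hP⟩, ?_⟩
      refine Prod.ext rfl (Prod.ext rfl ?_)
      apply Units.ext
      ext i j
      rfl
  rw [Nat.card_congr (Equiv.ofBijective Φ hΦ), Nat.card_prod, Nat.card_prod, Matrix.card_GL_field]
  simp [Fin.prod_univ_three, ZMod.card]

end CfsgLib.H9.SL5Tr
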