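import Mathlib
import Cfsg.Agent.Lib.H3.CharP

/-! `F*` of the centraliser of a transvection in `SL(n, 2)`. -/

set_option autoImplicit false
set_option linter.unusedVariables false
set_option linter.unusedSectionVars false
set_option linter.unusedSimpArgs false
set_option linter.style.haveILetI false

namespace CfsgLib.H9.SLTrCent

open Matrix Subgroup
open scoped MatrixGroups

variable {F : Type*} [Field F] [Fintype F] [DecidableEq F] {n : ℕ}

theorem comm_iff {i j : Fin n} (M : Matrix (Fin n) (Fin n) F) :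
    M * transvection i j 1 = transvection i j 1 * M ↔
      (∀ k : Fin n, k ≠ i → M k i = 0) ∧ (∀ l : Fin n, l ≠ j → M j l = 0) ∧ M i i = M j j := by
  have h : M * transvection i j 1 = transvection i j 1 * M ↔
      M * Matrix.single i j (1 : F) = Matrix.single i j (1 : F) * M := by
    rw [transvection, mul_add, add_mul, mul_one, one_mul, add_right_inj]
  rw [h]
  constructor
  · intro h
    refine ⟨?_, ?_, ?_⟩
    · intro k hk
      have := congrFun (congrFun h k) j
      rw [Matrix.mul_single_apply_same, Matrix.single_mul_apply_of_ne _ i j k _ hk, mul_one] at this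
      exact this
    · intro l hl
      have := congrFun (congrFun h i) l
      rw [Matrix.mul_single_apply_of_ne _ _ _ _ _ hl, Matrix.single_mul_apply_same, one_mul] at this
      exact this.symm
    · have := congrFun (congrFun h i) j
      rw [Matrix.mul_single_apply_same, Matrix.single_mul_apply_same, one_mul, mul_one] at this
      exact this
  · rintro ⟨h1, h2, h3⟩
    ext a b
    by_cases hb : b = j
    · subst hb
      rw [Matrix.mul_single_apply_same, mul_one]
      by_cases ha : a = i
      · subst ha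
        rw [Matrix.single_mul_apply_same, one_mul, h3]
      · rw [Matrix.single_mul_apply_of_ne _ i _ a _ ha, h1 a ha]
    · rw [Matrix.mul_single_apply_of_ne _ _ _ _ _ hb]
      by_cases ha : a = i
      · subst ha
        rw [Matrix.single_mul_apply_same, one_mul, h2 b hb]
      · rw [Matrix.single_mul_apply_of_ne _ i _ a _ ha]

/-- The middle index set. -/
abbrev W (i j : Fin n) := {k : Fin n // k ≠ i ∧ k ≠ j}

section

variable (hF : Fintype.card F = 2)
include hF

theorem two_vals (x : F) : x = 0 ∨ x = 1 := by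
  classical
  by_contra hcon
  push Not at hcon
  have h : ({0, 1, x} : Finset F).card = 3 := by
    rw [Finset.card_eq_three]
    exact ⟨0, 1, x, zero_ne_one, hcon.1.symm, hcon.2.symm, rfl⟩
  have h2 := Finset.card_le_univ ({0, 1, x} : Finset F)
  omega

theorem charTwo : CharP F 2 := by
  apply CharTwo.of_one_ne_zero_of_two_eq_zero one_ne_zero
  rcases two_vals hF (2 : F) with h | h
  · exact h
  · exfalso
    have : (1 : F) + 1 = 1 := by rw [one_add_one_eq_two, h]
    simp at this

end

/-- Elements of the centraliser. -/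
theorem cent_pat {i j : Fin n} (hF : Fintype.card F = 2) (t : SpecialLinearGroup (Fin n) F)
    (ht : (t : Matrix (Fin n) (Fin n) F) = transvection i j 1) (g : SpecialLinearGroup (Fin n) F)
    (hg : g ∈ centralizer ({t} : Set (SpecialLinearGroup (Fin n) F))) :
    (∀ k : Fin n, k ≠ i → (g : Matrix (Fin n) (Fin n) F) k i = 0) ∧
    (∀ l : Fin n, l ≠ j → (g : Matrix (Fin n) (Fin n) F) j l = 0) ∧
    (g : Matrix (Fin n) (Fin n) F) i i = 1 ∧ (g : Matrix (Fin n) (Fin n) F) j j = 1 := by
  rw [Subgroup.mem_centralizer_singleton_iff] at hg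
  have h1 : (g : Matrix (Fin n) (Fin n) F) * transvection i j 1 = transvection i j 1 * (g : Matrix (Fin n) (Fin n) F) := by
    rw [← ht]
    have := congrArg (fun x : SpecialLinearGroup (Fin n) F => (x : Matrix (Fin n) (Fin n) F)) hg
    simpa using this
  obtain ⟨h2, h3, h4⟩ := (comm_iff _).1 h1
  have h5 : (g : Matrix (Fin n) (Fin n) F) i i = 1 := by
    rcases two_vals hF ((g : Matrix (Fin n) (Fin n) F) i i) with h6 | h6
    · exfalso
      have h8 : (g : Matrix (Fin n) (Fin n) F).det = 0 := by
        apply Matrix.det_eq_zero_of_column_eq_zero i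
        intro k
        by_cases hk : k = i
        · rw [hk, h6]
        · exact h2 k hk
      rw [g.2] at h8
      exact one_ne_zero h8
    · exact h6
  exact ⟨h2, h3, h5, h4 ▸ h5⟩

/-- The middle block as a monoid homomorphism on the centraliser. -/
noncomputable def psi {i j : Fin n} (hF : Fintype.card F = 2) (t : SpecialLinearGroup (Fin n) F)
    (ht : (t : Matrix (Fin n) (Fin n) F) = transvection i j 1) :
    centralizer ({t} : Set (SpecialLinearGroup (Fin n) F)) →* Matrix (W i j) (W i j) F where
  toFun g := fun a b => (g.1 : Matrix (Fin n) (Fin n) F) a.1 b.1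
  map_one' := by
    ext a b
    change ((1 : SpecialLinearGroup (Fin n) F) : Matrix (Fin n) (Fin n) F) a.1 b.1 = (1 : Matrix (W i j) (W i j) F) a b
    have h0 : ((1 : SpecialLinearGroup (Fin n) F) : Matrix (Fin n) (Fin n) F) = 1 := rfl
    rw [h0, Matrix.one_apply, Matrix.one_apply]
    simp [Subtype.ext_iff]
  map_mul' g h := by
    ext a b
    change ((g.1 * h.1 : SpecialLinearGroup (Fin n) F) : Matrix (Fin n) (Fin n) F) a.1 b.1 = _
    have h0 : ((g.1 * h.1 : SpecialLinearGroup (Fin n) F) : Matrix (Fin n) (Fin n) F) =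
        (g.1 : Matrix (Fin n) (Fin n) F) * (h.1 : Matrix (Fin n) (Fin n) F) := rfl
    rw [h0, Matrix.mul_apply]
    change _ = ∑ m : W i j, (g.1 : Matrix (Fin n) (Fin n) F) a.1 m.1 * (h.1 : Matrix (Fin n) (Fin n) F) m.1 b.1
    obtain ⟨g1, g2, -, -⟩ := cent_pat hF t ht g.1 g.2
    obtain ⟨h1, h2, -, -⟩ := cent_pat hF t ht h.1 h.2
    classical
    rw [← Finset.sum_filter_of_ne (s := Finset.univ) (p := fun m : Fin n => m ≠ i ∧ m ≠ j)]
    · rw [Finset.sum_subtype (Finset.univ.filter fun m : Fin n => m ≠ i ∧ m ≠ j) (p := fun m : Fin n => m ≠ i ∧ m ≠ j)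
        (by intro x; simp)]
    · intro m _ hm
      constructor
      · rintro rfl
        apply hm
        rw [g1 _ a.2.1, zero_mul]
      · rintro rfl
        apply hm
        rw [h2 _ b.2.2, mul_zero]

theorem psi_apply {i j : Fin n} (hF : Fintype.card F = 2) (t : SpecialLinearGroup (Fin n) F)
    (ht : (t : Matrix (Fin n) (Fin n) F) = transvection i j 1) (g : centralizer ({t} : Set (SpecialLinearGroup (Fin n) F))) (a b : W i j) :
    psi hF t ht g a b = (g.1 : Matrix (Fin n) (Fin n) F) a.1 b.1 := rfl

/-- The normal 2-subgroup. -/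
noncomputable def Q {i j : Fin n} (hF : Fintype.card F = 2) (t : SpecialLinearGroup (Fin n) F)
    (ht : (t : Matrix (Fin n) (Fin n) F) = transvection i j 1) : Subgroup (centralizer ({t} : Set (SpecialLinearGroup (Fin n) F))) :=
  (psi hF t ht).toHomUnits.ker

theorem mem_Q {i j : Fin n} (hF : Fintype.card F = 2) (t : SpecialLinearGroup (Fin n) F)
    (ht : (t : Matrix (Fin n) (Fin n) F) = transvection i j 1) (g : centralizer ({t} : Set (SpecialLinearGroup (Fin n) F))) :
    g ∈ Q hF t ht ↔ ∀ a b : W i j, (g.1 : Matrix (Fin n) (Fin n) F) a.1 b.1 = if a = b then 1 else 0 := by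
  rw [Q, MonoidHom.mem_ker]
  constructor
  · intro h a b
    have h1 := congrArg Units.val h
    rw [MonoidHom.coe_toHomUnits] at h1
    have h2 := congrFun (congrFun h1 a) b
    rw [psi_apply hF t ht] at h2
    rw [h2]
    simp [Matrix.one_apply]
  · intro h
    apply Units.ext
    rw [MonoidHom.coe_toHomUnits]
    ext a b
    rw [psi_apply hF t ht, h a b]
    simp [Matrix.one_apply]

theorem Q_isPGroup {i j : Fin n} (hF : Fintype.card F = 2) (t : SpecialLinearGroup (Fin n) F)
    (ht : (t : Matrix (Fin n) (Fin n) F) = transvection i j 1) : IsPGroup 2 (Q hF t ht) := by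
  classical
  haveI : Fact (Nat.Prime 2) := ⟨Nat.prime_two⟩
  haveI := charTwo hF
  haveI : Nonempty (Fin n) := ⟨i⟩
  rintro ⟨g, hg⟩
  refine ⟨2, ?_⟩
  apply Subtype.ext
  apply Subtype.ext
  apply Subtype.ext
  obtain ⟨g1, g2, g3, g4⟩ := cent_pat hF t ht g.1 g.2
  have hgQ := (mem_Q hF t ht g).1 hg
  -- the nilpotent part
  set N : Matrix (Fin n) (Fin n) F := (g.1 : Matrix (Fin n) (Fin n) F) - 1 with hN
  have hN0 : ∀ k l : Fin n, N k l ≠ 0 → (k = i ∨ l = j) ∧ l ≠ i ∧ k ≠ j := by
    intro k l hkl
    refine ⟨?_, ?_, ?_⟩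
    · by_contra hcon
      push Not at hcon
      apply hkl
      by_cases hki : k = j
      · subst hki
        by_cases hl : l = k
        · exact absurd hl hcon.2
        · rw [hN, Matrix.sub_apply, g2 l hl, Matrix.one_apply_ne (Ne.symm hl), sub_zero]
      · by_cases hli : l = i
        · subst hli
          rw [hN, Matrix.sub_apply, g1 k hcon.1, Matrix.one_apply_ne hcon.1, sub_zero]
        · have := hgQ ⟨k, hcon.1, hki⟩ ⟨l, hli, hcon.2⟩
          rw [hN, Matrix.sub_apply, this, Matrix.one_apply]
          simp [Subtype.ext_iff]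
    · rintro rfl
      apply hkl
      rw [hN, Matrix.sub_apply]
      by_cases hk : k = l
      · subst hk
        rw [g3, Matrix.one_apply_eq, sub_self]
      · rw [g1 k hk, Matrix.one_apply_ne hk, sub_zero]
    · rintro rfl
      apply hkl
      rw [hN, Matrix.sub_apply]
      by_cases hk : l = k
      · subst hk
        rw [g4, Matrix.one_apply_eq, sub_self]
      · rw [g2 l hk, Matrix.one_apply_ne (Ne.symm hk), sub_zero]
  have hN2 : ∀ k l : Fin n, (N * N) k l ≠ 0 → k = i ∧ l = j := by
    intro k l h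
    rw [Matrix.mul_apply] at h
    obtain ⟨m, -, hm⟩ := Finset.exists_ne_zero_of_sum_ne_zero h
    have h1 := hN0 k m (left_ne_zero_of_mul hm)
    have h2 := hN0 m l (right_ne_zero_of_mul hm)
    constructor
    · rcases h1.1 with h3 | h3
      · exact h3
      · exact absurd h3 h2.2.2
    · rcases h2.1 with h3 | h3
      · exact absurd h3 h1.2.1
      · exact h3
  have hN3 : N * N * N = 0 := by
    ext k l
    rw [Matrix.mul_apply, Matrix.zero_apply]
    apply Finset.sum_eq_zero
    intro m _
    by_contra hm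
    have h1 := hN2 k m (left_ne_zero_of_mul hm)
    have h2 := hN0 m l (right_ne_zero_of_mul hm)
    exact h2.2.2 h1.2
  have hN4 : N ^ (2 ^ 2) = 0 := by
    have : N ^ (2 ^ 2) = (N * N * N) * N := by
      simp [pow_succ, mul_assoc]
    rw [this, hN3, zero_mul]
  have hg_eq : (g.1 : Matrix (Fin n) (Fin n) F) = 1 + N := by rw [hN]; abel
  have h4 : (g.1 : Matrix (Fin n) (Fin n) F) ^ (2 ^ 2) = 1 := by
    rw [hg_eq, add_pow_char_pow_of_commute 2 2 (Commute.one_left N), hN4, one_pow, add_zero]
  simpa using h4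

theorem main {i j : Fin n} (hF : Fintype.card F = 2) (t : SpecialLinearGroup (Fin n) F)
    (ht : (t : Matrix (Fin n) (Fin n) F) = transvection i j 1) (hij : i ≠ j) :
    Cfsg.generalizedFittingSubgroup ↥(centralizer ({t} : Set (SpecialLinearGroup (Fin n) F))) =
      Cfsg.pCore 2 ↥(centralizer ({t} : Set (SpecialLinearGroup (Fin n) F))) := by
  classical
  haveI : Fact (Nat.Prime 2) := ⟨Nat.prime_two⟩
  rw [CfsgLib.CharP.gfit_iff]
  have hQn : (Q hF t ht).Normal := MonoidHom.normal_ker _
  have hQ : Q hF t ht ≤ Cfsg.pCore 2 _ := CfsgLib.Solv.le_pCore' _ (Q_isPGroup hF t ht)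
  intro g hg
  apply hQ
  rw [mem_Q]
  obtain ⟨g1, g2, g3, g4⟩ := cent_pat hF t ht g.1 g.2
  -- the row relations
  have hrow : ∀ a : W i j, ∀ b : Fin n, b ≠ a.1 → (g.1 : Matrix (Fin n) (Fin n) F) a.1 b = 0 ∧
      (g.1 : Matrix (Fin n) (Fin n) F) a.1 a.1 = 1 := by
    intro a b hb
    have hia : i ≠ a.1 := a.2.1.symm
    let τ : SpecialLinearGroup (Fin n) F := ⟨transvection i a.1 1, Matrix.det_transvection_of_ne _ _ hia 1⟩
    have hτ : (τ : Matrix (Fin n) (Fin n) F) = transvection i a.1 1 := rfl
    have hτC : τ ∈ centralizer ({t} : Set (SpecialLinearGroup (Fin n) F)) := by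
      rw [Subgroup.mem_centralizer_singleton_iff]
      apply Subtype.ext
      change (τ : Matrix (Fin n) (Fin n) F) * (t : Matrix (Fin n) (Fin n) F) =
        (t : Matrix (Fin n) (Fin n) F) * (τ : Matrix (Fin n) (Fin n) F)
      rw [ht, (comm_iff _).2]
      rw [hτ]
      refine ⟨?_, ?_, ?_⟩
      · intro k hk
        simp [transvection, Matrix.one_apply, Matrix.single_apply, hk, hia.symm]
      · intro l hl
        simp [transvection, Matrix.one_apply, Matrix.single_apply, hl, hij.symm, hl.symm, Ne.symm hl]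
        intro h
        exact absurd h hij
      · simp [transvection, Matrix.one_apply, Matrix.single_apply, hia.symm, hij.symm, hia, hij]
    have hτQ : (⟨τ, hτC⟩ : centralizer ({t} : Set (SpecialLinearGroup (Fin n) F))) ∈ Q hF t ht := by
      rw [mem_Q]
      intro x y
      change (transvection i a.1 (1 : F)) x.1 y.1 = _
      simp [transvection, Matrix.one_apply, Matrix.single_apply, x.2.1.symm, x.2.1, Subtype.ext_iff]
    have h5 := hg _ (hQ hτQ)
    have h6 : (g.1 : Matrix (Fin n) (Fin n) F) * transvection i a.1 1 =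
        transvection i a.1 1 * (g.1 : Matrix (Fin n) (Fin n) F) := by
      have h7 := congrArg (fun x : centralizer ({t} : Set (SpecialLinearGroup (Fin n) F)) =>
        ((x.1 : SpecialLinearGroup (Fin n) F) : Matrix (Fin n) (Fin n) F)) h5
      exact h7.symm
    obtain ⟨h8, h9, h10⟩ := (comm_iff _).1 h6
    exact ⟨h9 b hb, h10 ▸ g3⟩
  intro a b
  by_cases hab : a = b
  · subst hab
    rw [if_pos rfl]
    by_cases hex : ∃ b : Fin n, b ≠ a.1
    · obtain ⟨c, hc⟩ := hex
      exact (hrow a c hc).2
    · exfalso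
      exact hex ⟨i, a.2.1.symm⟩
  · rw [if_neg hab]
    exact (hrow a b.1 (fun h => hab (Subtype.ext h.symm))).1

end CfsgLib.H9.SLTrCent
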