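import Mathlib
import Cfsg.Prelude.Def_Local

/-! The alternating group on the complement of four points is standard in the alternating group. -/

set_option autoImplicit false
set_option linter.unusedVariables false
set_option linter.unusedSectionVars false
set_option linter.style.haveILetI false

namespace CfsgLib.H9.StdAlt

open Equiv Equiv.Perm Cfsg

variable {n : ℕ}

/-- A three-cycle. -/
def cyc (a b c : Fin n) : Perm (Fin n) := swap a b * swap b c

theorem cyc_mem {a b c : Fin n} (hab : a ≠ b) (hbc : b ≠ c) : cyc a b c ∈ alternatingGroup (Fin n) := by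
  rw [Equiv.Perm.mem_alternatingGroup, cyc, map_mul, sign_swap hab, sign_swap hbc]
  rfl

theorem cyc_a {a b c : Fin n} (hab : a ≠ b) (hac : a ≠ c) : cyc a b c a = b := by
  simp [cyc, swap_apply_of_ne_of_ne hab hac]

theorem cyc_other {a b c x : Fin n} (hxa : x ≠ a) (hxb : x ≠ b) (hxc : x ≠ c) : cyc a b c x = x := by
  simp [cyc, swap_apply_of_ne_of_ne hxb hxc, swap_apply_of_ne_of_ne hxa hxb]

/-- The element of the alternating group. -/
def cycA (a b c : Fin n) (hab : a ≠ b) (hbc : b ≠ c) : alternatingGroup (Fin n) := ⟨cyc a b c, cyc_mem hab hbc⟩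

theorem pick (h9 : 9 ≤ n) (B : Finset (Fin n)) (hB : B.card ≤ 4) : ∃ x : Fin n, 4 ≤ x.val ∧ x ∉ B := by
  by_contra hcon
  push Not at hcon
  let e : Fin 5 → Fin n := fun i => ⟨4 + i.val, by omega⟩
  have hinj : Function.Injective e := by
    intro i j hij
    have := congrArg Fin.val hij
    simp only [e] at this
    exact Fin.ext (by omega)
  have h1 : (Finset.univ : Finset (Fin 5)).card ≤ B.card :=
    Finset.card_le_card_of_injOn e (fun i _ => hcon (e i) (by simp [e])) hinj.injOn
  simp at h1
  omega

/-- The subgroup fixing the first four points. -/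
def LL (h4 : 4 ≤ n) : Subgroup (alternatingGroup (Fin n)) :=
  ⨅ i : Fin 4, MulAction.stabilizer ↥(alternatingGroup (Fin n)) (Fin.castLE h4 i : Fin n)

theorem mem_LL (h4 : 4 ≤ n) (g : alternatingGroup (Fin n)) :
    g ∈ LL h4 ↔ ∀ x : Fin n, x.val < 4 → g.1 x = x := by
  simp only [LL, Subgroup.mem_iInf, MulAction.mem_stabilizer_iff]
  constructor
  · intro h x hx
    exact h ⟨x.val, hx⟩
  · intro h i
    exact h _ (by simp)

/-- The centralizer is the set of elements fixing the other points. -/
theorem mem_C (h4 : 4 ≤ n) (h9 : 9 ≤ n) (c : alternatingGroup (Fin n)) :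
    c ∈ Subgroup.centralizer ((LL h4 : Subgroup _) : Set (alternatingGroup (Fin n))) ↔
      ∀ x : Fin n, 4 ≤ x.val → c.1 x = x := by
  rw [Subgroup.mem_centralizer_iff]
  constructor
  · intro h x hx
    by_contra hne
    set y := c.1 x with hy
    obtain ⟨a, ha, ha'⟩ := pick h9 {x, y} (by
      have := Finset.card_le_two (a := x) (b := y)
      omega)
    simp only [Finset.mem_insert, Finset.mem_singleton, not_or] at ha'
    obtain ⟨b, hb, hb'⟩ := pick h9 {x, y, a} (by
      have := Finset.card_le_three (a := x) (b := y) (c := a)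
      omega)
    simp only [Finset.mem_insert, Finset.mem_singleton, not_or] at hb'
    have hxa : x ≠ a := Ne.symm ha'.1
    have hab : a ≠ b := Ne.symm hb'.2.2
    have hxb : x ≠ b := Ne.symm hb'.1
    have hl : cycA x a b hxa hab ∈ LL h4 := by
      rw [mem_LL]
      intro z hz
      exact cyc_other (fun h => by subst h; omega) (fun h => by subst h; omega) (fun h => by subst h; omega)
    have hcomm : (cycA x a b hxa hab * c).1 x = (c * cycA x a b hxa hab).1 x := by rw [h _ hl]
    have h1 : (cycA x a b hxa hab * c).1 x = cyc x a b y := rfl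
    have h2 : (c * cycA x a b hxa hab).1 x = c.1 (cyc x a b x) := rfl
    rw [h1, h2, cyc_a hxa hxb,
      cyc_other hne (Ne.symm ha'.2) (Ne.symm hb'.2.1)] at hcomm
    have h3 : c.1 a = c.1 x := hcomm.symm
    exact ha'.1 (c.1.injective h3)
  · intro h l hl
    apply Subtype.ext
    have hd : Disjoint l.1 c.1 := by
      intro x
      rcases Nat.lt_or_ge x.val 4 with hx | hx
      · exact Or.inl ((mem_LL h4 l).1 hl x hx)
      · exact Or.inr (h x hx)
    exact hd.commute

/-- General normalizer criterion. -/
theorem mem_norm (F : Subgroup (alternatingGroup (Fin n))) (P : Fin n → Prop)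
    (hF : ∀ g, g ∈ F ↔ ∀ x, P x → g.1 x = x)
    (hmove : ∀ x, ¬ P x → ∃ f ∈ F, f.1 x ≠ x) (g : alternatingGroup (Fin n)) :
    g ∈ Subgroup.normalizer (F : Set (alternatingGroup (Fin n))) ↔ ∀ x, P x ↔ P (g.1 x) := by
  constructor
  · intro hg
    have key : ∀ k ∈ Subgroup.normalizer (F : Set (alternatingGroup (Fin n))), ∀ x, ¬ P x → ¬ P (k.1 x) := by
      intro k hk x hx hPk
      obtain ⟨f, hf, hfx⟩ := hmove x hx
      have h1 : k * f * k⁻¹ ∈ F := (Subgroup.mem_normalizer_iff.1 hk f).1 hf
      have h2 := (hF _).1 h1 (k.1 x) hPk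
      have h3 : (k * f * k⁻¹).1 (k.1 x) = k.1 (f.1 x) := by
        show k.1 (f.1 (k.1⁻¹ (k.1 x))) = _
        simp
      rw [h3] at h2
      exact hfx (k.1.injective h2)
    intro x
    constructor
    · intro hx
      by_contra hn
      have h1 := key g⁻¹ (Subgroup.inv_mem _ hg) (g.1 x) hn
      have h2 : (g⁻¹).1 (g.1 x) = x := by
        show (g.1)⁻¹ (g.1 x) = x
        simp
      rw [h2] at h1
      exact h1 hx
    · intro hx
      by_contra hn
      exact key g hg x hn hx
  · intro h
    rw [Subgroup.mem_normalizer_iff]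
    intro f
    rw [hF, hF]
    have h5 : ∀ x, g.1 ((g.1)⁻¹ x) = x := fun x => by simp
    constructor
    · intro hf x hx
      have h1 : P ((g.1)⁻¹ x) := by
        rw [h]
        rw [h5]
        exact hx
      show g.1 (f.1 ((g.1)⁻¹ x)) = x
      rw [hf _ h1, h5]
    · intro hf x hx
      have h1 := hf (g.1 x) ((h x).1 hx)
      have h2 : (g * f * g⁻¹).1 (g.1 x) = g.1 (f.1 x) := by
        show g.1 (f.1 ((g.1)⁻¹ (g.1 x))) = _
        simp
      rw [h2] at h1
      exact g.1.injective h1

theorem norm_L (h4 : 4 ≤ n) (h9 : 9 ≤ n) (g : alternatingGroup (Fin n)) :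
    g ∈ Subgroup.normalizer ((LL h4 : Subgroup _) : Set (alternatingGroup (Fin n))) ↔
      ∀ x : Fin n, x.val < 4 ↔ (g.1 x).val < 4 := by
  refine mem_norm (LL h4) (fun x => x.val < 4) (mem_LL h4) ?_ g
  intro x hx
  have hx' : 4 ≤ x.val := by
    simpa using hx
  obtain ⟨a, ha, ha'⟩ := pick h9 {x} (by simp)
  simp only [Finset.mem_singleton] at ha'
  obtain ⟨b, hb, hb'⟩ := pick h9 {x, a} (by
    have := Finset.card_le_two (a := x) (b := a)
    omega)
  simp only [Finset.mem_insert, Finset.mem_singleton, not_or] at hb'
  have hxa : x ≠ a := Ne.symm ha'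
  have hab : a ≠ b := Ne.symm hb'.2
  have hxb : x ≠ b := Ne.symm hb'.1
  refine ⟨cycA x a b hxa hab, ?_, ?_⟩
  · rw [mem_LL]
    intro z hz
    exact cyc_other (fun h => by subst h; omega) (fun h => by subst h; omega) (fun h => by subst h; omega)
  · show cyc x a b x ≠ x
    rw [cyc_a hxa hxb]
    exact ha'

theorem norm_C (h4 : 4 ≤ n) (h9 : 9 ≤ n) (g : alternatingGroup (Fin n)) :
    g ∈ Subgroup.normalizer ((Subgroup.centralizer ((LL h4 : Subgroup _) : Set (alternatingGroup (Fin n))) : Subgroup _) :
        Set (alternatingGroup (Fin n))) ↔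
      ∀ x : Fin n, x.val < 4 ↔ (g.1 x).val < 4 := by
  rw [mem_norm _ (fun x => 4 ≤ x.val) (mem_C h4 h9) ?_ g]
  · constructor
    · intro h x
      have := h x
      omega
    · intro h x
      have := h x
      omega
  · intro x hx
    have hx' : x.val < 4 := by
      simpa using hx
    let a : Fin n := ⟨(x.val + 1) % 4, by omega⟩
    let b : Fin n := ⟨(x.val + 2) % 4, by omega⟩
    have hxa : x ≠ a := fun h => by
      have := congrArg Fin.val h
      simp only [a] at this
      omega
    have hab : a ≠ b := fun h => by
      have := congrArg Fin.val h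
      simp only [a, b] at this
      omega
    have hxb : x ≠ b := fun h => by
      have := congrArg Fin.val h
      simp only [b] at this
      omega
    refine ⟨cycA x a b hxa hab, ?_, ?_⟩
    · rw [mem_C h4 h9]
      intro z hz
      have ha : a.val < 4 := by
        show (x.val + 1) % 4 < 4
        omega
      have hb : b.val < 4 := by
        show (x.val + 2) % 4 < 4
        omega
      exact cyc_other (fun h => by subst h; omega) (fun h => by subst h; omega) (fun h => by subst h; omega)
    · show cyc x a b x ≠ x
      rw [cyc_a hxa hxb]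
      exact Ne.symm hxa

theorem comm_ne (h4 : 4 ≤ n) (h9 : 9 ≤ n) (g : alternatingGroup (Fin n)) :
    ⁅LL h4, (LL h4).map (MulAut.conj g).toMonoidHom⁆ ≠ ⊥ := by
  classical
  let gi : Perm (Fin n) := (g.1)⁻¹
  have hg1 : ∀ x, g.1 (gi x) = x := fun x => by simp [gi]
  have hg2 : ∀ x, gi (g.1 x) = x := fun x => by simp [gi]
  let S₀ : Finset (Fin n) := (Finset.univ.filter (fun x : Fin n => x.val < 4))
  have hS₀ : S₀.card ≤ 4 := by
    have hsub : S₀ ⊆ (Finset.univ : Finset (Fin 4)).map (Fin.castLEEmb h4) := by
      intro x hx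
      have hx' : x.val < 4 := by simpa [S₀] using hx
      simp only [Finset.mem_map, Finset.mem_univ, true_and]
      exact ⟨⟨x.val, hx'⟩, Fin.ext rfl⟩
    have := Finset.card_le_card hsub
    simpa using this
  obtain ⟨y, hy, hy'⟩ := pick h9 (S₀.image gi) (Finset.card_image_le.trans hS₀)
  have hgy : 4 ≤ (g.1 y).val := by
    by_contra hlt
    apply hy'
    rw [Finset.mem_image]
    exact ⟨g.1 y, by simp [S₀]; omega, hg2 y⟩
  set x := g.1 y with hx
  obtain ⟨a, ha, ha'⟩ := pick h9 {x} (by simp)
  simp only [Finset.mem_singleton] at ha'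
  obtain ⟨b, hb, hb'⟩ := pick h9 {x, a} (by
    have := Finset.card_le_two (a := x) (b := a)
    omega)
  simp only [Finset.mem_insert, Finset.mem_singleton, not_or] at hb'
  have hxa : x ≠ a := Ne.symm ha'
  have hab : a ≠ b := Ne.symm hb'.2
  have hxb : x ≠ b := Ne.symm hb'.1
  obtain ⟨e, he, he'⟩ := pick h9 {y, gi a, gi b} (by
    have := Finset.card_le_three (a := y) (b := gi a) (c := gi b)
    omega)
  simp only [Finset.mem_insert, Finset.mem_singleton, not_or] at he'
  obtain ⟨f, hf, hf'⟩ := pick h9 {y, e, gi a, gi b} (by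
    have := Finset.card_le_four (a := y) (b := e) (c := gi a) (d := gi b)
    omega)
  simp only [Finset.mem_insert, Finset.mem_singleton, not_or] at hf'
  have hye : y ≠ e := Ne.symm he'.1
  have hef : e ≠ f := Ne.symm hf'.2.1
  have hyf : y ≠ f := Ne.symm hf'.1
  let c := cycA x a b hxa hab
  let d' := cycA y e f hye hef
  have hc : c ∈ LL h4 := by
    rw [mem_LL]
    intro z hz
    exact cyc_other (fun h => by subst h; omega) (fun h => by subst h; omega) (fun h => by subst h; omega)
  have hd' : d' ∈ LL h4 := by
    rw [mem_LL]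
    intro z hz
    exact cyc_other (fun h => by subst h; omega) (fun h => by subst h; omega) (fun h => by subst h; omega)
  have hd : MulAut.conj g d' ∈ (LL h4).map (MulAut.conj g).toMonoidHom := ⟨d', hd', rfl⟩
  intro hbot
  have hmem := Subgroup.commutator_mem_commutator hc hd
  rw [hbot, Subgroup.mem_bot, commutatorElement_eq_one_iff_mul_comm] at hmem
  have hev : (c * MulAut.conj g d').1 x = (MulAut.conj g d' * c).1 x := by rw [hmem]
  have h1 : (c * MulAut.conj g d').1 x = cyc x a b (g.1 (cyc y e f (gi x))) := rfl
  have h2 : (MulAut.conj g d' * c).1 x = g.1 (cyc y e f (gi (cyc x a b x))) := rfl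
  rw [h1, h2, cyc_a hxa hxb] at hev
  have h3 : gi x = y := hg2 y
  have h4' : cyc y e f y = e := cyc_a hye hyf
  rw [h3, h4'] at hev
  have h5 : cyc x a b (g.1 e) = g.1 e := by
    apply cyc_other
    · intro h
      exact hye (g.1.injective h).symm
    · intro h
      apply he'.2.1
      rw [← h, hg2]
    · intro h
      apply he'.2.2
      rw [← h, hg2]
  have h6 : cyc y e f (gi a) = gi a := by
    apply cyc_other
    · intro h
      apply hxa
      rw [hx, ← h, hg1]
    · exact Ne.symm he'.2.1
    · exact Ne.symm hf'.2.2.1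
  rw [h5, h6, hg1] at hev
  exact he'.2.1 (by rw [← hev, hg2])

/-- Simple perfect groups are quasisimple. -/
theorem quasi_of_simple (X : Type*) [Group X] [hs : IsSimpleGroup X] (hp : commutator X = ⊤) :
    Cfsg.IsQuasisimple X := by
  refine ⟨⟨hp⟩, ?_⟩
  haveI : Nontrivial (X ⧸ Subgroup.center X) := by
    by_contra hcon
    rw [not_nontrivial_iff_subsingleton] at hcon
    have htop : Subgroup.center X = ⊤ := by
      rw [eq_top_iff]
      intro x _
      exact (QuotientGroup.eq_one_iff x).1 (Subsingleton.elim _ _)
    have hcb : commutator X = ⊥ := by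
      rw [eq_bot_iff, commutator_def, Subgroup.commutator_le]
      intro a _ b _
      have hb : b ∈ Subgroup.center X := by rw [htop]; trivial
      rw [Subgroup.mem_center_iff] at hb
      rw [Subgroup.mem_bot, commutatorElement_eq_one_iff_mul_comm]
      exact hb a
    rw [hp] at hcb
    exact top_ne_bot hcb
  exact IsSimpleGroup.isSimpleGroup_of_surjective (QuotientGroup.mk' (Subgroup.center X))
    (QuotientGroup.mk'_surjective _)

/-- The subgroup fixing four points is quasisimple. -/
theorem quasi_LL (h4 : 4 ≤ n) (h9 : 9 ≤ n) : Cfsg.IsQuasisimple ↥(LL h4) := by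
  classical
  let P : Fin n → Prop := fun x => 4 ≤ x.val
  let φ : alternatingGroup {x // P x} →* ↥(LL h4) :=
    { toFun := fun σ => ⟨⟨Equiv.Perm.ofSubtype σ.1, by
          rw [Equiv.Perm.mem_alternatingGroup, Equiv.Perm.sign_ofSubtype]
          exact σ.2⟩, by
          rw [mem_LL]
          intro x hx
          exact Equiv.Perm.ofSubtype_apply_of_not_mem _ (by
            show ¬ 4 ≤ x.val
            omega)⟩
      map_one' := by
        apply Subtype.ext
        apply Subtype.ext
        exact map_one _
      map_mul' := by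
        intro a b
        apply Subtype.ext
        apply Subtype.ext
        exact map_mul _ _ _ }
  have hsurj : Function.Surjective φ := by
    rintro ⟨⟨l, hl⟩, hlL⟩
    have hfix : ∀ x : Fin n, x.val < 4 → l x = x := (mem_LL h4 ⟨l, hl⟩).1 hlL
    have h₁ : ∀ x, P (l x) ↔ P x := by
      intro x
      constructor
      · intro h
        by_contra hx
        have hx' : x.val < 4 := by
          simp only [P] at hx
          omega
        rw [hfix x hx'] at h
        exact hx h
      · intro h
        by_contra hx
        have hx' : (l x).val < 4 := by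
          simp only [P] at hx
          omega
        have h2 := hfix _ hx'
        have h3 := l.injective h2
        rw [h3] at hx'
        simp only [P] at h
        omega
    have h₂ : ∀ x, l x ≠ x → P x := by
      intro x hx
      by_contra hn
      apply hx
      apply hfix
      simp only [P] at hn
      omega
    refine ⟨⟨Equiv.Perm.subtypePerm l h₁, ?_⟩, ?_⟩
    · rw [Equiv.Perm.mem_alternatingGroup, Equiv.Perm.sign_subtypePerm l h₁ h₂]
      exact hl
    · apply Subtype.ext
      apply Subtype.ext
      exact Equiv.Perm.ofSubtype_subtypePerm h₁ h₂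
  have hcard : 5 ≤ Nat.card {x // P x} := by
    let e : Fin 5 → {x // P x} := fun i => ⟨⟨4 + i.val, by omega⟩, by
      show 4 ≤ 4 + i.val
      omega⟩
    have hinj : Function.Injective e := by
      intro i j hij
      have := congrArg (fun z : {x // P x} => z.1.val) hij
      simp only [e] at this
      exact Fin.ext (by omega)
    have := Nat.card_le_card_of_injective e hinj
    simpa using this
  haveI hsA : IsSimpleGroup (alternatingGroup {x // P x}) := alternatingGroup.isSimpleGroup hcard
  have hpA : commutator (alternatingGroup {x // P x}) = ⊤ :=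
    _root_.commutator_alternatingGroup_eq_top hcard
  haveI hpA' : Group.IsPerfect (alternatingGroup {x // P x}) := ⟨hpA⟩
  haveI hpL : Group.IsPerfect ↥(LL h4) := Group.IsPerfect.ofSurjective hsurj
  haveI hnt : Nontrivial ↥(LL h4) := by
    obtain ⟨a, ha, -⟩ := pick h9 ∅ (by simp)
    obtain ⟨b, hb, hb'⟩ := pick h9 {a} (by simp)
    obtain ⟨c, hc, hc'⟩ := pick h9 {a, b} (by
      have := Finset.card_le_two (a := a) (b := b)
      omega)
    simp only [Finset.mem_singleton] at hb'
    simp only [Finset.mem_insert, Finset.mem_singleton, not_or] at hc'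
    have hab : a ≠ b := Ne.symm hb'
    have hbc : b ≠ c := Ne.symm hc'.2
    have hac : a ≠ c := Ne.symm hc'.1
    have hl : cycA a b c hab hbc ∈ LL h4 := by
      rw [mem_LL]
      intro z hz
      exact cyc_other (fun h => by subst h; omega) (fun h => by subst h; omega) (fun h => by subst h; omega)
    refine ⟨⟨⟨cycA a b c hab hbc, hl⟩, 1, ?_⟩⟩
    intro h
    have h1 : cyc a b c a = a := by
      have h2 := congrArg (fun s : ↥(LL h4) => s.1.1 a) h
      exact h2
    rw [cyc_a hab hac] at h1
    exact hab h1.symm
  haveI hsL : IsSimpleGroup ↥(LL h4) := IsSimpleGroup.isSimpleGroup_of_surjective φ hsurj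
  exact quasi_of_simple _ hpL.commutator_eq_top

theorem main (n : ℕ) (h4 : 4 ≤ n) (h9 : 9 ≤ n) :
    Cfsg.IsStandardSubgroup (⨅ i : Fin 4, MulAction.stabilizer ↥(alternatingGroup (Fin n)) (Fin.castLE h4 i : Fin n)) := by
  classical
  show Cfsg.IsStandardSubgroup (LL h4)
  refine ⟨quasi_LL h4 h9, ⟨?_, ?_⟩, fun g _ => comm_ne h4 h9 g, ?_⟩
  · -- even order
    let x0 : Fin n := ⟨0, by omega⟩
    let x1 : Fin n := ⟨1, by omega⟩
    let x2 : Fin n := ⟨2, by omega⟩
    let x3 : Fin n := ⟨3, by omega⟩
    have h01 : x0 ≠ x1 := fun h => by simpa [x0, x1] using congrArg Fin.val h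
    have h02 : x0 ≠ x2 := fun h => by simpa [x0, x2] using congrArg Fin.val h
    have h03 : x0 ≠ x3 := fun h => by simpa [x0, x3] using congrArg Fin.val h
    have h12 : x1 ≠ x2 := fun h => by simpa [x1, x2] using congrArg Fin.val h
    have h13 : x1 ≠ x3 := fun h => by simpa [x1, x3] using congrArg Fin.val h
    have h23 : x2 ≠ x3 := fun h => by simpa [x2, x3] using congrArg Fin.val h
    let τ : Perm (Fin n) := swap x0 x1 * swap x2 x3
    have hτ : τ ∈ alternatingGroup (Fin n) := by
      rw [Equiv.Perm.mem_alternatingGroup, map_mul, sign_swap h01, sign_swap h23]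
      rfl
    have hd : Disjoint (swap x0 x1) (swap x2 x3) := by
      intro z
      by_cases hz : z = x0 ∨ z = x1
      · right
        apply swap_apply_of_ne_of_ne
        · rcases hz with rfl | rfl
          · exact h02
          · exact h12
        · rcases hz with rfl | rfl
          · exact h03
          · exact h13
      · left
        push Not at hz
        exact swap_apply_of_ne_of_ne hz.1 hz.2
    have hsq : (⟨τ, hτ⟩ : alternatingGroup (Fin n)) ^ 2 = 1 := by
      apply Subtype.ext
      show τ ^ 2 = 1
      show (swap x0 x1 * swap x2 x3) ^ 2 = 1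
      rw [hd.commute.mul_pow, pow_two, pow_two, swap_mul_self, swap_mul_self, one_mul]
    have hne : (⟨τ, hτ⟩ : alternatingGroup (Fin n)) ≠ 1 := by
      intro h
      have h1 : τ x0 = x0 := by
        have h2 := congrArg (fun s : alternatingGroup (Fin n) => s.1 x0) h
        exact h2
      have h2 : τ x0 = x1 := by
        show swap x0 x1 (swap x2 x3 x0) = x1
        rw [swap_apply_of_ne_of_ne h02 h03, swap_apply_left]
      rw [h1] at h2
      exact h01 h2
    have hord : orderOf (⟨τ, hτ⟩ : alternatingGroup (Fin n)) = 2 := orderOf_eq_prime hsq hne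
    have hmem : (⟨τ, hτ⟩ : alternatingGroup (Fin n)) ∈
        Subgroup.centralizer ((LL h4 : Subgroup _) : Set (alternatingGroup (Fin n))) := by
      rw [mem_C h4 h9]
      intro z hz
      have hz0 : z ≠ x0 := fun h => by subst h; simp [x0] at hz
      have hz1 : z ≠ x1 := fun h => by subst h; simp [x1] at hz
      have hz2 : z ≠ x2 := fun h => by subst h; simp [x2] at hz
      have hz3 : z ≠ x3 := fun h => by subst h; simp [x3] at hz
      show swap x0 x1 (swap x2 x3 z) = z
      rw [swap_apply_of_ne_of_ne hz2 hz3, swap_apply_of_ne_of_ne hz0 hz1]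
    have hdvd := Subgroup.orderOf_dvd_natCard _ hmem
    rw [hord] at hdvd
    exact even_iff_two_dvd.2 hdvd
  · -- tightly embedded
    intro g hg
    set C := Subgroup.centralizer ((LL h4 : Subgroup _) : Set (alternatingGroup (Fin n))) with hC
    rw [norm_C h4 h9] at hg
    -- a point of the first four moved out by the inverse of g
    have hp : ∃ p : Fin n, p.val < 4 ∧ 4 ≤ ((g.1)⁻¹ p).val := by
      by_contra hcon
      push Not at hcon
      apply hg
      intro x
      constructor
      · -- injectivity and counting on the first four points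
        intro hx
        by_contra hgx
        -- the inverse maps the first four points into themselves, hence onto them
        have hinj : Function.Injective (fun i : Fin 4 => (⟨((g.1)⁻¹ (Fin.castLE h4 i)).val, hcon _ (by simp)⟩ : Fin 4)) := by
          intro i j hij
          have h1 := congrArg Fin.val hij
          simp only at h1
          have h2 := (g.1)⁻¹.injective (Fin.ext h1)
          exact Fin.castLE_injective h4 h2
        have hsurj := Finite.surjective_of_injective hinj
        obtain ⟨i, hi⟩ := hsurj ⟨x.val, hx⟩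
        have h1 := congrArg Fin.val hi
        simp only at h1
        have h2 : (g.1)⁻¹ (Fin.castLE h4 i) = x := Fin.ext h1
        have h3 : g.1 x = Fin.castLE h4 i := by
          rw [← h2]
          simp
        rw [h3] at hgx
        apply hgx
        simp
      · intro hx
        have := hcon _ hx
        simpa using this
    obtain ⟨p, hp4, hp'⟩ := hp
    rw [← Nat.not_even_iff_odd, even_iff_two_dvd]
    intro hdvd
    haveI : Fact (Nat.Prime 2) := ⟨Nat.prime_two⟩
    obtain ⟨h, hh⟩ := exists_prime_orderOf_dvd_card' 2 hdvd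
    have hh1 : (h : alternatingGroup (Fin n)) ∈ C := h.2.1
    obtain ⟨c, hc, hch⟩ := h.2.2
    have hfixT := (mem_C h4 h9 _).1 hh1
    have hfixp : (h : alternatingGroup (Fin n)).1 p = p := by
      rw [← hch]
      show g.1 (c.1 ((g.1)⁻¹ p)) = p
      rw [(mem_C h4 h9 _).1 hc _ hp']
      simp
    have hord : orderOf (h : alternatingGroup (Fin n)) = 2 := by
      rw [Subgroup.orderOf_coe]
      exact hh
    have hord' : orderOf ((h : alternatingGroup (Fin n)) : Perm (Fin n)) = 2 := by
      rw [Subgroup.orderOf_coe]
      exact hord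
    set π : Perm (Fin n) := ((h : alternatingGroup (Fin n)) : Perm (Fin n)) with hπ
    have hsupp : π.support ⊆ ((Finset.univ : Finset (Fin 4)).map (Fin.castLEEmb h4)).erase p := by
      intro z hz
      rw [Equiv.Perm.mem_support] at hz
      rw [Finset.mem_erase]
      constructor
      · intro hzp
        rw [hzp] at hz
        exact hz hfixp
      · have hz4 : z.val < 4 := by
          by_contra hn
          exact hz (hfixT z (by omega))
        simp only [Finset.mem_map, Finset.mem_univ, true_and]
        exact ⟨⟨z.val, hz4⟩, Fin.ext rfl⟩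
    have hpm : p ∈ (Finset.univ : Finset (Fin 4)).map (Fin.castLEEmb h4) := by
      simp only [Finset.mem_map, Finset.mem_univ, true_and]
      exact ⟨⟨p.val, hp4⟩, Fin.ext rfl⟩
    have hcard3 : π.support.card ≤ 3 := by
      have h1 := Finset.card_le_card hsupp
      rw [Finset.card_erase_of_mem hpm] at h1
      simpa using h1
    have hne1 : π ≠ 1 := by
      intro h1
      rw [h1, orderOf_one] at hord'
      omega
    have h2le := Equiv.Perm.two_le_card_support_of_ne_one hne1
    have hsign : Equiv.Perm.sign π = 1 := Equiv.Perm.mem_alternatingGroup.1 (h : alternatingGroup (Fin n)).2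
    have hcases : π.support.card = 2 ∨ π.support.card = 3 := by omega
    rcases hcases with h2 | h3
    · have hsw := Equiv.Perm.card_support_eq_two.1 h2
      rw [hsw.sign_eq] at hsign
      exact absurd hsign (by decide)
    · have h3c := _root_.card_support_eq_three_iff.1 h3
      rw [h3c.orderOf] at hord'
      omega
  · ext g
    rw [norm_L h4 h9, norm_C h4 h9]

end CfsgLib.H9.StdAlt
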