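import Mathlib

/-! Orbits of Sylow 2-subgroups of symmetric groups. -/

namespace CfsgLib.H9.SylOrb

open Equiv Equiv.Perm

set_option linter.unusedSectionVars false
set_option linter.unusedVariables false

/-- `v₂(k!)`. -/
noncomputable def V (k : ℕ) : ℕ := padicValNat 2 k.factorial

local instance fact2 : Fact (Nat.Prime 2) := ⟨Nat.prime_two⟩

lemma V_pow (c : ℕ) : V (2 ^ c) = 2 ^ c - 1 := by
  induction c with
  | zero => simp [V]
  | succ c ih =>
    have h := padicValNat_factorial_mul (p := 2) (2 ^ c)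
    unfold V at ih ⊢
    rw [pow_succ, mul_comm, h, ih]
    have : 0 < 2 ^ c := by positivity
    omega

lemma pv_le_of_dvd {a b : ℕ} (h : a ∣ b) (hb : b ≠ 0) : padicValNat 2 a ≤ padicValNat 2 b := by
  have := (padicValNat_dvd_iff_le (p := 2) hb (n := padicValNat 2 a)).mp
    ((pow_padicValNat_dvd).trans h)
  exact this

lemma V_add (a b : ℕ) : V a + V b ≤ V (a + b) := by
  unfold V
  rw [← padicValNat.mul (Nat.factorial_ne_zero a) (Nat.factorial_ne_zero b)]
  exact pv_le_of_dvd (Nat.factorial_mul_factorial_dvd_factorial_add a b) (Nat.factorial_ne_zero _)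

lemma V_sum {ι : Type*} (T : Finset ι) (s : ι → ℕ) : ∑ i ∈ T, V (s i) ≤ V (∑ i ∈ T, s i) := by
  classical
  induction T using Finset.induction_on with
  | empty => simp
  | insert a T ha ih =>
    rw [Finset.sum_insert ha, Finset.sum_insert ha]
    exact (Nat.add_le_add_left ih _).trans (V_add _ _)

variable {α : Type*} [Fintype α] [DecidableEq α] (R : Subgroup (Perm α))

/-- The orbit map. -/
def f : α → MulAction.orbitRel.Quotient R α := fun x => Quotient.mk'' x

noncomputable instance : Fintype (MulAction.orbitRel.Quotient R α) := Fintype.ofFinite _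

noncomputable instance : DecidableEq (MulAction.orbitRel.Quotient R α) := Classical.decEq _

/-- The size of an orbit. -/
noncomputable def sz (q : MulAction.orbitRel.Quotient R α) : ℕ :=
  Nat.card {a // f R a = q}

lemma f_eq {x y : α} : f R y = f R x ↔ y ∈ MulAction.orbit R x := by
  unfold f
  rw [Quotient.eq'']
  exact MulAction.orbitRel_apply

lemma sz_mk (x : α) : sz R (f R x) = Nat.card (MulAction.orbit R x) := by
  unfold sz
  apply Nat.card_congr
  exact Equiv.subtypeEquivRight (fun a => f_eq R)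

lemma sum_sz : ∑ q, sz R q = Fintype.card α := by
  have h := Fintype.card_congr (Equiv.sigmaFiberEquiv (f R))
  rw [Fintype.card_sigma] at h
  rw [← h]
  simp [sz, Nat.card_eq_fintype_card]

lemma f_surj : Function.Surjective (f R) := Quotient.mk''_surjective

lemma sz_pos (q) : 0 < sz R q := by
  obtain ⟨x, rfl⟩ := f_surj R q
  rw [sz_mk]
  exact Nat.card_pos_iff.mpr ⟨⟨⟨x, MulAction.mem_orbit_self x⟩⟩, inferInstance⟩

lemma sz_pow (hR : IsPGroup 2 R) (q) : ∃ c, sz R q = 2 ^ c := by
  obtain ⟨x, rfl⟩ := f_surj R q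
  rw [sz_mk]
  exact hR.card_orbit x

/-- The Young subgroup. -/
def young : Subgroup (Perm α) where
  carrier := {g | ∀ x, f R (g x) = f R x}
  mul_mem' := by
    intro a b ha hb x
    rw [Perm.mul_apply, ha, hb]
  one_mem' := fun x => rfl
  inv_mem' := by
    intro a ha x
    have h1 := ha (a⁻¹ x)
    have h2 : a (a⁻¹ x) = x := by simp
    rw [h2] at h1
    exact h1.symm

lemma le_young : R ≤ young R := by
  intro g hg x
  rw [f_eq]
  exact ⟨⟨g, hg⟩, rfl⟩

lemma card_young : Nat.card (young R) = ∏ q, (sz R q).factorial := by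
  classical
  have h := DomMulAct.stabilizer_card (f := f R)
  have e : young R ≃ {g : Perm α // f R ∘ g = f R} := by
    apply Equiv.subtypeEquivRight
    intro g
    constructor
    · intro hg
      funext x
      exact hg x
    · intro hg x
      exact congrFun hg x
  rw [Nat.card_congr e, Nat.card_eq_fintype_card, h]
  apply Finset.prod_congr rfl
  intro q _
  rw [sz, Nat.card_eq_fintype_card]

/-- The basic inequality for a Sylow subgroup. -/
lemma V_le (h1 : 2 ^ V (Fintype.card α) ∣ Nat.card (young R)) :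
    V (Fintype.card α) ≤ ∑ q, V (sz R q) := by
  rw [card_young] at h1
  have h2 : ∏ q, (sz R q).factorial ≠ 0 :=
    Finset.prod_ne_zero_iff.mpr (fun q _ => Nat.factorial_ne_zero _)
  have h3 := (padicValNat_dvd_iff_le (p := 2) h2).mp h1
  have h4 : ∀ T : Finset (MulAction.orbitRel.Quotient R α),
      padicValNat 2 (∏ q ∈ T, (sz R q).factorial) = ∑ q ∈ T, V (sz R q) := by
    intro T
    induction T using Finset.induction_on with
    | empty => simp
    | insert a T ha ih =>
      rw [Finset.prod_insert ha, Finset.sum_insert ha, padicValNat.mul (Nat.factorial_ne_zero _)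
        (Finset.prod_ne_zero_iff.mpr (fun q _ => Nat.factorial_ne_zero _)), ih]
      rfl
  rw [h4] at h3
  exact h3

/-- The value of `V` on orbit sizes. -/
lemma V_sz (hR : IsPGroup 2 R) (q) : V (sz R q) = sz R q - 1 := by
  obtain ⟨c, hc⟩ := sz_pow R hR q
  rw [hc, V_pow]

/-- Distinct orbits have distinct sizes. -/
theorem sz_ne (hR : IsPGroup 2 R) (h1 : V (Fintype.card α) ≤ ∑ q, V (sz R q))
    {q₁ q₂ : MulAction.orbitRel.Quotient R α} (hq : q₁ ≠ q₂) : sz R q₁ ≠ sz R q₂ := by
  intro he
  set T := (Finset.univ.erase q₁).erase q₂ with hT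
  have hsum : ∀ s : MulAction.orbitRel.Quotient R α → ℕ,
      ∑ q, s q = s q₁ + s q₂ + ∑ q ∈ T, s q := by
    intro s
    rw [hT, ← Finset.add_sum_erase _ _ (Finset.mem_univ q₁),
      ← Finset.add_sum_erase _ _ (Finset.mem_erase.mpr ⟨hq.symm, Finset.mem_univ q₂⟩)]
    ring
  rw [hsum] at h1
  have h2 : V (sz R q₁ + sz R q₂) + ∑ q ∈ T, V (sz R q) ≤ V (Fintype.card α) := by
    rw [← sum_sz R, hsum (sz R)]
    exact (Nat.add_le_add_left (V_sum T _) _).trans (V_add _ _)
  obtain ⟨c, hc⟩ := sz_pow R hR q₁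
  have h3 : V (sz R q₁ + sz R q₂) = 2 ^ (c + 1) - 1 := by
    rw [← he, hc, ← two_mul, ← pow_succ', V_pow]
  rw [V_sz R hR q₁, V_sz R hR q₂, ← he, hc] at h1
  rw [h3] at h2
  have : 0 < 2 ^ c := by positivity
  rw [pow_succ] at h2
  omega

/-- The number of orbits is bounded by the deficiency. -/
theorem V_add_card_le (hR : IsPGroup 2 R) (h1 : V (Fintype.card α) ≤ ∑ q, V (sz R q)) :
    V (Fintype.card α) + Fintype.card (MulAction.orbitRel.Quotient R α) ≤ Fintype.card α := by
  have h2 : ∑ q, V (sz R q) + Fintype.card (MulAction.orbitRel.Quotient R α) = ∑ q, sz R q := by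
    rw [Finset.card_univ.symm, Finset.card_eq_sum_ones, ← Finset.sum_add_distrib]
    apply Finset.sum_congr rfl
    intro q _
    rw [V_sz R hR q]
    have := sz_pos R q
    omega
  rw [sum_sz] at h2
  omega

end CfsgLib.H9.SylOrb
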