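import Mathlib
import Cfsg.Agent.Lib.H9.AltGen

/-! Two overgroups of a 2-subgroup generating the alternating group. -/

namespace CfsgLib.H9.SylSplit

open Equiv Equiv.Perm CfsgLib.H9.AltGen

set_option linter.unusedSectionVars false
set_option linter.unusedVariables false

variable {α : Type*} [Fintype α] [DecidableEq α]

/-- Setwise stabiliser of a finset. -/
def stabSet (S : Finset α) : Subgroup (Perm α) where
  carrier := {g | ∀ x, g x ∈ S ↔ x ∈ S}
  mul_mem' := by
    intro a b ha hb x
    rw [Perm.mul_apply, ha, hb]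
  one_mem' := fun x => Iff.rfl
  inv_mem' := by
    intro a ha x
    have h1 := ha (a⁻¹ x)
    have h2 : a (a⁻¹ x) = x := by simp
    rw [h2] at h1
    exact h1.symm

/-- The conclusion: two overgroups, neither containing the alternating group, whose even parts
generate it. -/
def Split (R : Subgroup (Perm α)) : Prop :=
  ∃ H₁ H₂ : Subgroup (Perm α), R ≤ H₁ ∧ R ≤ H₂ ∧ ¬ alternatingGroup α ≤ H₁ ∧
    ¬ alternatingGroup α ≤ H₂ ∧
    alternatingGroup α ≤ (H₁ ⊓ alternatingGroup α) ⊔ (H₂ ⊓ alternatingGroup α)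

lemma mem_stabSet_of_fix_off {S : Finset α} {g : Perm α} (h : ∀ x, x ∉ S → g x = x) :
    g ∈ stabSet S := by
  intro x
  constructor
  · intro hx
    by_contra hn
    rw [h x hn] at hx
    exact hn hx
  · exact fun hx => mem_of_fix h hx

lemma mem_stabSet_of_fix_on {S : Finset α} {g : Perm α} (h : ∀ x, x ∈ S → g x = x) :
    g ∈ stabSet S := by
  intro x
  constructor
  · intro hx
    have := h _ hx
    have h2 := g.injective this
    rwa [h2] at hx
  · intro hx
    rwa [h x hx]

lemma c3_fix_off {Y : Finset α} {u v w : α} (hu : u ∈ Y) (hv : v ∈ Y) (hw : w ∈ Y) :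
    ∀ x, x ∉ Y → c3 u v w x = x := by
  intro x hx
  apply c3_fix <;> rintro rfl <;> exact hx ‹_›

/-- Three disjoint invariant pieces. -/
theorem split_of_three (R : Subgroup (Perm α)) (A B : Finset α) (hA : R ≤ stabSet A)
    (hB : R ≤ stabSet B) (hdisj : Disjoint A B) {a a' b c₁ c₂ : α} (ha : a ∈ A) (ha' : a' ∈ A)
    (hb : b ∈ B) (haa' : a ≠ a') (hc₁A : c₁ ∉ A) (hc₁B : c₁ ∉ B) (hc₂A : c₂ ∉ A) (hc₂B : c₂ ∉ B)
    (hc : c₁ ≠ c₂) : Split R := by
  have hac₁ : a ≠ c₁ := by rintro rfl; exact hc₁A ha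
  have hac₂ : a ≠ c₂ := by rintro rfl; exact hc₂A ha
  have ha'c₁ : a' ≠ c₁ := by rintro rfl; exact hc₁A ha'
  have ha'c₂ : a' ≠ c₂ := by rintro rfl; exact hc₂A ha'
  have hbc₁ : b ≠ c₁ := by rintro rfl; exact hc₁B hb
  have hbc₂ : b ≠ c₂ := by rintro rfl; exact hc₂B hb
  refine ⟨stabSet A, stabSet B, hA, hB, ?_, ?_, ?_⟩
  · intro h
    have h1 := h (c3_mem_alt hac₁ hac₂) a
    rw [c3_left hac₁ hac₂ hc] at h1
    exact hc₁A (h1.mpr ha)
  · intro h
    have h1 := h (c3_mem_alt hbc₁ hbc₂) b
    rw [c3_left hbc₁ hbc₂ hc] at h1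
    exact hc₁B (h1.mpr hb)
  · set J := (stabSet A ⊓ alternatingGroup α) ⊔ (stabSet B ⊓ alternatingGroup α) with hJ
    apply alt_le_of_block J (Finset.univ \ B)
    · have hsub : ({a, a', c₁, c₂} : Finset α) ⊆ Finset.univ \ B := by
        intro x hx
        simp only [Finset.mem_insert, Finset.mem_singleton] at hx
        simp only [Finset.mem_sdiff, Finset.mem_univ, true_and]
        rcases hx with rfl | rfl | rfl | rfl
        · exact Finset.disjoint_left.mp hdisj ha
        · exact Finset.disjoint_left.mp hdisj ha'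
        · exact hc₁B
        · exact hc₂B
      have hcard : ({a, a', c₁, c₂} : Finset α).card = 4 := by
        rw [Finset.card_insert_of_notMem, Finset.card_insert_of_notMem, Finset.card_insert_of_notMem,
          Finset.card_singleton]
        · simpa using hc
        · simp [ha'c₁, ha'c₂]
        · simp [haa', hac₁, hac₂]
      calc 4 = _ := hcard.symm
        _ ≤ _ := Finset.card_le_card hsub
    · intro u hu v hv w hw huv huw hvw
      apply (le_sup_right : stabSet B ⊓ alternatingGroup α ≤ J)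
      refine ⟨?_, c3_mem_alt huv huw⟩
      apply mem_stabSet_of_fix_on
      intro x hx
      simp only [Finset.mem_sdiff, Finset.mem_univ, true_and] at hu hv hw
      apply c3_fix <;> rintro rfl <;> contradiction
    · intro y hy
      simp only [Finset.mem_sdiff, Finset.mem_univ, true_and, not_not] at hy
      have hyc₁ : y ≠ c₁ := by rintro rfl; exact hc₁B hy
      have hyc₂ : y ≠ c₂ := by rintro rfl; exact hc₂B hy
      refine ⟨c₁, by simpa using hc₁B, c₂, by simpa using hc₂B, hc, ?_⟩
      apply (le_sup_left : stabSet A ⊓ alternatingGroup α ≤ J)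
      refine ⟨?_, c3_mem_alt hyc₁ hyc₂⟩
      apply mem_stabSet_of_fix_on
      intro x hx
      have hxy : x ≠ y := by
        rintro rfl
        exact Finset.disjoint_left.mp hdisj hx hy
      have hxc₁ : x ≠ c₁ := by rintro rfl; exact hc₁A hx
      have hxc₂ : x ≠ c₂ := by rintro rfl; exact hc₂A hx
      exact c3_fix hxy hxc₁ hxc₂

/-- An invariant fixed-point-free involution and a block. -/
theorem split_of_tau (R H₁ : Subgroup (Perm α)) (Y : Finset α) (τ : Perm α)
    (hτ2 : ∀ x, τ (τ x) = x) (hfp : ∀ x, τ x ≠ x) (hY : ∀ x, τ x ∈ Y ↔ x ∈ Y)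
    (hR1 : R ≤ H₁) (hRτ : ∀ r ∈ R, ∀ x, r (τ x) = τ (r x))
    (hc : ∀ u ∈ Y, ∀ v ∈ Y, ∀ w ∈ Y, u ≠ v → u ≠ w → v ≠ w → c3 u v w ∈ H₁)
    (hcard : 4 ≤ Y.card) (hout : ∃ y, y ∉ Y) (hH₁ : ¬ alternatingGroup α ≤ H₁) : Split R := by
  obtain ⟨y₀, hy₀⟩ := hout
  have hτinv : τ⁻¹ = τ := by
    ext x
    rw [Perm.inv_eq_iff_eq]
    exact (hτ2 x).symm
  refine ⟨H₁, Subgroup.centralizer {τ}, hR1, ?_, hH₁, ?_, ?_⟩
  · intro r hr
    rw [Subgroup.mem_centralizer_singleton_iff]
    ext x
    simp only [Perm.mul_apply]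
    exact (hRτ r hr x)
  · obtain ⟨x, hx⟩ : ∃ x, x ∈ Y := Finset.card_pos.mp (by omega)
    have hxy : x ≠ y₀ := by rintro rfl; exact hy₀ hx
    have hx'y : τ x ≠ y₀ := by
      rintro rfl
      exact hy₀ ((hY x).mpr hx)
    intro h
    have h1 := h (c3_mem_alt (Ne.symm (hfp x)) hxy)
    rw [Subgroup.mem_centralizer_singleton_iff] at h1
    have h2 := congrArg (fun σ : Perm α => σ x) h1
    simp only [Perm.mul_apply] at h2
    rw [c3_left (Ne.symm (hfp x)) hxy hx'y, c3_mid (Ne.symm (hfp x)) hxy hx'y, hτ2] at h2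
    exact hxy h2.symm
  · set J := (H₁ ⊓ alternatingGroup α) ⊔ (Subgroup.centralizer {τ} ⊓ alternatingGroup α) with hJ
    apply alt_le_of_block J Y hcard
    · intro u hu v hv w hw huv huw hvw
      apply (le_sup_left : H₁ ⊓ alternatingGroup α ≤ J)
      exact ⟨hc u hu v hv w hw huv huw hvw, c3_mem_alt huv huw⟩
    · intro y hy
      obtain ⟨x, hx⟩ : ∃ x, x ∈ Y := Finset.card_pos.mp (by omega)
      have hx' : τ x ∈ Y := (hY x).mpr hx
      have hy' : τ y ∉ Y := fun h => hy ((hY y).mp h)
      have hcard2 : 1 < ((Y.erase x).erase (τ x)).card := by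
        have h1 := Finset.pred_card_le_card_erase (s := Y) (a := x)
        have h2 := Finset.pred_card_le_card_erase (s := Y.erase x) (a := τ x)
        omega
      obtain ⟨w₁, hw₁, w₂, hw₂, hw⟩ := Finset.one_lt_card.mp hcard2
      simp only [Finset.mem_erase] at hw₁ hw₂
      obtain ⟨hw₁a, hw₁b, hw₁Y⟩ := hw₁
      obtain ⟨hw₂a, hw₂b, hw₂Y⟩ := hw₂
      refine ⟨w₁, hw₁Y, w₂, hw₂Y, hw, ?_⟩
      have hxy : x ≠ y := by rintro rfl; exact hy hx
      have hx'y' : τ x ≠ τ y := fun e => hxy (τ.injective e)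
      have hxy' : x ≠ τ y := by rintro rfl; exact hy' hx
      have hx'y : τ x ≠ y := by rintro rfl; exact hy hx'
      have i1 : c3 x w₁ w₂ ∈ J := by
        apply (le_sup_left : H₁ ⊓ alternatingGroup α ≤ J)
        exact ⟨hc x hx w₁ hw₁Y w₂ hw₂Y (Ne.symm hw₁b) (Ne.symm hw₂b) hw,
          c3_mem_alt (Ne.symm hw₁b) (Ne.symm hw₂b)⟩
      set g := swap x y * swap (τ x) (τ y) with hg
      have i2 : g ∈ J := by
        apply (le_sup_right : Subgroup.centralizer {τ} ⊓ alternatingGroup α ≤ J)
        constructor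
        · change g ∈ Subgroup.centralizer ({τ} : Set (Perm α))
          rw [Subgroup.mem_centralizer_singleton_iff]
          have e2 : τ * swap x y * τ⁻¹ = swap (τ x) (τ y) := (swap_apply_apply τ x y).symm
          have e3 : τ * swap (τ x) (τ y) * τ⁻¹ = swap x y := by
            rw [← swap_apply_apply τ (τ x) (τ y), hτ2, hτ2]
          have e1 : τ * g * τ⁻¹ = swap (τ x) (τ y) * swap x y := by
            calc τ * g * τ⁻¹ = (τ * swap x y * τ⁻¹) * (τ * swap (τ x) (τ y) * τ⁻¹) := by
                  rw [hg]; group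
              _ = _ := by rw [e2, e3]
          have hcomm : swap (τ x) (τ y) * swap x y = g := by
            rw [hg]
            have hd : Disjoint (swap x y) (swap (τ x) (τ y)) := by
              intro z
              by_cases hz1 : z = x
              · subst hz1
                right
                exact swap_apply_of_ne_of_ne (Ne.symm (hfp z)) hxy'
              by_cases hz2 : z = y
              · subst hz2
                right
                exact swap_apply_of_ne_of_ne (Ne.symm hx'y) (Ne.symm (hfp z))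
              left
              exact swap_apply_of_ne_of_ne hz1 hz2
            exact hd.commute.symm.eq
          rw [hcomm] at e1
          have : τ * g = g * τ := by
            calc τ * g = τ * g * τ⁻¹ * τ := by group
              _ = g * τ := by rw [e1]
          exact this.symm
        · change g ∈ alternatingGroup α
          rw [Equiv.Perm.mem_alternatingGroup, hg, Perm.sign_mul, sign_swap hxy, sign_swap hx'y']
          simp
      have h3 := J.mul_mem (J.mul_mem i2 i1) (J.inv_mem i2)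
      rw [c3_conj] at h3
      have g1 : g x = y := by
        rw [hg, Perm.mul_apply, swap_apply_of_ne_of_ne (Ne.symm (hfp x)) hxy', swap_apply_left]
      have hw₁y : w₁ ≠ y := by rintro rfl; exact hy hw₁Y
      have hw₂y : w₂ ≠ y := by rintro rfl; exact hy hw₂Y
      have hw₁y' : w₁ ≠ τ y := by rintro rfl; exact hy' hw₁Y
      have hw₂y' : w₂ ≠ τ y := by rintro rfl; exact hy' hw₂Y
      have g2 : g w₁ = w₁ := by
        rw [hg, Perm.mul_apply, swap_apply_of_ne_of_ne hw₁a hw₁y', swap_apply_of_ne_of_ne hw₁b hw₁y]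
      have g3 : g w₂ = w₂ := by
        rw [hg, Perm.mul_apply, swap_apply_of_ne_of_ne hw₂a hw₂y', swap_apply_of_ne_of_ne hw₂b hw₂y]
      rwa [g1, g2, g3] at h3

end CfsgLib.H9.SylSplit
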