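import Mathlib
import Cfsg.Agent.Lib.H9.SylSplit

/-! Invariant pairings and blocks for 2-subgroups of symmetric groups. -/

namespace CfsgLib.H9.SylPair

open Equiv Equiv.Perm CfsgLib.H9.AltGen CfsgLib.H9.SylSplit

set_option linter.unusedSectionVars false
set_option linter.unusedVariables false

/-- A central element of order two modulo a proper normal subgroup of a 2-group. -/
lemma central_mod {G : Type*} [Group G] [Finite G] (hG : IsPGroup 2 G) (K : Subgroup G) [K.Normal]
    (hK : K ≠ ⊤) : ∃ g : G, g ∉ K ∧ g ^ 2 ∈ K ∧ ∀ h : G, h * g * h⁻¹ * g⁻¹ ∈ K := by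
  classical
  have : Fact (Nat.Prime 2) := ⟨Nat.prime_two⟩
  have hQ : IsPGroup 2 (G ⧸ K) := hG.to_quotient K
  have : Nontrivial (G ⧸ K) := by
    rw [QuotientGroup.nontrivial_iff]
    exact hK
  have : Nontrivial (Subgroup.center (G ⧸ K)) := hQ.center_nontrivial
  obtain ⟨c, hc⟩ := exists_ne (1 : Subgroup.center (G ⧸ K))
  have hcQ : IsPGroup 2 (Subgroup.center (G ⧸ K)) := hQ.to_subgroup _
  obtain ⟨m, hm⟩ := hcQ.exists_card_eq
  -- order of `c`
  obtain ⟨k, hk⟩ : ∃ k, orderOf c = 2 ^ k := by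
    have := orderOf_dvd_natCard c
    rw [hm] at this
    obtain ⟨k, -, hk⟩ := (Nat.dvd_prime_pow Nat.prime_two).mp this
    exact ⟨k, hk⟩
  have hk0 : k ≠ 0 := by
    rintro rfl
    rw [pow_zero, orderOf_eq_one_iff] at hk
    exact hc hk
  obtain ⟨k, rfl⟩ := Nat.exists_eq_succ_of_ne_zero hk0
  set d := c ^ 2 ^ k with hd
  have hd1 : d ≠ 1 := by
    intro h
    have := orderOf_le_of_pow_eq_one (by positivity) h
    rw [hk, pow_succ] at this
    have : 0 < 2 ^ k := by positivity
    omega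
  have hd2 : d ^ 2 = 1 := by
    rw [hd, ← pow_mul, ← pow_succ, ← hk, pow_orderOf_eq_one]
  obtain ⟨g, hg⟩ := QuotientGroup.mk_surjective (d : G ⧸ K)
  refine ⟨g, ?_, ?_, ?_⟩
  · intro h
    apply hd1
    apply Subtype.ext
    rw [← hg]
    exact (QuotientGroup.eq_one_iff g).mpr h
  · rw [← QuotientGroup.eq_one_iff, QuotientGroup.mk_pow, hg]
    have := congrArg Subtype.val hd2
    simpa using this
  · intro h
    rw [← QuotientGroup.eq_one_iff]
    simp only [QuotientGroup.mk_mul, QuotientGroup.mk_inv, hg]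
    have hcent := Subgroup.mem_center_iff.mp d.2 (h : G ⧸ K)
    rw [hcent]
    group

variable {α : Type*} [Fintype α] [DecidableEq α]

/-- An invariant pairing on an orbit. -/
theorem pair_on_orbit (R : Subgroup (Perm α)) (hR : IsPGroup 2 R) (x₀ : α)
    (hmove : ∃ r ∈ R, r x₀ ≠ x₀) :
    ∃ τ : Perm α, (∀ x, τ (τ x) = x) ∧ (∀ y ∈ MulAction.orbit R x₀, τ y ∈ MulAction.orbit R x₀ ∧ τ y ≠ y) ∧
      (∀ y, y ∉ MulAction.orbit R x₀ → τ y = y) ∧ ∀ r ∈ R, ∀ x, r (τ x) = τ (r x) := by
  classical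
  set Ω := MulAction.orbit R x₀ with hΩ
  have hr_mem : ∀ (r : R) (y : α), y ∈ Ω → (r : Perm α) y ∈ Ω := by
    intro r y hy
    exact MulAction.mem_orbit_of_mem_orbit r hy
  -- the kernel on the orbit
  let K : Subgroup R :=
    { carrier := {r | ∀ y ∈ Ω, (r : Perm α) y = y}
      mul_mem' := by
        intro a b ha hb y hy
        change (a : Perm α) ((b : Perm α) y) = y
        rw [hb y hy, ha y hy]
      one_mem' := fun y _ => rfl
      inv_mem' := by
        intro a ha y hy
        change ((a : Perm α))⁻¹ y = y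
        rw [Perm.inv_eq_iff_eq]
        exact (ha y hy).symm }
  have hKn : K.Normal := by
    constructor
    intro a ha h y hy
    change (h : Perm α) ((a : Perm α) (((h : Perm α))⁻¹ y)) = y
    have h1 : ((h⁻¹ : R) : Perm α) y ∈ Ω := hr_mem h⁻¹ y hy
    have h2 : ((h : Perm α))⁻¹ y ∈ Ω := h1
    rw [ha _ h2]
    simp
  have hKtop : K ≠ ⊤ := by
    obtain ⟨r, hr, hrx⟩ := hmove
    intro h
    have : (⟨r, hr⟩ : R) ∈ K := by rw [h]; trivial
    exact hrx (this x₀ (MulAction.mem_orbit_self x₀))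
  obtain ⟨g, hg1, hg2, hg3⟩ := central_mod hR K hKtop
  -- commutation on the orbit
  have hcomm : ∀ (h : R) (y : α), y ∈ Ω → (h : Perm α) ((g : Perm α) y) = (g : Perm α) ((h : Perm α) y) := by
    intro h y hy
    have h1 := hg3 h
    have h2 : (g : Perm α) ((h : Perm α) y) ∈ Ω := hr_mem g _ (hr_mem h y hy)
    have h3 := h1 _ h2
    change (h : Perm α) ((g : Perm α) (((h : Perm α))⁻¹ (((g : Perm α))⁻¹ ((g : Perm α) ((h : Perm α) y))))) = _ at h3
    have e1 : ((g : Perm α))⁻¹ ((g : Perm α) ((h : Perm α) y)) = (h : Perm α) y := by simp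
    have e2 : ((h : Perm α))⁻¹ ((h : Perm α) y) = y := by simp
    rw [e1, e2] at h3
    exact h3
  have hgg : ∀ y ∈ Ω, (g : Perm α) ((g : Perm α) y) = y := by
    intro y hy
    have := hg2 y hy
    rwa [pow_two] at this
  have hfp : ∀ y ∈ Ω, (g : Perm α) y ≠ y := by
    intro y hy he
    apply hg1
    intro z hz
    -- `z = h y`
    obtain ⟨h1, rfl⟩ := (MulAction.orbit_eq_iff.mpr hy ▸ hz : z ∈ MulAction.orbit R y)
    change (g : Perm α) ((h1 : Perm α) y) = (h1 : Perm α) y
    rw [← hcomm h1 y hy, he]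
  -- the involution
  let τ₀ : α → α := fun y => if y ∈ Ω then (g : Perm α) y else y
  have hτ₀ : Function.Involutive τ₀ := by
    intro y
    by_cases hy : y ∈ Ω
    · have h1 : (g : Perm α) y ∈ Ω := hr_mem g y hy
      simp only [τ₀, hy, h1, if_true]
      exact hgg y hy
    · simp only [τ₀, hy, if_false]
  refine ⟨hτ₀.toPerm, fun x => hτ₀ x, ?_, ?_, ?_⟩
  · intro y hy
    change τ₀ y ∈ Ω ∧ τ₀ y ≠ y
    simp only [τ₀, hy, if_true]
    exact ⟨hr_mem g y hy, hfp y hy⟩
  · intro y hy
    change τ₀ y = y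
    simp only [τ₀, hy, if_false]
  · intro r hr x
    change r (τ₀ x) = τ₀ (r x)
    by_cases hx : x ∈ Ω
    · have h1 : r x ∈ Ω := hr_mem ⟨r, hr⟩ x hx
      simp only [τ₀, hx, h1, if_true]
      exact hcomm ⟨r, hr⟩ x hx
    · have h1 : r x ∉ Ω := by
        intro h
        apply hx
        have := hr_mem (⟨r, hr⟩⁻¹ : R) _ h
        simpa using this
      simp only [τ₀, hx, h1, if_false]

/-- The transitive case: an invariant pairing together with an invariant partition into
blocks of size four. -/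
theorem split_of_transitive (R : Subgroup (Perm α)) (hR : IsPGroup 2 R)
    (htr : ∀ x y : α, y ∈ MulAction.orbit R x) (h8 : 8 ≤ Fintype.card α) : Split R := by
  classical
  have hne : Nonempty α := by
    apply Fintype.card_pos_iff.mp
    omega
  obtain ⟨x₀⟩ := hne
  obtain ⟨y₀, hy₀⟩ : ∃ y₀ : α, y₀ ≠ x₀ := by
    have : Nontrivial α := Fintype.one_lt_card_iff_nontrivial.mp (by omega)
    exact exists_ne x₀
  have hmove : ∃ r ∈ R, r x₀ ≠ x₀ := by
    obtain ⟨r, hr⟩ := htr x₀ y₀
    refine ⟨r, r.2, ?_⟩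
    change (r : Perm α) x₀ = y₀ at hr
    rw [hr]
    exact hy₀
  obtain ⟨τ, hτ2, hτΩ, -, hτR⟩ := pair_on_orbit R hR x₀ hmove
  have hτfp : ∀ x, τ x ≠ x := fun x => (hτΩ x (htr x₀ x)).2
  -- the kernel on the pairs
  let K : Subgroup R :=
    { carrier := {r | ∀ y, (r : Perm α) y = y ∨ (r : Perm α) y = τ y}
      mul_mem' := by
        intro a b ha hb y
        change (a : Perm α) ((b : Perm α) y) = y ∨ (a : Perm α) ((b : Perm α) y) = τ y
        rcases hb y with h | h
        · rw [h]; exact ha y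
        · rw [h]
          rcases ha (τ y) with h' | h'
          · right; exact h'
          · left; rw [h', hτ2]
      one_mem' := fun y => Or.inl rfl
      inv_mem' := by
        intro a ha y
        change ((a : Perm α))⁻¹ y = y ∨ ((a : Perm α))⁻¹ y = τ y
        rcases ha (((a : Perm α))⁻¹ y) with h | h
        · left
          have h2 : (a : Perm α) (((a : Perm α))⁻¹ y) = y := by simp
          rw [h2] at h
          exact h.symm
        · right
          have h2 : (a : Perm α) (((a : Perm α))⁻¹ y) = y := by simp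
          rw [h2] at h
          have h3 := congrArg τ h
          rw [hτ2] at h3
          exact h3.symm }
  have hKn : K.Normal := by
    constructor
    intro a ha h y
    change (h : Perm α) ((a : Perm α) (((h : Perm α))⁻¹ y)) = y ∨
      (h : Perm α) ((a : Perm α) (((h : Perm α))⁻¹ y)) = τ y
    have h2 : (h : Perm α) (((h : Perm α))⁻¹ y) = y := by simp
    rcases ha (((h : Perm α))⁻¹ y) with h1 | h1
    · left; rw [h1, h2]
    · right; rw [h1, hτR _ h.2, h2]
  -- `K` is proper
  have hcard3 : ∃ z : α, z ≠ x₀ ∧ z ≠ τ x₀ := by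
    by_contra hcon
    push Not at hcon
    have hsub : (Finset.univ : Finset α) ⊆ {x₀, τ x₀} := by
      intro z _
      by_cases h : z = x₀
      · simp [h]
      · simp [hcon z h]
    have := Finset.card_le_card hsub
    rw [Finset.card_univ] at this
    have h2 : ({x₀, τ x₀} : Finset α).card ≤ 2 := Finset.card_le_two
    omega
  have hKtop : K ≠ ⊤ := by
    obtain ⟨z, hz1, hz2⟩ := hcard3
    obtain ⟨r, hr⟩ := htr x₀ z
    intro h
    have hm : r ∈ K := by rw [h]; trivial
    rcases hm x₀ with h1 | h1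
    · exact hz1 (hr.symm.trans h1)
    · exact hz2 (hr.symm.trans h1)
  obtain ⟨g, hg1, hg2, hg3⟩ := central_mod hR K hKtop
  set γ : Perm α := (g : Perm α) with hγ
  have hγτ : ∀ x, γ (τ x) = τ (γ x) := hτR _ g.2
  have hγγ : ∀ x, γ (γ x) = x ∨ γ (γ x) = τ x := by
    intro x
    have := hg2 x
    rw [pow_two] at this
    exact this
  -- commutation up to `K`
  have hcomm : ∀ (h : R) (x : α), (h : Perm α) (γ x) = γ ((h : Perm α) x) ∨
      (h : Perm α) (γ x) = τ (γ ((h : Perm α) x)) := by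
    intro h x
    have h3 := hg3 h (γ ((h : Perm α) x))
    change (h : Perm α) (γ (((h : Perm α))⁻¹ (γ⁻¹ (γ ((h : Perm α) x))))) = _ ∨
      (h : Perm α) (γ (((h : Perm α))⁻¹ (γ⁻¹ (γ ((h : Perm α) x))))) = _ at h3
    have e1 : γ⁻¹ (γ ((h : Perm α) x)) = (h : Perm α) x := by simp
    have e2 : ((h : Perm α))⁻¹ ((h : Perm α) x) = x := by simp
    rw [e1, e2] at h3
    exact h3
  -- `γ` moves no point into its pair
  have hγ1 : ∀ x, γ x ≠ x ∧ γ x ≠ τ x := by
    by_contra hcon
    push Not at hcon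
    obtain ⟨x, hx⟩ := hcon
    have hx' : γ x = x ∨ γ x = τ x := by
      by_cases h : γ x = x
      · exact Or.inl h
      · exact Or.inr (hx h)
    apply hg1
    intro z
    obtain ⟨h, hh⟩ := htr x z
    change (h : Perm α) x = z at hh
    subst hh
    change γ ((h : Perm α) x) = _ ∨ γ ((h : Perm α) x) = _
    rcases hcomm h x with h1 | h1
    · rcases hx' with h2 | h2
      · rw [h2] at h1; left; exact h1.symm
      · rw [h2, hτR _ h.2] at h1; right; exact h1.symm
    · rcases hx' with h2 | h2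
      · rw [h2] at h1
        right
        have h3 := congrArg τ h1
        rw [hτ2] at h3
        exact h3.symm
      · rw [h2, hτR _ h.2] at h1
        left
        exact (τ.injective h1).symm
  -- the block relation
  let ρ : α → α → Prop := fun x y => y = x ∨ y = τ x ∨ y = γ x ∨ y = τ (γ x)
  have ρ_τ : ∀ {x y}, ρ x y → ρ x (τ y) := by
    rintro x y (rfl | rfl | rfl | rfl)
    · exact Or.inr (Or.inl rfl)
    · exact Or.inl (hτ2 _)
    · exact Or.inr (Or.inr (Or.inr rfl))
    · exact Or.inr (Or.inr (Or.inl (hτ2 _)))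
  have ρ_γ : ∀ {x y}, ρ x y → ρ x (γ y) := by
    rintro x y (rfl | rfl | rfl | rfl)
    · exact Or.inr (Or.inr (Or.inl rfl))
    · exact Or.inr (Or.inr (Or.inr (hγτ _)))
    · rcases hγγ x with h | h
      · exact Or.inl h
      · exact Or.inr (Or.inl h)
    · rw [hγτ]
      rcases hγγ x with h | h
      · rw [h]; exact Or.inr (Or.inl rfl)
      · rw [h, hτ2]; exact Or.inl rfl
  have ρ_refl : ∀ x, ρ x x := fun x => Or.inl rfl
  have ρ_trans : ∀ {x y z}, ρ x y → ρ y z → ρ x z := by
    rintro x y z hxy (rfl | rfl | rfl | rfl)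
    · exact hxy
    · exact ρ_τ hxy
    · exact ρ_γ hxy
    · exact ρ_τ (ρ_γ hxy)
  have ρ_symm : ∀ {x y}, ρ x y → ρ y x := by
    rintro x y (rfl | rfl | rfl | rfl)
    · exact ρ_refl _
    · exact Or.inr (Or.inl (hτ2 x).symm)
    · rcases hγγ x with h | h
      · exact Or.inr (Or.inr (Or.inl h.symm))
      · refine Or.inr (Or.inr (Or.inr ?_))
        rw [h, hτ2]
    · have e : γ (τ (γ x)) = τ (γ (γ x)) := hγτ _
      rcases hγγ x with h | h
      · refine Or.inr (Or.inr (Or.inr ?_))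
        rw [e, h]
        exact (hτ2 x).symm
      · refine Or.inr (Or.inr (Or.inl ?_))
        rw [e, h]
        exact (hτ2 x).symm
  -- the block subgroup
  let H₁ : Subgroup (Perm α) :=
    { carrier := {p | ∀ x y, ρ (p x) (p y) ↔ ρ x y}
      mul_mem' := by
        intro a b ha hb x y
        rw [Perm.mul_apply, Perm.mul_apply, ha, hb]
      one_mem' := fun x y => Iff.rfl
      inv_mem' := by
        intro a ha x y
        have h := ha (a⁻¹ x) (a⁻¹ y)
        have h1 : a (a⁻¹ x) = x := by simp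
        have h2 : a (a⁻¹ y) = y := by simp
        rw [h1, h2] at h
        exact h.symm }
  have hRρ : ∀ r : R, ∀ x y, ρ x y → ρ ((r : Perm α) x) ((r : Perm α) y) := by
    rintro r x y (rfl | rfl | rfl | rfl)
    · exact ρ_refl _
    · rw [hτR _ r.2]; exact ρ_τ (ρ_refl _)
    · rcases hcomm r x with h | h
      · rw [h]; exact ρ_γ (ρ_refl _)
      · rw [h]; exact ρ_τ (ρ_γ (ρ_refl _))
    · rw [hτR _ r.2]
      rcases hcomm r x with h | h
      · rw [h]; exact ρ_τ (ρ_γ (ρ_refl _))
      · rw [h]; exact ρ_τ (ρ_τ (ρ_γ (ρ_refl _)))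
  have hRH₁ : R ≤ H₁ := by
    intro r hr x y
    constructor
    · intro h
      have := hRρ (⟨r, hr⟩⁻¹) _ _ h
      simpa using this
    · exact hRρ ⟨r, hr⟩ x y
  -- the block
  set Y : Finset α := Finset.univ.filter (fun y => ρ x₀ y) with hYdef
  have hYmem : ∀ y, y ∈ Y ↔ ρ x₀ y := by
    intro y
    simp [hYdef]
  have hYρ : ∀ x, x ∈ Y → ∀ y, ρ x y ↔ y ∈ Y := by
    intro x hx y
    rw [hYmem] at hx ⊢
    exact ⟨fun h => ρ_trans hx h, fun h => ρ_trans (ρ_symm hx) h⟩
  have hYout : ∀ x, x ∉ Y → ∀ y, y ∈ Y → ¬ ρ x y := by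
    intro x hx y hy h
    apply hx
    rw [hYmem] at hy ⊢
    exact ρ_trans hy (ρ_symm h)
  have hc : ∀ u ∈ Y, ∀ v ∈ Y, ∀ w ∈ Y, u ≠ v → u ≠ w → v ≠ w → c3 u v w ∈ H₁ := by
    intro u hu v hv w hw huv huw hvw x y
    have hfix := c3_fix_off hu hv hw
    by_cases hx : x ∈ Y
    · have hx' : c3 u v w x ∈ Y := mem_of_fix hfix hx
      rw [hYρ _ hx', hYρ _ hx]
      constructor
      · intro h
        by_contra hn
        rw [hfix y hn] at h
        exact hn h
      · exact fun h => mem_of_fix hfix h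
    · rw [hfix x hx]
      by_cases hy : y ∈ Y
      · have hy' : c3 u v w y ∈ Y := mem_of_fix hfix hy
        exact ⟨fun h => absurd h (hYout x hx _ hy'), fun h => absurd h (hYout x hx _ hy)⟩
      · rw [hfix y hy]
  have hYsub : Y ⊆ {x₀, τ x₀, γ x₀, τ (γ x₀)} := by
    intro y hy
    rw [hYmem] at hy
    simpa using hy
  have hYcard : Y.card = 4 := by
    have hsub2 : ({x₀, τ x₀, γ x₀, τ (γ x₀)} : Finset α) ⊆ Y := by
      intro y hy
      rw [hYmem]
      simpa using hy
    have h1 : Y = {x₀, τ x₀, γ x₀, τ (γ x₀)} := Finset.Subset.antisymm hYsub hsub2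
    rw [h1, Finset.card_insert_of_notMem, Finset.card_insert_of_notMem, Finset.card_insert_of_notMem,
      Finset.card_singleton]
    · simpa using (hτfp (γ x₀)).symm
    · simp only [Finset.mem_insert, Finset.mem_singleton, not_or]
      refine ⟨(hγ1 x₀).2.symm, fun h => (hγ1 x₀).1 (τ.injective h).symm⟩
    · simp only [Finset.mem_insert, Finset.mem_singleton, not_or]
      refine ⟨(hτfp x₀).symm, (hγ1 x₀).1.symm, ?_⟩
      intro h
      apply (hγ1 x₀).2
      have h3 := congrArg τ h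
      rw [hτ2] at h3
      exact h3.symm
  have hout : ∃ y, y ∉ Y := by
    by_contra hcon
    push Not at hcon
    have : Y = Finset.univ := Finset.eq_univ_of_forall hcon
    rw [this, Finset.card_univ] at hYcard
    omega
  obtain ⟨z, hz⟩ := hout
  have hYτ : ∀ x, τ x ∈ Y ↔ x ∈ Y := by
    intro x
    rw [hYmem, hYmem]
    constructor
    · intro h
      have := ρ_τ h
      rwa [hτ2] at this
    · exact ρ_τ
  refine split_of_tau R H₁ Y τ hτ2 hτfp hYτ hRH₁ hτR hc (by omega) ⟨z, hz⟩ ?_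
  -- `H₁` does not contain the alternating group
  intro h
  have hx₀ : x₀ ∈ Y := by rw [hYmem]; exact ρ_refl _
  have hτx₀ : τ x₀ ∈ Y := (hYτ x₀).mpr hx₀
  have hzx : x₀ ≠ z := by rintro rfl; exact hz hx₀
  have hzτ : τ x₀ ≠ z := by rintro rfl; exact hz hτx₀
  obtain ⟨w, hw1, hw2, hw3⟩ : ∃ w : α, w ≠ x₀ ∧ w ≠ z ∧ w ≠ τ x₀ := by
    by_contra hcon
    push Not at hcon
    have hsub : (Finset.univ : Finset α) ⊆ {x₀, z, τ x₀} := by
      intro t _
      by_cases h1 : t = x₀
      · simp [h1]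
      by_cases h2 : t = z
      · simp [h2]
      · simp [hcon t h1 h2]
    have := Finset.card_le_card hsub
    rw [Finset.card_univ] at this
    have h2 : ({x₀, z, τ x₀} : Finset α).card ≤ 3 := Finset.card_le_three
    omega
  have hm := h (c3_mem_alt hzx (Ne.symm hw1))
  have h1 := (hm x₀ (τ x₀)).mpr (ρ_τ (ρ_refl _))
  rw [c3_left hzx (Ne.symm hw1) (Ne.symm hw2), c3_fix (hτfp x₀) hzτ (Ne.symm hw3)] at h1
  exact hYout z hz _ hτx₀ h1

end CfsgLib.H9.SylPair
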