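import Mathlib
import Cfsg.Agent.Lib.H9.SylOrb
import Cfsg.Agent.Lib.H9.SylPair

/-! Case analysis on the orbits of a large 2-subgroup of a symmetric group. -/

namespace CfsgLib.H9.SylCase

open Equiv Equiv.Perm CfsgLib.H9.AltGen CfsgLib.H9.SylSplit CfsgLib.H9.SylPair CfsgLib.H9.SylOrb

set_option linter.unusedSectionVars false
set_option linter.unusedVariables false

variable {α : Type*} [Fintype α] [DecidableEq α] (R : Subgroup (Perm α))

/-- An orbit as a finset. -/
noncomputable def orb (q : MulAction.orbitRel.Quotient R α) : Finset α :=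
  Finset.univ.filter (fun a => f R a = q)

lemma mem_orb {q : MulAction.orbitRel.Quotient R α} {a : α} : a ∈ orb R q ↔ f R a = q := by
  simp [orb]

lemma orb_card (q : MulAction.orbitRel.Quotient R α) : (orb R q).card = sz R q := by
  rw [orb, sz, Nat.card_eq_fintype_card, Fintype.card_subtype]

lemma f_smul {r : Perm α} (hr : r ∈ R) (x : α) : f R (r x) = f R x := le_young R hr x

lemma le_stab (q : MulAction.orbitRel.Quotient R α) : R ≤ stabSet (orb R q) := by
  intro r hr x
  rw [mem_orb, mem_orb, f_smul R hr]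

lemma orb_disj {q q' : MulAction.orbitRel.Quotient R α} (h : q ≠ q') :
    Disjoint (orb R q) (orb R q') := by
  rw [Finset.disjoint_left]
  intro a ha hb
  rw [mem_orb] at ha hb
  exact h (ha.symm.trans hb)

lemma not_alt_le_stab {Y : Finset α} {u v w : α} (hu : u ∈ Y) (hv : v ∈ Y) (hw : w ∉ Y)
    (huv : u ≠ v) : ¬ alternatingGroup α ≤ stabSet Y := by
  intro h
  have huw : u ≠ w := by
    rintro rfl
    exact hw hu
  have hvw : v ≠ w := by
    rintro rfl
    exact hw hv
  have h1 := h (c3_mem_alt huv huw) v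
  rw [c3_mid huv huw hvw] at h1
  exact hw (h1.mpr hv)

/-- Three orbits, two of them non-trivial. -/
lemma split3 {q₁ q₂ q₃ : MulAction.orbitRel.Quotient R α} (h12 : q₁ ≠ q₂) (h13 : q₁ ≠ q₃)
    (h23 : q₂ ≠ q₃) (h1 : 2 ≤ sz R q₁) (h3 : 2 ≤ sz R q₃) : Split R := by
  rw [← orb_card] at h1 h3
  obtain ⟨a, ha, a', ha', haa'⟩ := Finset.one_lt_card.mp (by omega : 1 < (orb R q₁).card)
  obtain ⟨c₁, hc₁, c₂, hc₂, hc⟩ := Finset.one_lt_card.mp (by omega : 1 < (orb R q₃).card)
  obtain ⟨b, hb⟩ := f_surj R q₂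
  have hbm : b ∈ orb R q₂ := (mem_orb R).mpr hb
  have key : ∀ c ∈ orb R q₃, c ∉ orb R q₁ ∧ c ∉ orb R q₂ := by
    intro c hc
    exact ⟨fun h => Finset.disjoint_left.mp (orb_disj R h13) h hc,
      fun h => Finset.disjoint_left.mp (orb_disj R h23) h hc⟩
  exact split_of_three R (orb R q₁) (orb R q₂) (le_stab R _) (le_stab R _) (orb_disj R h12)
    ha ha' hbm haa' (key c₁ hc₁).1 (key c₁ hc₁).2 (key c₂ hc₂).1 (key c₂ hc₂).2 hc

lemma exists_move {q : MulAction.orbitRel.Quotient R α} (h : 2 ≤ sz R q) {x : α} (hx : f R x = q) :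
    ∃ r ∈ R, r x ≠ x := by
  rw [← orb_card] at h
  obtain ⟨a, ha, a', ha', haa'⟩ := Finset.one_lt_card.mp (by omega : 1 < (orb R q).card)
  by_contra hn
  push Not at hn
  have h1 : ∀ y ∈ orb R q, y = x := by
    intro y hy
    rw [mem_orb, ← hx, f_eq] at hy
    obtain ⟨⟨r, hr⟩, e⟩ := hy
    rw [← e]
    exact hn r hr
  exact haa' ((h1 a ha).trans (h1 a' ha').symm)

/-- Two non-trivial orbits. -/
lemma split2 (hR : IsPGroup 2 R) {q₁ q₂ : MulAction.orbitRel.Quotient R α} (h12 : q₁ ≠ q₂)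
    (hall : ∀ q, q = q₁ ∨ q = q₂) (h1 : 4 ≤ sz R q₁) (h2 : 2 ≤ sz R q₂) : Split R := by
  obtain ⟨x₁, hx₁⟩ := f_surj R q₁
  obtain ⟨x₂, hx₂⟩ := f_surj R q₂
  have hm₁ : ∀ y, y ∈ MulAction.orbit R x₁ ↔ f R y = q₁ := by
    intro y
    rw [← hx₁, f_eq]
  have hm₂ : ∀ y, y ∈ MulAction.orbit R x₂ ↔ f R y = q₂ := by
    intro y
    rw [← hx₂, f_eq]
  obtain ⟨τ₁, h12', hΩ₁, hO₁, hc₁⟩ := pair_on_orbit R hR x₁ (exists_move R (by omega) hx₁)
  obtain ⟨τ₂, h22', hΩ₂, hO₂, hc₂⟩ := pair_on_orbit R hR x₂ (exists_move R h2 hx₂)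
  have ho : ∀ y, f R y = q₁ ∨ f R y = q₂ := fun y => hall _
  have t₁ : ∀ y, f R y = q₁ → f R (τ₁ y) = q₁ ∧ τ₁ y ≠ y ∧ τ₂ y = y := by
    intro y hy
    obtain ⟨a, b⟩ := hΩ₁ y ((hm₁ y).mpr hy)
    refine ⟨(hm₁ _).mp a, b, hO₂ y ?_⟩
    rw [hm₂, hy]
    exact h12
  have t₂ : ∀ y, f R y = q₂ → f R (τ₂ y) = q₂ ∧ τ₂ y ≠ y ∧ τ₁ y = y := by
    intro y hy
    obtain ⟨a, b⟩ := hΩ₂ y ((hm₂ y).mpr hy)
    refine ⟨(hm₂ _).mp a, b, hO₁ y ?_⟩
    rw [hm₁, hy]
    exact h12.symm
  have hc := orb_card R q₁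
  have hY4 : 4 ≤ (orb R q₁).card := by omega
  obtain ⟨u, hu, v, hv, huv⟩ := Finset.one_lt_card.mp (by omega : 1 < (orb R q₁).card)
  have hx₂n : x₂ ∉ orb R q₁ := by
    rw [mem_orb, hx₂]
    exact h12.symm
  apply split_of_tau R (stabSet (orb R q₁)) (orb R q₁) (τ₁ * τ₂) ?_ ?_ ?_ (le_stab R _) ?_ ?_ hY4
    ⟨x₂, hx₂n⟩ (not_alt_le_stab hu hv hx₂n huv)
  · intro x
    rcases ho x with h | h
    · obtain ⟨a, b, c⟩ := t₁ x h
      simp only [Perm.mul_apply]
      rw [c, (t₁ _ a).2.2, h12']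
    · obtain ⟨a, b, c⟩ := t₂ x h
      simp only [Perm.mul_apply]
      rw [(t₂ _ a).2.2, h22', c]
  · intro x
    rcases ho x with h | h
    · obtain ⟨a, b, c⟩ := t₁ x h
      simp only [Perm.mul_apply]
      rw [c]
      exact b
    · obtain ⟨a, b, c⟩ := t₂ x h
      simp only [Perm.mul_apply]
      rw [(t₂ _ a).2.2]
      exact b
  · intro x
    rw [mem_orb, mem_orb]
    rcases ho x with h | h
    · obtain ⟨a, b, c⟩ := t₁ x h
      simp only [Perm.mul_apply]
      rw [c, a, h]
    · obtain ⟨a, b, c⟩ := t₂ x h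
      simp only [Perm.mul_apply]
      rw [(t₂ _ a).2.2, a, h]
  · intro r hr x
    simp only [Perm.mul_apply]
    rw [hc₁ r hr, hc₂ r hr]
  · intro u hu v hv w hw _ _ _
    exact mem_stabSet_of_fix_off (c3_fix_off hu hv hw)

/-- The main case analysis. -/
theorem split_of_big (hR : IsPGroup 2 R) (hV : V (Fintype.card α) ≤ ∑ q, V (sz R q))
    (h5 : 5 ≤ Fintype.card α) (hform : ¬ ∃ k, 2 ≤ k ∧ Fintype.card α = 2 ^ k + 1) : Split R := by
  have hsum := sum_sz R
  have hne : ∀ {a b : MulAction.orbitRel.Quotient R α}, a ≠ b → sz R a ≠ sz R b :=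
    fun h => sz_ne R hR hV h
  by_cases h3 : 2 < Fintype.card (MulAction.orbitRel.Quotient R α)
  · obtain ⟨a, b, c, hab, hac, hbc⟩ := Fintype.two_lt_card_iff.mp h3
    have pa := sz_pos R a
    have pb := sz_pos R b
    have pc := sz_pos R c
    have nab := hne hab
    have nac := hne hac
    have nbc := hne hbc
    by_cases ha1 : sz R a = 1
    · exact split3 R hab.symm hbc hac (by omega) (by omega)
    · by_cases hb1 : sz R b = 1
      · exact split3 R hab hac hbc (by omega) (by omega)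
      · exact split3 R hac hab hbc.symm (by omega) (by omega)
  by_cases h2 : Fintype.card (MulAction.orbitRel.Quotient R α) = 2
  · obtain ⟨a, b, hab, hu⟩ := Finset.card_eq_two.mp ((Finset.card_univ).trans h2)
    have hu := hu.symm
    have hall : ∀ q, q = a ∨ q = b := by
      intro q
      have : q ∈ ({a, b} : Finset _) := by
        rw [hu]
        exact Finset.mem_univ q
      simpa using this
    have hs : Fintype.card α = sz R a + sz R b := by
      rw [← hsum, ← hu, Finset.sum_pair hab]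
    have nab := hne hab
    obtain ⟨ca, hca⟩ := sz_pow R hR a
    obtain ⟨cb, hcb⟩ := sz_pow R hR b
    have main : ∀ {p q : MulAction.orbitRel.Quotient R α} {cp cq : ℕ}, p ≠ q →
        (∀ z, z = p ∨ z = q) → sz R p = 2 ^ cp → sz R q = 2 ^ cq → cq < cp →
        Fintype.card α = sz R p + sz R q → Split R := by
      intro p q cp cq hpq hz e1 e2 hlt hsum'
      by_cases hq0 : cq = 0
      · subst hq0
        exfalso
        apply hform
        refine ⟨cp, ?_, by rw [hsum', e1, e2]; simp⟩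
        by_contra hcp
        have : cp = 1 := by omega
        subst this
        rw [e1, e2] at hsum'
        omega
      · have h4 : 4 ≤ sz R p := by
          rw [e1]
          calc 4 = 2 ^ 2 := rfl
            _ ≤ 2 ^ cp := Nat.pow_le_pow_right (by norm_num) (by omega)
        have h2' : 2 ≤ sz R q := by
          rw [e2]
          calc 2 = 2 ^ 1 := rfl
            _ ≤ 2 ^ cq := Nat.pow_le_pow_right (by norm_num) (by omega)
        exact split2 R hR hpq hz h4 h2'
    rcases lt_trichotomy ca cb with hl | hl | hl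
    · exact main hab.symm (fun z => (hall z).symm) hcb hca hl (by omega)
    · exfalso
      apply nab
      rw [hca, hcb, hl]
    · exact main hab hall hca hcb hl hs
  · -- transitive
    have hnon : Nonempty α := Fintype.card_pos_iff.mp (by omega)
    obtain ⟨x₀⟩ := hnon
    have h1 : Fintype.card (MulAction.orbitRel.Quotient R α) ≤ 1 := by
      have hpos : 0 < Fintype.card (MulAction.orbitRel.Quotient R α) :=
        Fintype.card_pos_iff.mpr ⟨f R x₀⟩
      omega
    have hsub : Subsingleton (MulAction.orbitRel.Quotient R α) :=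
      Fintype.card_le_one_iff_subsingleton.mp h1
    have hsz : sz R (f R x₀) = Fintype.card α := by
      rw [← hsum]
      rw [Finset.sum_eq_single (f R x₀)]
      · intro b _ hb
        exact absurd (Subsingleton.elim _ _) hb
      · intro h
        exact absurd (Finset.mem_univ _) h
    obtain ⟨c, hc⟩ := sz_pow R hR (f R x₀)
    rw [hsz] at hc
    have h8 : 8 ≤ Fintype.card α := by
      rw [hc] at h5 ⊢
      have hc3 : 3 ≤ c := by
        by_contra hlt
        have : c ≤ 2 := by omega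
        have : 2 ^ c ≤ 2 ^ 2 := Nat.pow_le_pow_right (by norm_num) this
        omega
      calc 8 = 2 ^ 3 := rfl
        _ ≤ 2 ^ c := Nat.pow_le_pow_right (by norm_num) hc3
    apply split_of_transitive R hR _ h8
    intro x y
    rw [← f_eq]
    exact Subsingleton.elim _ _

/-- The structure when the degree is one more than a power of two. -/
theorem fix_of_big (hR : IsPGroup 2 R) (hV : V (Fintype.card α) ≤ ∑ q, V (sz R q))
    {k : ℕ} (hk : 2 ≤ k) (hn : Fintype.card α = 2 ^ k + 1) :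
    ∃ x, (∀ r ∈ R, r x = x) ∧ ∀ y z, y ≠ x → z ≠ x → ∃ r ∈ R, r y = z := by
  have h1 := V_add_card_le R hR hV
  have h2 : V (Fintype.card α) ≥ 2 ^ k - 1 := by
    rw [hn]
    have := V_add (2 ^ k) 1
    rw [V_pow] at this
    omega
  have hkp : 4 ≤ 2 ^ k := by
    calc 4 = 2 ^ 2 := rfl
      _ ≤ 2 ^ k := Nat.pow_le_pow_right (by norm_num) hk
  have h3 : Fintype.card (MulAction.orbitRel.Quotient R α) ≤ 2 := by omega
  -- an odd orbit
  obtain ⟨q, hq⟩ : ∃ q, sz R q = 1 := by
    by_contra hn'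
    push Not at hn'
    have heven : ∀ q, Even (sz R q) := by
      intro q
      obtain ⟨c, hc⟩ := sz_pow R hR q
      have hc0 : c ≠ 0 := by
        rintro rfl
        exact hn' q (by simpa using hc)
      rw [hc]
      exact (Nat.even_pow.mpr ⟨even_two, hc0⟩)
    have h4 : Even (∑ q, sz R q) := Finset.even_sum _ (fun q _ => heven q)
    rw [sum_sz, hn] at h4
    have h5 : Even (2 ^ k) := Nat.even_pow.mpr ⟨even_two, by omega⟩
    have := (Nat.even_add_one).mp h4
    exact this h5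
  obtain ⟨x, hx⟩ := f_surj R q
  have huniq : ∀ y, f R y = q → y = x := by
    intro y hy
    have hc : (orb R q).card = 1 := by rw [orb_card, hq]
    obtain ⟨a, ha⟩ := Finset.card_eq_one.mp hc
    have h5 : y ∈ orb R q := (mem_orb R).mpr hy
    have h6 : x ∈ orb R q := (mem_orb R).mpr hx
    rw [ha, Finset.mem_singleton] at h5 h6
    rw [h5, h6]
  refine ⟨x, ?_, ?_⟩
  · intro r hr
    apply huniq
    rw [f_smul R hr, hx]
  · intro y z hy hz
    by_contra hno
    push Not at hno
    have h5 : f R y ≠ f R z := by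
      intro e
      have : z ∈ MulAction.orbit R y := (f_eq R).mp e.symm
      obtain ⟨⟨r, hr⟩, e2⟩ := this
      exact hno r hr e2
    have h6 : f R y ≠ q := fun e => hy (huniq y e)
    have h7 : f R z ≠ q := fun e => hz (huniq z e)
    have : 2 < Fintype.card (MulAction.orbitRel.Quotient R α) :=
      Fintype.two_lt_card_iff.mpr ⟨f R y, f R z, q, h5, h6, h7⟩
    omega

end CfsgLib.H9.SylCase
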