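import Mathlib

/-! Membership in conjugates of Sylow subgroups. -/

set_option autoImplicit false

namespace CfsgLib.H9

variable {G : Type*} [Group G]

theorem mem_smul_sylow {p : ℕ} (g x : G) (R : Sylow p G) :
    x ∈ ((g • R : Sylow p G) : Subgroup G) ↔ g⁻¹ * x * g ∈ (R : Subgroup G) := by
  rw [Sylow.coe_subgroup_smul, Subgroup.mem_pointwise_smul_iff_inv_smul_mem]
  simp [MulAut.smul_def, MulAut.conj_apply]

end CfsgLib.H9
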