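import Mathlib
import Cfsg.Agent.Lib.H9.SylPair
import Cfsg.Agent.Lib.H9.SylowConj

/-! Overgroups of a 2-subgroup with one fixed point, transitive on the rest. -/

namespace CfsgLib.H9.SylUp

open Equiv Equiv.Perm MulAction

set_option linter.unusedSectionVars false
set_option linter.unusedVariables false

variable {α : Type*} [Fintype α] [DecidableEq α]

/-- Moving the fixed point gives two-transitivity. -/
theorem prim_of (M R₀ : Subgroup (Perm α)) (hle : R₀ ≤ M) (x : α)
    (htr : ∀ y z, y ≠ x → z ≠ x → ∃ r ∈ R₀, r y = z) (hfix : ∀ r ∈ R₀, r x = x)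
    {h : Perm α} (hM : h ∈ M) (hx : h x ≠ x) : IsPreprimitive M α := by
  apply isPreprimitive_of_is_two_pretransitive
  rw [is_two_pretransitive_iff]
  have ht : ∀ y, ∃ g ∈ M, g x = y := by
    intro y
    by_cases hy : y = x
    · exact ⟨1, M.one_mem, by simp [hy]⟩
    · obtain ⟨r, hr, e⟩ := htr (h x) y hx hy
      exact ⟨r * h, M.mul_mem (hle hr) hM, e⟩
  intro a b c d hab hcd
  obtain ⟨g₁, hg₁, rfl⟩ := ht a
  obtain ⟨g₂, hg₂, rfl⟩ := ht c
  have hb : g₁⁻¹ b ≠ x := by
    intro e
    apply hab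
    rw [← e]
    simp
  have hd : g₂⁻¹ d ≠ x := by
    intro e
    apply hcd
    rw [← e]
    simp
  obtain ⟨r, hr, e⟩ := htr _ _ hb hd
  refine ⟨⟨g₂ * r * g₁⁻¹, M.mul_mem (M.mul_mem hg₂ (hle hr)) (M.inv_mem hg₁)⟩, ?_, ?_⟩
  · change (g₂ * r * g₁⁻¹) (g₁ x) = g₂ x
    simp [hfix r hr]
  · change (g₂ * r * g₁⁻¹) b = d
    rw [Perm.mul_apply, Perm.mul_apply, e]
    simp

/-- Avoiding a short list of points. -/
lemma avoid (l : List α) (hl : l.length < Fintype.card α) : ∃ p, p ∉ l := by
  by_contra hn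
  push Not at hn
  have h1 : l.toFinset = Finset.univ := Finset.eq_univ_iff_forall.mpr (by simpa using hn)
  have h2 := List.toFinset_card_le l
  rw [h1, Finset.card_univ] at h2
  omega

/-- The commutator of two double transpositions meeting in one point. -/
theorem three_cycle_of_matching (M : Subgroup (Perm α)) (σ : Perm α) (x : α)
    (hσ2 : ∀ y, σ (σ y) = y) (hσx : σ x = x) (hσf : ∀ y, y ≠ x → σ y ≠ y)
    (hd : ∀ u v, u ≠ x → v ≠ x → v ≠ u → v ≠ σ u → swap u (σ u) * swap v (σ v) ∈ M)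
    {h : Perm α} (hM : h ∈ M) (hx : h x ≠ x) (h9 : 9 ≤ Fintype.card α) :
    ∃ c ∈ M, IsThreeCycle c := by
  set s : α → α := fun y => h (σ (h⁻¹ y)) with hs
  have hss : ∀ y, s (s y) = y := by
    intro y
    simp [hs, hσ2]
  have hsfix : s (h x) = h x := by
    simp [hs, hσx]
  have hsf : ∀ y, y ≠ h x → s y ≠ y := by
    intro y hy e
    apply hy
    have h1 : σ (h⁻¹ y) = h⁻¹ y := by
      apply h.injective
      have e3 : h (h⁻¹ y) = y := by simp
      rw [e3]
      exact e
    by_contra hne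
    refine hσf (h⁻¹ y) ?_ h1
    intro e2
    apply hne
    rw [← e2]
    simp
  have hd' : ∀ u v, u ≠ h x → v ≠ h x → v ≠ u → v ≠ s u → swap u (s u) * swap v (s v) ∈ M := by
    intro u v hu hv hvu hvs
    have hu' : h⁻¹ u ≠ x := by
      intro e
      apply hu
      rw [← e]
      simp
    have hv' : h⁻¹ v ≠ x := by
      intro e
      apply hv
      rw [← e]
      simp
    have hvu' : h⁻¹ v ≠ h⁻¹ u := fun e => hvu (h⁻¹.injective e)
    have hvs' : h⁻¹ v ≠ σ (h⁻¹ u) := by
      intro e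
      apply hvs
      change v = h (σ (h⁻¹ u))
      rw [← e]
      simp
    have := M.mul_mem (M.mul_mem hM (hd _ _ hu' hv' hvu' hvs')) (M.inv_mem hM)
    have e : h * (swap (h⁻¹ u) (σ (h⁻¹ u)) * swap (h⁻¹ v) (σ (h⁻¹ v))) * h⁻¹ =
        swap u (s u) * swap v (s v) := by
      have e1 := swap_apply_apply h (h⁻¹ u) (σ (h⁻¹ u))
      have e2 := swap_apply_apply h (h⁻¹ v) (σ (h⁻¹ v))
      have e3 : h (h⁻¹ u) = u := by simp
      have e4 : h (h⁻¹ v) = v := by simp
      rw [e3] at e1
      rw [e4] at e2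
      change swap u (s u) = _ at e1
      change swap v (s v) = _ at e2
      rw [e1, e2]
      group
    rwa [e] at this
  set w := s x with hw
  have hwx : w ≠ x := hsf x (Ne.symm hx)
  have hwhx : w ≠ h x := by
    intro e
    have : s w = s (h x) := by rw [e]
    rw [hw, hss, hsfix] at this
    exact hx this.symm
  set w' := σ w with hw'
  have hw'w : w' ≠ w := hσf w hwx
  have hw'x : w' ≠ x := by
    intro e
    have : σ w' = σ x := by rw [e]
    rw [hw', hσ2, hσx] at this
    exact hwx this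
  obtain ⟨p, hp⟩ := avoid [h x, x, w, w', s w'] (by simp; omega)
  simp only [List.mem_cons, List.not_mem_nil, or_false, not_or] at hp
  obtain ⟨hp1, hp2, hp3, hp4, hp5⟩ := hp
  set p' := s p with hp'
  have hp'p : p' ≠ p := hsf p hp1
  have hp'x : p' ≠ x := by
    intro e
    apply hp3
    rw [hw, ← e, hp', hss]
  have hp'w : p' ≠ w := by
    intro e
    apply hp2
    rw [← hss p, ← hp', e, hw, hss]
  have hp'w' : p' ≠ w' := by
    intro e
    apply hp5
    rw [← e, hp', hss]
  obtain ⟨q, hq⟩ := avoid [x, w, w', p, p', σ p, σ p'] (by simp; omega)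
  simp only [List.mem_cons, List.not_mem_nil, or_false, not_or] at hq
  obtain ⟨hq1, hq2, hq3, hq4, hq5, hq6, hq7⟩ := hq
  set q' := σ q with hq'
  have hq'q : q' ≠ q := hσf q hq1
  have hq'x : q' ≠ x := by
    intro e
    apply hq1
    rw [← hσ2 q, ← hq', e, hσx]
  have hq'w : q' ≠ w := by
    intro e
    apply hq3
    rw [hw', ← e, hq', hσ2]
  have hq'w' : q' ≠ w' := by
    intro e
    apply hq2
    have : σ q' = σ w' := by rw [e]
    rw [hq', hw', hσ2, hσ2] at this
    exact this
  have hq'p : q' ≠ p := by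
    intro e
    apply hq6
    rw [← e, hq', hσ2]
  have hq'p' : q' ≠ p' := by
    intro e
    apply hq7
    rw [← e, hq', hσ2]
  have hg : swap w w' * swap q q' ∈ M := hd w q hwx hq1 hq2 hq3
  have hg' : swap x w * swap p p' ∈ M :=
    hd' x p (Ne.symm hx) hp1 hp2 hp3
  refine ⟨swap x w' * swap x w, ?_, isThreeCycle_swap_mul_swap_same (Ne.symm hw'x) (Ne.symm hwx)
    hw'w⟩
  set g := swap w w' * swap q q' with hgdef
  have gx : g x = x := by
    rw [hgdef, Perm.mul_apply, swap_apply_of_ne_of_ne (Ne.symm hq1) (Ne.symm hq'x),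
      swap_apply_of_ne_of_ne (Ne.symm hwx) (Ne.symm hw'x)]
  have gw : g w = w' := by
    rw [hgdef, Perm.mul_apply, swap_apply_of_ne_of_ne (Ne.symm hq2) (Ne.symm hq'w), swap_apply_left]
  have gp : g p = p := by
    rw [hgdef, Perm.mul_apply, swap_apply_of_ne_of_ne (Ne.symm hq4) (Ne.symm hq'p),
      swap_apply_of_ne_of_ne hp3 hp4]
  have gp' : g p' = p' := by
    have h1 : p' ≠ q := by
      intro e
      exact hq5 e.symm
    have h2 : p' ≠ w := hp'w
    rw [hgdef, Perm.mul_apply, swap_apply_of_ne_of_ne h1 (Ne.symm hq'p'),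
      swap_apply_of_ne_of_ne h2 hp'w']
  have e1 := swap_apply_apply g x w
  have e2 := swap_apply_apply g p p'
  rw [gx, gw] at e1
  rw [gp, gp'] at e2
  have e3 : swap x w' * swap x w = g * (swap x w * swap p p') * g⁻¹ * (swap x w * swap p p')⁻¹ := by
    have : g * (swap x w * swap p p') * g⁻¹ = swap x w' * swap p p' := by
      calc g * (swap x w * swap p p') * g⁻¹
          = (g * swap x w * g⁻¹) * (g * swap p p' * g⁻¹) := by group
        _ = _ := by rw [← e1, ← e2]
    rw [this, mul_inv_rev, swap_inv, swap_inv]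
    have h3 : swap p p' * swap p p' = 1 := swap_mul_self _ _
    calc swap x w' * swap x w = swap x w' * (swap p p' * swap p p') * swap x w := by
          rw [h3, mul_one]
      _ = _ := by group
  rw [e3]
  exact M.mul_mem (M.mul_mem (M.mul_mem hg hg') (M.inv_mem hg)) (M.inv_mem hg')

end CfsgLib.H9.SylUp
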