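import Mathlib
import Cfsg.Agent.Lib.H9.SylCase
import Cfsg.Agent.Lib.H9.SylUp
import Cfsg.Agent.Lib.H9.SimpleTools

/-! Sylow 2-subgroups of symmetric and alternating groups and their unique overgroups. -/

namespace CfsgLib.H9.SylFinal

open Equiv Equiv.Perm MulAction CfsgLib.H9.AltGen CfsgLib.H9.SylOrb CfsgLib.H9.SylSplit
  CfsgLib.H9.SylCase CfsgLib.H9.SylUp

set_option linter.unusedSectionVars false
set_option linter.unusedVariables false

variable {α : Type*} [Fintype α] [DecidableEq α]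

lemma V_eq_fact (k : ℕ) : (k.factorial).factorization 2 = V k := by
  rw [Nat.factorization_def _ Nat.prime_two]
  rfl

lemma perm_card (R : Sylow 2 (Perm α)) : Nat.card R = 2 ^ V (Fintype.card α) := by
  rw [R.card_eq_multiplicity, Nat.card_perm, Nat.card_eq_fintype_card, V_eq_fact]

lemma perm_big (R : Sylow 2 (Perm α)) :
    V (Fintype.card α) ≤ ∑ q, V (sz (R : Subgroup (Perm α)) q) := by
  apply V_le
  rw [← perm_card R]
  exact Subgroup.card_dvd_of_le (le_young _)

/-- The image in the symmetric group. -/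
abbrev img (R : Sylow 2 ↥(alternatingGroup α)) : Subgroup (Perm α) :=
  (R : Subgroup ↥(alternatingGroup α)).map (alternatingGroup α).subtype

lemma img_pgroup (R : Sylow 2 ↥(alternatingGroup α)) : IsPGroup 2 (img R) :=
  R.isPGroup'.map _

lemma alt_card (R : Sylow 2 ↥(alternatingGroup α)) (h2 : 2 ≤ Fintype.card α) :
    2 * Nat.card (img R) = 2 ^ V (Fintype.card α) := by
  have hnt : Nontrivial α := Fintype.one_lt_card_iff_nontrivial.mp (by omega)
  have h1 : Nat.card (img R) = Nat.card R :=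
    Subgroup.card_map_of_injective (Subgroup.subtype_injective _)
  rw [h1, R.card_eq_multiplicity]
  have h3 : 2 * Nat.card ↥(alternatingGroup α) = (Fintype.card α).factorial := by
    rw [two_mul_nat_card_alternatingGroup, Nat.card_perm, Nat.card_eq_fintype_card]
  have h4 : Nat.card ↥(alternatingGroup α) ≠ 0 := Nat.card_pos.ne'
  have h5 : (Fintype.card α).factorial.factorization 2 =
      (Nat.card ↥(alternatingGroup α)).factorization 2 + 1 := by
    rw [← h3, Nat.factorization_mul two_ne_zero h4]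
    simp [Nat.Prime.factorization_self Nat.prime_two, add_comm]
  rw [← V_eq_fact, h5, pow_succ]
  ring

lemma four_le_V {n : ℕ} (h : 4 ≤ n) : 3 ≤ V n := by
  have h1 := V_add 4 (n - 4)
  have h2 : V 4 = 3 := V_pow 2
  rw [Nat.add_sub_cancel' h, h2] at h1
  omega

lemma alt_big (R : Sylow 2 ↥(alternatingGroup α)) (h5 : 5 ≤ Fintype.card α) :
    V (Fintype.card α) ≤ ∑ q, V (sz (img R) q) := by
  apply V_le
  have hc := alt_card R (by omega)
  have h3 := four_le_V (by omega : 4 ≤ Fintype.card α)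
  -- a non-trivial element
  have hnt : ∃ r ∈ img R, r ≠ 1 := by
    by_contra hn
    push Not at hn
    have h4 : img R = ⊥ := (Subgroup.eq_bot_iff_forall _).mpr hn
    rw [h4, Nat.card_eq_one_iff_unique.mpr ⟨inferInstance, inferInstance⟩] at hc
    have : 2 ^ 3 ≤ 2 ^ V (Fintype.card α) := Nat.pow_le_pow_right (by norm_num) h3
    omega
  obtain ⟨r, hr, hr1⟩ := hnt
  obtain ⟨x, hx⟩ : ∃ x, r x ≠ x := by
    by_contra hn
    push Not at hn
    exact hr1 (Equiv.ext hn)
  -- an odd element of the Young subgroup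
  have hsw : swap x (r x) ∈ young (img R) := by
    intro y
    have h6 : f (img R) (r x) = f (img R) x := f_smul _ hr x
    by_cases h1 : y = x
    · subst h1
      rw [swap_apply_left, h6]
    by_cases h2 : y = r x
    · subst h2
      rw [swap_apply_right, h6]
    rw [swap_apply_of_ne_of_ne h1 h2]
  let φ : ↥(young (img R)) →* ℤˣ := (Perm.sign : Perm α →* ℤˣ).comp (young (img R)).subtype
  have hφ : Function.Surjective φ := by
    intro u
    rcases Int.units_eq_one_or u with rfl | rfl
    · exact ⟨1, map_one φ⟩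
    · exact ⟨⟨_, hsw⟩, sign_swap (Ne.symm hx)⟩
  have hrange : Nat.card φ.range = 2 := by
    rw [MonoidHom.range_eq_top.mpr hφ, Nat.card_congr Subgroup.topEquiv.toEquiv,
      Nat.card_eq_fintype_card, Fintype.card_units_int]
  have hker : Nat.card φ.ker * 2 = Nat.card (young (img R)) := by
    rw [← hrange, ← Subgroup.index_ker, Subgroup.card_mul_index]
  have hle : img R ≤ young (img R) := le_young _
  have hsub : (img R).subgroupOf (young (img R)) ≤ φ.ker := by
    intro g hg
    rw [Subgroup.mem_subgroupOf] at hg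
    obtain ⟨a, -, e⟩ := hg
    rw [MonoidHom.mem_ker]
    change Perm.sign (g : Perm α) = 1
    rw [← e]
    exact a.2
  have hd : Nat.card (img R) ∣ Nat.card φ.ker := by
    have := Subgroup.card_dvd_of_le hsub
    rwa [Nat.card_congr (Subgroup.subgroupOfEquivOfLe hle).toEquiv] at this
  rw [← hc, ← hker, mul_comm]
  exact Nat.mul_dvd_mul_right hd 2

/-- A Sylow subgroup of the symmetric group contains a transposition. -/
theorem exists_swap_mem (R : Sylow 2 (Perm α)) (h2 : 2 ≤ Fintype.card α) :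
    ∃ u v : α, u ≠ v ∧ swap u v ∈ (R : Subgroup (Perm α)) := by
  have hnt : Nontrivial α := Fintype.one_lt_card_iff_nontrivial.mp (by omega)
  obtain ⟨a, b, hab⟩ := exists_pair_ne α
  let P : Subgroup (Perm α) := Subgroup.zpowers (swap a b)
  have hP : IsPGroup 2 P := by
    apply IsPGroup.of_card (n := 1)
    rw [Nat.card_zpowers, pow_one]
    exact orderOf_eq_prime (swap_mul_self a b |> fun h => by rw [sq]; exact h)
      (fun h => (swap_eq_one_iff.mp h) |> hab)
  obtain ⟨Q, hQ⟩ := hP.exists_le_sylow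
  obtain ⟨g, hg⟩ := MulAction.exists_smul_eq (Perm α) Q R
  refine ⟨g a, g b, fun e => hab (g.injective e), ?_⟩
  rw [swap_apply_apply, ← hg, CfsgLib.H9.mem_smul_sylow]
  have : swap a b ∈ (Q : Subgroup (Perm α)) := hQ (Subgroup.mem_zpowers _)
  convert this using 1
  group

/-- Two-subgroups are conjugate into a Sylow subgroup. -/
theorem conj_into_sylow {G : Type*} [Group G] [Finite G] (E : Subgroup G) (hE : IsPGroup 2 E)
    (R : Sylow 2 G) : ∃ a : G, ∀ g ∈ E, a * g * a⁻¹ ∈ (R : Subgroup G) := by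
  obtain ⟨Q, hQ⟩ := hE.exists_le_sylow
  obtain ⟨a, ha⟩ := MulAction.exists_smul_eq G Q R
  refine ⟨a, fun g hg => ?_⟩
  rw [← ha, CfsgLib.H9.mem_smul_sylow]
  have : g ∈ (Q : Subgroup G) := hQ hg
  convert this using 1
  group

/-- Even blockwise moves along an involution. -/
def evenPairs (τ : Perm α) (hτ2 : ∀ x, τ (τ x) = x) : Subgroup (Perm α) where
  carrier := {g | g ∈ alternatingGroup α ∧ ∀ y, g y = y ∨ g y = τ y}
  mul_mem' := by
    rintro a b ⟨ha, ha'⟩ ⟨hb, hb'⟩
    refine ⟨(alternatingGroup α).mul_mem ha hb, fun y => ?_⟩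
    rw [Perm.mul_apply]
    rcases hb' y with h | h
    · rw [h]
      exact ha' y
    · rw [h]
      rcases ha' (τ y) with h2 | h2
      · exact Or.inr h2
      · left
        rw [h2, hτ2]
  one_mem' := ⟨(alternatingGroup α).one_mem, fun y => Or.inl rfl⟩
  inv_mem' := by
    rintro a ⟨ha, ha'⟩
    refine ⟨(alternatingGroup α).inv_mem ha, fun y => ?_⟩
    have h1 : a (a⁻¹ y) = y := by simp
    rcases ha' (a⁻¹ y) with h | h
    · left
      rw [h] at h1
      exact h1
    · right
      rw [h] at h1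
      calc a⁻¹ y = τ (τ (a⁻¹ y)) := (hτ2 _).symm
        _ = τ y := by rw [h1]

lemma evenPairs_sq (τ : Perm α) (hτ2 : ∀ x, τ (τ x) = x) {g : Perm α}
    (hg : g ∈ evenPairs τ hτ2) : g ^ 2 = 1 := by
  have hg' := hg.2
  ext y
  rw [sq, Perm.mul_apply, Perm.one_apply]
  rcases hg' y with h | h
  · rw [h, h]
  · rw [h]
    rcases hg' (τ y) with h2 | h2
    · have : τ y = y := by
        apply g.injective
        rw [h2, h]
      rw [h2, this]
    · rw [h2, hτ2]

lemma dbl_mem (τ : Perm α) (hτ2 : ∀ x, τ (τ x) = x) {u v : α} (hu : u ≠ τ u) (hv : v ≠ τ v)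
    (hvu : v ≠ u) (hvτ : v ≠ τ u) : swap u (τ u) * swap v (τ v) ∈ evenPairs τ hτ2 := by
  have htv : τ v ≠ u := by
    intro e
    apply hvτ
    rw [← e, hτ2]
  have htv2 : τ v ≠ τ u := fun e => hvu (τ.injective e)
  refine ⟨?_, fun y => ?_⟩
  · rw [mem_alternatingGroup, Perm.sign_mul, sign_swap hu, sign_swap hv]
    simp
  · rw [Perm.mul_apply]
    by_cases h1 : y = v
    · subst h1
      right
      rw [swap_apply_left, swap_apply_of_ne_of_ne htv htv2]
    by_cases h2 : y = τ v
    · subst h2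
      right
      rw [swap_apply_right, swap_apply_of_ne_of_ne hvu hvτ, hτ2]
    rw [swap_apply_of_ne_of_ne h1 h2]
    by_cases h3 : y = u
    · subst h3
      right
      rw [swap_apply_left]
    by_cases h4 : y = τ u
    · subst h4
      right
      rw [swap_apply_right, hτ2]
    left
    rw [swap_apply_of_ne_of_ne h3 h4]

/-- A matching whose even products lie in the Sylow subgroup. -/
theorem exists_matching (R : Sylow 2 ↥(alternatingGroup α)) (x : α)
    (hfix : ∀ r ∈ img R, r x = x) (htr : ∀ y z, y ≠ x → z ≠ x → ∃ r ∈ img R, r y = z)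
    (h5 : 5 ≤ Fintype.card α) :
    ∃ σ : Perm α, (∀ y, σ (σ y) = y) ∧ σ x = x ∧ (∀ y, y ≠ x → σ y ≠ y) ∧
      ∀ u v, u ≠ x → v ≠ x → v ≠ u → v ≠ σ u → swap u (σ u) * swap v (σ v) ∈ img R := by
  obtain ⟨y₀, hy₀⟩ := avoid [x] (by simp; omega)
  simp only [List.mem_cons, List.not_mem_nil, or_false] at hy₀
  obtain ⟨y₁, hy₁⟩ := avoid [x, y₀] (by simp; omega)
  simp only [List.mem_cons, List.not_mem_nil, or_false, not_or] at hy₁
  have hmove : ∃ r ∈ img R, r y₀ ≠ y₀ := by
    obtain ⟨r, hr, e⟩ := htr y₀ y₁ hy₀ hy₁.1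
    exact ⟨r, hr, by rw [e]; exact hy₁.2⟩
  obtain ⟨τ, hτ2, hτΩ, hτO, -⟩ := CfsgLib.H9.SylPair.pair_on_orbit (img R) (img_pgroup R) y₀ hmove
  have hmem : ∀ y, y ≠ x → y ∈ MulAction.orbit (img R) y₀ := by
    intro y hy
    obtain ⟨r, hr, e⟩ := htr y₀ y hy₀ hy
    exact ⟨⟨r, hr⟩, e⟩
  have hτx : τ x = x := by
    apply hτO
    rintro ⟨⟨r, hr⟩, e⟩
    have e' : r y₀ = x := e
    apply hy₀
    apply r.injective
    rw [e', hfix r hr]
  have hτf : ∀ y, y ≠ x → y ≠ τ y := fun y hy => ((hτΩ y (hmem y hy)).2).symm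
  let E := evenPairs τ hτ2
  let E' : Subgroup ↥(alternatingGroup α) := E.comap (alternatingGroup α).subtype
  have hE' : IsPGroup 2 E' := by
    rintro ⟨g, hg⟩
    refine ⟨1, Subtype.ext (Subtype.ext ?_)⟩
    have h1 : (g : Perm α) ^ 2 = 1 := evenPairs_sq τ hτ2 hg
    simpa using h1
  obtain ⟨a₀, ha₀⟩ := conj_into_sylow E' hE' R
  set a : Perm α := (a₀ : Perm α) with ha
  have hconj : ∀ g ∈ E, a * g * a⁻¹ ∈ img R := by
    intro g hg
    have hgA : g ∈ alternatingGroup α := hg.1
    have := ha₀ ⟨g, hgA⟩ hg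
    exact ⟨_, this, rfl⟩
  have hax : a x = x := by
    by_contra hne
    set z := a⁻¹ x with hz
    have hzx : z ≠ x := by
      intro e
      apply hne
      have : a z = x := by simp [hz]
      rw [← e]
      rw [e] at this
      rw [e]
      exact this
    obtain ⟨v, hv⟩ := avoid [x, z, τ z] (by simp; omega)
    simp only [List.mem_cons, List.not_mem_nil, or_false, not_or] at hv
    have hg := dbl_mem τ hτ2 (hτf z hzx) (hτf v hv.1) hv.2.1 hv.2.2
    have h1 := hfix _ (hconj _ hg)
    rw [Perm.mul_apply, Perm.mul_apply] at h1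
    have haz : a z = x := by simp [hz]
    have h2 : (swap z (τ z) * swap v (τ v)) z = z := by
      apply a.injective
      rw [h1]
      exact haz.symm
    have h3 : z ≠ τ v := by
      intro e
      apply hv.2.2
      rw [e, hτ2]
    rw [Perm.mul_apply, swap_apply_of_ne_of_ne (Ne.symm hv.2.1) h3, swap_apply_left] at h2
    exact hτf z hzx h2.symm
  have hax' : a⁻¹ x = x := by
    rw [Perm.inv_eq_iff_eq]
    exact hax.symm
  refine ⟨a * τ * a⁻¹, ?_, ?_, ?_, ?_⟩
  · intro y
    simp [hτ2]
  · rw [Perm.mul_apply, Perm.mul_apply, hax', hτx, hax]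
  · intro y hy e
    have h1 : τ (a⁻¹ y) = a⁻¹ y := by
      apply a.injective
      simpa using e
    have h2 : a⁻¹ y ≠ x := by
      intro e2
      apply hy
      rw [← hax, ← e2]
      simp
    exact hτf _ h2 h1.symm
  · intro u v hu hv hvu hvσ
    have hu' : a⁻¹ u ≠ x := by
      intro e2
      apply hu
      rw [← hax, ← e2]
      simp
    have hv' : a⁻¹ v ≠ x := by
      intro e2
      apply hv
      rw [← hax, ← e2]
      simp
    have hvu' : a⁻¹ v ≠ a⁻¹ u := fun e => hvu (a⁻¹.injective e)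
    have hvσ' : a⁻¹ v ≠ τ (a⁻¹ u) := by
      intro e
      apply hvσ
      change v = a (τ (a⁻¹ u))
      rw [← e]
      simp
    have h1 := hconj _ (dbl_mem τ hτ2 (hτf _ hu') (hτf _ hv') hvu' hvσ')
    have e1 := swap_apply_apply a (a⁻¹ u) (τ (a⁻¹ u))
    have e2 := swap_apply_apply a (a⁻¹ v) (τ (a⁻¹ v))
    have e3 : a (a⁻¹ u) = u := by simp
    have e4 : a (a⁻¹ v) = v := by simp
    rw [e3] at e1
    rw [e4] at e2
    have e5 : a * (swap (a⁻¹ u) (τ (a⁻¹ u)) * swap (a⁻¹ v) (τ (a⁻¹ v))) * a⁻¹ =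
        swap u ((a * τ * a⁻¹) u) * swap v ((a * τ * a⁻¹) v) := by
      change _ = swap u (a (τ (a⁻¹ u))) * swap v (a (τ (a⁻¹ v)))
      rw [e1, e2]
      group
    rwa [e5] at h1

/-- Large degree: overgroups moving the fixed point contain the alternating group. -/
theorem alt_le_of_moving (R : Sylow 2 ↥(alternatingGroup α)) (x : α)
    (hfix : ∀ r ∈ img R, r x = x) (htr : ∀ y z, y ≠ x → z ≠ x → ∃ r ∈ img R, r y = z)
    (h9 : 9 ≤ Fintype.card α) (M : Subgroup (Perm α)) (hle : img R ≤ M) {h : Perm α}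
    (hM : h ∈ M) (hx : h x ≠ x) : alternatingGroup α ≤ M := by
  obtain ⟨σ, h1, h2, h3, h4⟩ := exists_matching R x hfix htr (by omega)
  obtain ⟨c, hc, hc3⟩ := three_cycle_of_matching M σ x h1 h2 h3
    (fun u v a b c d => hle (h4 u v a b c d)) hM hx h9
  exact alternatingGroup_le_of_isPreprimitive_of_isThreeCycle_mem
    (prim_of M (img R) hle x htr hfix hM hx) hc3 hc

/-- Degree five. -/
theorem five_case (R : Sylow 2 ↥(alternatingGroup (Fin 5))) (x : Fin 5)
    (hfix : ∀ r ∈ img R, r x = x) (htr : ∀ y z, y ≠ x → z ≠ x → ∃ r ∈ img R, r y = z)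
    (M : Subgroup ↥(alternatingGroup (Fin 5))) (hle : (R : Subgroup _) ≤ M)
    {h : ↥(alternatingGroup (Fin 5))} (hM : h ∈ M) (hx : (h : Perm (Fin 5)) x ≠ x) : M = ⊤ := by
  have hA : Nat.card ↥(alternatingGroup (Fin 5)) = 60 := by
    rw [nat_card_alternatingGroup]
    simp
    rfl
  set N : Subgroup (Perm (Fin 5)) := M.map (alternatingGroup (Fin 5)).subtype with hN
  have hcN : Nat.card N = Nat.card M :=
    Subgroup.card_map_of_injective (Subgroup.subtype_injective _)
  have hRN : img R ≤ N := Subgroup.map_mono hle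
  have hprim := prim_of N (img R) hRN x htr hfix (h := (h : Perm (Fin 5))) ⟨h, hM, rfl⟩ hx
  have h5 : 5 ∣ Nat.card M := by
    rw [← hcN]
    have htrans : MulAction.IsPretransitive N (Fin 5) := hprim.toIsPretransitive
    have h1 := CfsgLib.H9.card_orbit_dvd' (H := N) (X := Fin 5) x
    have h2 : Nat.card (MulAction.orbit N x) = 5 := by
      rw [MulAction.orbit_eq_univ]
      simp
    rwa [h2] at h1
  have h4 : 4 ∣ Nat.card M := by
    have h1 := alt_card R (by simp)
    have h2 := four_le_V (n := Fintype.card (Fin 5)) (by simp)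
    have h3 : Nat.card (img R) ∣ Nat.card M := by
      rw [← hcN]
      exact Subgroup.card_dvd_of_le hRN
    refine dvd_trans ?_ h3
    obtain ⟨j, hj⟩ := Nat.exists_eq_add_of_le h2
    rw [hj, pow_add, show (2:ℕ) ^ 3 = 2 * 4 by norm_num, mul_assoc] at h1
    have := Nat.eq_of_mul_eq_mul_left (by norm_num) h1
    rw [this]
    exact dvd_mul_right _ _
  have h20 : 20 ∣ Nat.card M := by
    have : Nat.Coprime 4 5 := by norm_num
    have := this.mul_dvd_of_dvd_of_dvd h4 h5
    simpa using this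
  have hidx := Subgroup.card_mul_index M
  rw [hA] at hidx
  obtain ⟨c, hc⟩ := h20
  rw [hc, mul_assoc] at hidx
  have hc3 : c * M.index = 3 := by omega
  have hi : M.index = 1 ∨ M.index = 3 := by
    have : M.index ∣ 3 := ⟨c, by rw [← hc3]; ring⟩
    exact (Nat.dvd_prime Nat.prime_three).mp this
  rcases hi with hi | hi
  · exact Subgroup.index_eq_one.mp hi
  · exfalso
    rcases (Subgroup.normalCore_normal M).eq_bot_or_eq_top with hb | ht
    · have hker := Subgroup.normalCore_eq_ker M
      have hinj : Function.Injective (MulAction.toPermHom ↥(alternatingGroup (Fin 5))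
          (↥(alternatingGroup (Fin 5)) ⧸ M)) := by
        rw [← MonoidHom.ker_eq_bot_iff, ← hker, hb]
      have hdvd := Subgroup.card_dvd_of_injective _ hinj
      rw [hA, Nat.card_perm] at hdvd
      have hq : Nat.card (↥(alternatingGroup (Fin 5)) ⧸ M) = 3 := hi
      rw [hq] at hdvd
      revert hdvd
      decide
    · have : M = ⊤ := by
        rw [eq_top_iff, ← ht]
        exact Subgroup.normalCore_le M
      rw [this, Subgroup.index_top] at hi
      omega

/-- Two generating overgroups rule out a unique maximal overgroup. -/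
theorem no_unique_alt (R : Sylow 2 ↥(alternatingGroup α)) (hS : Split (img R)) :
    ¬ ∃! M : Subgroup ↥(alternatingGroup α), IsCoatom M ∧ (R : Subgroup _) ≤ M := by
  rintro ⟨M, ⟨hM, hRM⟩, huniq⟩
  obtain ⟨H₁, H₂, h1, h2, h3, h4, h5⟩ := hS
  have key : ∀ H : Subgroup (Perm α), img R ≤ H → ¬ alternatingGroup α ≤ H →
      H ⊓ alternatingGroup α ≤ M.map (alternatingGroup α).subtype := by
    intro H hle hn
    have hR' : (R : Subgroup ↥(alternatingGroup α)) ≤ H.comap (alternatingGroup α).subtype := by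
      intro r hr
      exact hle ⟨r, hr, rfl⟩
    have hne : H.comap (alternatingGroup α).subtype ≠ ⊤ := by
      intro e
      apply hn
      intro a ha
      have : (⟨a, ha⟩ : ↥(alternatingGroup α)) ∈ H.comap (alternatingGroup α).subtype := by
        rw [e]
        exact Subgroup.mem_top _
      exact this
    obtain h | ⟨M', hM', hle'⟩ := eq_top_or_exists_le_coatom (H.comap (alternatingGroup α).subtype)
    · exact absurd h hne
    · have : M' = M := huniq M' ⟨hM', hR'.trans hle'⟩
      subst this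
      rintro g ⟨hg, hgA⟩
      exact ⟨⟨g, hgA⟩, hle' hg, rfl⟩
  apply hM.1
  rw [eq_top_iff]
  intro a _
  have h6 : (a : Perm α) ∈ M.map (alternatingGroup α).subtype :=
    (sup_le (key H₁ h1 h3) (key H₂ h2 h4)) (h5 a.2)
  obtain ⟨b, hb, e⟩ := h6
  have : b = a := Subtype.ext e
  rwa [← this]

theorem no_unique_perm (R : Sylow 2 (Perm α)) (hS : Split (R : Subgroup (Perm α)))
    (h2 : 2 ≤ Fintype.card α) :
    ¬ ∃! M : Subgroup (Perm α), IsCoatom M ∧ (R : Subgroup _) ≤ M := by
  rintro ⟨M, ⟨hM, hRM⟩, huniq⟩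
  obtain ⟨H₁, H₂, h1, h2', h3, h4, h5⟩ := hS
  have key : ∀ H : Subgroup (Perm α), (R : Subgroup (Perm α)) ≤ H → ¬ alternatingGroup α ≤ H →
      H ≤ M := by
    intro H hle hn
    have hne : H ≠ ⊤ := by
      rintro rfl
      exact hn le_top
    obtain h | ⟨M', hM', hle'⟩ := eq_top_or_exists_le_coatom H
    · exact absurd h hne
    · have : M' = M := huniq M' ⟨hM', hle.trans hle'⟩
      subst this
      exact hle'
  have hA : alternatingGroup α ≤ M :=
    h5.trans (sup_le (inf_le_left.trans (key H₁ h1 h3)) (inf_le_left.trans (key H₂ h2' h4)))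
  obtain ⟨u, v, huv, hs⟩ := exists_swap_mem R h2
  apply hM.1
  rw [eq_top_iff]
  intro g _
  rcases Int.units_eq_one_or (Perm.sign g) with h | h
  · exact hA h
  · have : g * swap u v ∈ alternatingGroup α := by
      rw [mem_alternatingGroup, Perm.sign_mul, h, sign_swap huv]
      rfl
    have h7 := M.mul_mem (hA this) (hRM hs)
    rwa [mul_assoc, swap_mul_self, mul_one] at h7

theorem unique_perm (R : Sylow 2 (Perm α)) (x : α)
    (hfix : ∀ r ∈ (R : Subgroup (Perm α)), r x = x)
    (htr : ∀ y z, y ≠ x → z ≠ x → ∃ r ∈ (R : Subgroup (Perm α)), r y = z)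
    (h2 : 2 ≤ Fintype.card α) :
    ∃! M : Subgroup (Perm α), IsCoatom M ∧ (R : Subgroup _) ≤ M := by
  have hnt : Nontrivial α := Fintype.one_lt_card_iff_nontrivial.mp (by omega)
  have hS : IsCoatom (stabilizer (Perm α) x) :=
    IsPreprimitive.isCoatom_stabilizer_of_isPreprimitive (G := Perm α) x
  refine ⟨stabilizer (Perm α) x, ⟨hS, fun r hr => hfix r hr⟩, ?_⟩
  rintro M ⟨hM, hRM⟩
  by_contra hne
  have hnle : ¬ M ≤ stabilizer (Perm α) x := by
    intro hle
    exact hne ((hM.le_iff_eq hS.1).mp hle).symm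
  obtain ⟨h, hhM, hx⟩ := SetLike.not_le_iff_exists.mp hnle
  obtain ⟨u, v, huv, hs⟩ := exists_swap_mem R h2
  exact hM.1 (subgroup_eq_top_of_isPreprimitive_of_isSwap_mem
    (prim_of M R hRM x htr hfix hhM hx) (swap u v) ⟨u, v, huv, rfl⟩ (hRM hs))

theorem unique_alt (R : Sylow 2 ↥(alternatingGroup α)) (x : α)
    (hfix : ∀ r ∈ img R, r x = x) (h3 : 3 ≤ Fintype.card α)
    (hbig : ∀ M : Subgroup ↥(alternatingGroup α), (R : Subgroup _) ≤ M →
      ∀ h ∈ M, (h : Perm α) x ≠ x → M = ⊤) :
    ∃! M : Subgroup ↥(alternatingGroup α), IsCoatom M ∧ (R : Subgroup _) ≤ M := by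
  have hnt : Nontrivial α := Fintype.one_lt_card_iff_nontrivial.mp (by omega)
  have hprim : IsPreprimitive ↥(alternatingGroup α) α :=
    alternatingGroup.isPreprimitive_of_three_le_card α (by rwa [Nat.card_eq_fintype_card])
  have hS : IsCoatom (stabilizer ↥(alternatingGroup α) x) :=
    IsPreprimitive.isCoatom_stabilizer_of_isPreprimitive (G := ↥(alternatingGroup α)) x
  refine ⟨stabilizer ↥(alternatingGroup α) x, ⟨hS, fun r hr => hfix _ ⟨r, hr, rfl⟩⟩, ?_⟩
  rintro M ⟨hM, hRM⟩
  by_contra hne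
  have hnle : ¬ M ≤ stabilizer ↥(alternatingGroup α) x := by
    intro hle
    exact hne ((hM.le_iff_eq hS.1).mp hle).symm
  obtain ⟨h, hhM, hx⟩ := SetLike.not_le_iff_exists.mp hnle
  exact hM.1 (hbig M hRM h hhM hx)

/-- The theorem, with the degree at least five. -/
theorem main (n : ℕ) (hn : 5 ≤ n) :
    (∀ R : Sylow 2 ↥(alternatingGroup (Fin n)),
      (∃! M : Subgroup ↥(alternatingGroup (Fin n)), IsCoatom M ∧ (R : Subgroup _) ≤ M) ↔
        ∃ k, 2 ≤ k ∧ n = 2 ^ k + 1) ∧
    (∀ R : Sylow 2 (Perm (Fin n)),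
      (∃! M : Subgroup (Perm (Fin n)), IsCoatom M ∧ (R : Subgroup _) ≤ M) ↔
        ∃ k, 2 ≤ k ∧ n = 2 ^ k + 1) := by
  have hcard : Fintype.card (Fin n) = n := Fintype.card_fin n
  constructor
  · intro R
    have hbig := alt_big R (by rw [hcard]; exact hn)
    constructor
    · intro hu
      by_contra hform
      apply no_unique_alt R _ hu
      apply split_of_big (img R) (img_pgroup R) hbig (by rw [hcard]; exact hn)
      rwa [hcard]
    · rintro ⟨k, hk, hform⟩
      obtain ⟨x, hfix, htr⟩ := fix_of_big (img R) (img_pgroup R) hbig hk (by rw [hcard]; exact hform)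
      apply unique_alt R x hfix (by rw [hcard]; omega)
      intro M hRM h hhM hx
      by_cases hk2 : k = 2
      · subst hk2
        have h5 : n = 5 := by omega
        subst h5
        exact five_case R x hfix htr M hRM hhM hx
      · have h9 : 9 ≤ n := by
          have : 2 ^ 3 ≤ 2 ^ k := Nat.pow_le_pow_right (by norm_num) (by omega)
          omega
        have hA := alt_le_of_moving R x hfix htr (by rw [hcard]; exact h9)
          (M.map (alternatingGroup (Fin n)).subtype) (Subgroup.map_mono hRM) ⟨h, hhM, rfl⟩ hx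
        rw [eq_top_iff]
        intro a _
        obtain ⟨b, hb, e⟩ := hA a.2
        have : b = a := Subtype.ext e
        rwa [← this]
  · intro R
    have hbig := perm_big R
    constructor
    · intro hu
      by_contra hform
      apply no_unique_perm R _ (by rw [hcard]; omega) hu
      apply split_of_big _ R.isPGroup' hbig (by rw [hcard]; exact hn)
      rwa [hcard]
    · rintro ⟨k, hk, hform⟩
      obtain ⟨x, hfix, htr⟩ := fix_of_big _ R.isPGroup' hbig hk (by rw [hcard]; exact hform)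
      exact unique_perm R x hfix htr (by rw [hcard]; omega)

end CfsgLib.H9.SylFinal
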