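import Mathlib

set_option autoImplicit false
set_option linter.unusedSectionVars false
set_option linter.unusedSimpArgs false

/-!
Polynomial functions on `ZMod p` with values in a field of characteristic `p`; the classification
of the translation-invariant subspaces.
-/

namespace CfsgLib.H9.WPoly

open Polynomial

variable {K : Type*} [Field K] {p : ℕ} [Fact p.Prime] [CharP K p]

variable (K p) in
/-- Evaluation of a polynomial on the points of `ZMod p`. -/
noncomputable def ev : K[X] →ₗ[K] (ZMod p → K) :=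
  LinearMap.pi (fun j => Polynomial.leval (ZMod.cast j : K))

theorem ev_apply (P : K[X]) (j : ZMod p) : ev K p P j = P.eval (ZMod.cast j : K) := rfl

theorem cast_injective : Function.Injective (fun j : ZMod p => (ZMod.cast j : K)) := by
  intro a b h
  apply ZMod.castHom_injective K
  simpa using h

theorem cast_sub' (a b : ZMod p) : (ZMod.cast (a - b) : K) = ZMod.cast a - ZMod.cast b :=
  ZMod.cast_sub (dvd_refl p) a b

theorem cast_add' (a b : ZMod p) : (ZMod.cast (a + b) : K) = ZMod.cast a + ZMod.cast b :=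
  ZMod.cast_add (dvd_refl p) a b

theorem cast_mul' (a b : ZMod p) : (ZMod.cast (a * b) : K) = ZMod.cast a * ZMod.cast b :=
  ZMod.cast_mul (dvd_refl p) a b

theorem cast_one' : (ZMod.cast (1 : ZMod p) : K) = 1 :=
  ZMod.cast_one (dvd_refl p)

theorem cast_zero' : (ZMod.cast (0 : ZMod p) : K) = 0 :=
  ZMod.cast_zero

/-- A polynomial of degree `< p` vanishing on `ZMod p` is zero. -/
theorem eq_zero_of_ev_eq_zero {P : K[X]} (hd : P.degree < p) (h : ev K p P = 0) : P = 0 := by
  refine Polynomial.eq_zero_of_degree_lt_of_eval_index_eq_zero (s := (Finset.univ : Finset (ZMod p)))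
    (v := fun j : ZMod p => (ZMod.cast j : K)) (cast_injective.injOn) ?_ ?_
  · simpa [Finset.card_univ, ZMod.card] using hd
  · intro j _
    exact congrFun h j

theorem ev_injOn {P Q : K[X]} (hP : P.degree < p) (hQ : Q.degree < p) (h : ev K p P = ev K p Q) :
    P = Q := by
  have h0 : P - Q = 0 := by
    apply eq_zero_of_ev_eq_zero
    · exact lt_of_le_of_lt (degree_sub_le P Q) (max_lt hP hQ)
    · rw [map_sub, h, sub_self]
  exact sub_eq_zero.mp h0

variable (K p) in
/-- The polynomial functions of degree `< r`. -/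
noncomputable def W (r : ℕ) : Submodule K (ZMod p → K) := (degreeLT K r).map (ev K p)

theorem mem_W {r : ℕ} {f : ZMod p → K} : f ∈ W K p r ↔ ∃ P : K[X], P.degree < r ∧ ev K p P = f := by
  simp [W, mem_degreeLT]

theorem W_mono {r s : ℕ} (h : r ≤ s) : W K p r ≤ W K p s := by
  rintro f hf
  obtain ⟨P, hP, rfl⟩ := mem_W.mp hf
  refine mem_W.mpr ⟨P, lt_of_lt_of_le hP (by exact_mod_cast h), rfl⟩

theorem W_zero : W K p 0 = ⊥ := by
  rw [eq_bot_iff]
  intro f hf
  obtain ⟨P, hP, rfl⟩ := mem_W.mp hf
  have : P = 0 := by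
    rw [← degree_eq_bot]
    simpa using hP
  simp [this]

theorem ev_mem_W {P : K[X]} {r : ℕ} (h : P.degree < r) : ev K p P ∈ W K p r := mem_W.mpr ⟨P, h, rfl⟩

theorem finrank_W {r : ℕ} (hr : r ≤ p) : Module.finrank K (W K p r) = r := by
  have hinj : Function.Injective ((ev K p).domRestrict (degreeLT K r)) := by
    intro P Q h
    apply Subtype.ext
    have hP : (P : K[X]).degree < r := mem_degreeLT.mp P.2
    have hQ : (Q : K[X]).degree < r := mem_degreeLT.mp Q.2
    have hr' : ((r : ℕ) : WithBot ℕ) ≤ (p : WithBot ℕ) := by exact_mod_cast hr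
    exact ev_injOn (lt_of_lt_of_le hP hr') (lt_of_lt_of_le hQ hr') h
  have h1 := LinearMap.finrank_range_of_inj hinj
  rw [LinearMap.range_domRestrict] at h1
  rw [W, h1, (degreeLTEquiv K r).finrank_eq, Module.finrank_fin_fun]

theorem W_p : W K p p = ⊤ := by
  apply Submodule.eq_top_of_finrank_eq
  rw [finrank_W le_rfl, Module.finrank_fintype_fun_eq_card, ZMod.card]

theorem mem_W_p (f : ZMod p → K) : f ∈ W K p p := by rw [W_p]; trivial

/-- Every function is a polynomial function of degree `< p`. -/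
theorem exists_ev (f : ZMod p → K) : ∃ P : K[X], P.degree < p ∧ ev K p P = f := mem_W.mp (mem_W_p f)

variable (K p) in
/-- The shift `f ↦ (j ↦ f (j - 1))`. -/
noncomputable def T : (ZMod p → K) →ₗ[K] (ZMod p → K) where
  toFun f j := f (j - 1)
  map_add' _ _ := rfl
  map_smul' _ _ := rfl

variable (K p) in
/-- The difference operator. -/
noncomputable def N : (ZMod p → K) →ₗ[K] (ZMod p → K) := T K p - LinearMap.id

theorem N_apply (f : ZMod p → K) (j : ZMod p) : N K p f j = f (j - 1) - f j := rfl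

theorem N_ev (P : K[X]) : N K p (ev K p P) = ev K p (P.comp (X - C 1) - P) := by
  funext j
  rw [N_apply, map_sub, Pi.sub_apply, ev_apply, ev_apply, ev_apply, eval_comp]
  simp [cast_sub', cast_one']

theorem degree_shift_lt {P : K[X]} {r : ℕ} (hP : P.degree < (r + 1 : ℕ)) :
    (P.comp (X - C 1) - P).degree < r := by
  by_cases h0 : P = 0
  · simp [h0, WithBot.bot_lt_coe]
  have hnd : (X - C (1 : K)).natDegree = 1 := natDegree_X_sub_C 1
  have hlc : (X - C (1 : K)).leadingCoeff = 1 := leadingCoeff_X_sub_C 1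
  have hd : (P.comp (X - C 1)).natDegree = P.natDegree := by
    rw [natDegree_comp, hnd, mul_one]
  have hcomp0 : P.comp (X - C 1) ≠ 0 := by
    intro h
    apply h0
    have h1 : (P.comp (X - C 1)).leadingCoeff = P.leadingCoeff := by
      rw [leadingCoeff_comp (by rw [hnd]; exact one_ne_zero), hlc, one_pow, mul_one]
    rw [h, leadingCoeff_zero] at h1
    exact leadingCoeff_eq_zero.mp h1.symm
  have hdeg : (P.comp (X - C 1)).degree = P.degree := by
    rw [degree_eq_natDegree hcomp0, degree_eq_natDegree h0, hd]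
  have hlc' : (P.comp (X - C 1)).leadingCoeff = P.leadingCoeff := by
    rw [leadingCoeff_comp (by rw [hnd]; exact one_ne_zero), hlc, one_pow, mul_one]
  have hlt := degree_sub_lt_left hdeg hcomp0 hlc'
  rw [hdeg] at hlt
  refine lt_of_lt_of_le hlt ?_
  rw [degree_eq_natDegree h0] at hP ⊢
  have : P.natDegree < r + 1 := by exact_mod_cast hP
  exact_mod_cast Nat.lt_succ_iff.mp this

theorem N_mem_W {f : ZMod p → K} {r : ℕ} (hf : f ∈ W K p (r + 1)) : N K p f ∈ W K p r := by
  obtain ⟨P, hP, rfl⟩ := mem_W.mp hf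
  rw [N_ev]
  exact ev_mem_W (degree_shift_lt hP)

theorem mem_W_one_iff {f : ZMod p → K} : f ∈ W K p 1 ↔ ∃ c : K, f = fun _ => c := by
  constructor
  · intro hf
    obtain ⟨P, hP, rfl⟩ := mem_W.mp hf
    have h0 : P.degree ≤ 0 := Nat.WithBot.lt_one_iff_le_zero.mp (by simpa using hP)
    refine ⟨P.coeff 0, ?_⟩
    funext j
    rw [ev_apply, eq_C_of_degree_le_zero h0]
    simp
  · rintro ⟨c, rfl⟩
    refine mem_W.mpr ⟨C c, ?_, ?_⟩
    · exact lt_of_le_of_lt degree_C_le (by norm_num)
    · funext j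
      simp [ev_apply]

theorem N_eq_zero_iff {f : ZMod p → K} : N K p f = 0 ↔ f ∈ W K p 1 := by
  rw [mem_W_one_iff]
  constructor
  · intro h
    have h1 : ∀ j, f (j - 1) = f j := fun j => sub_eq_zero.mp (congrFun h j)
    have h2 : ∀ n : ℕ, f (n : ZMod p) = f 0 := by
      intro n
      induction n with
      | zero => simp
      | succ n ih =>
        have := h1 ((n + 1 : ℕ) : ZMod p)
        rw [← this, ← ih]
        congr 1
        push_cast
        ring
    refine ⟨f 0, ?_⟩
    funext j
    have := h2 j.val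
    rwa [ZMod.natCast_zmod_val] at this
  · rintro ⟨c, rfl⟩
    funext j
    simp [N_apply]

theorem map_N_eq {r : ℕ} (hr : r + 1 ≤ p) : (W K p (r + 1)).map (N K p) = W K p r := by
  apply Submodule.eq_of_le_of_finrank_eq
  · rintro _ ⟨f, hf, rfl⟩
    exact N_mem_W hf
  · have h1 := LinearMap.finrank_range_add_finrank_ker ((N K p).domRestrict (W K p (r + 1)))
    rw [LinearMap.range_domRestrict, LinearMap.ker_domRestrict] at h1
    have hker : LinearMap.ker (N K p) = W K p 1 := by
      ext f
      rw [LinearMap.mem_ker, N_eq_zero_iff]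
    rw [hker] at h1
    have h2 : Module.finrank K ((W K p 1).comap (W K p (r + 1)).subtype) = 1 := by
      rw [(Submodule.comapSubtypeEquivOfLe (W_mono (by omega))).finrank_eq,
        finrank_W (by have := (Fact.out : p.Prime).one_lt; omega)]
    rw [h2, finrank_W hr] at h1
    rw [finrank_W (by omega)]
    omega

theorem mem_W_succ_iff {f : ZMod p → K} {r : ℕ} (hr : r + 1 ≤ p) :
    f ∈ W K p (r + 1) ↔ N K p f ∈ W K p r := by
  refine ⟨N_mem_W, fun h => ?_⟩
  rw [← map_N_eq hr] at h
  obtain ⟨g, hg, hgf⟩ := h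
  have h0 : N K p (f - g) = 0 := by rw [map_sub, hgf, sub_self]
  have h1 := N_eq_zero_iff.mp h0
  have h2 : f - g ∈ W K p (r + 1) := W_mono (by omega) h1
  have := Submodule.add_mem _ h2 hg
  simpa using this

/-- If `Y` contains `W r` and a function of exact degree `r`, it contains `W (r+1)`. -/
theorem W_succ_le {Y : Submodule K (ZMod p → K)} {r : ℕ} (hY : W K p r ≤ Y) {f : ZMod p → K}
    (hf : f ∈ Y) (hf1 : f ∈ W K p (r + 1)) (hf2 : f ∉ W K p r) : W K p (r + 1) ≤ Y := by
  obtain ⟨F, hF, rfl⟩ := mem_W.mp hf1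
  have hc : F.coeff r ≠ 0 := by
    intro hc
    apply hf2
    apply ev_mem_W
    rw [degree_lt_iff_coeff_zero]
    intro m hm
    rcases hm.eq_or_lt with rfl | hm
    · exact hc
    · exact (degree_lt_iff_coeff_zero F _).mp hF m hm
  intro g hg
  obtain ⟨Q, hQ, rfl⟩ := mem_W.mp hg
  set c := Q.coeff r / F.coeff r with hcdef
  have hd : (Q - C c * F).degree < r := by
    rw [degree_lt_iff_coeff_zero]
    intro m hm
    rcases hm.eq_or_lt with rfl | hm
    · simp only [coeff_sub, coeff_C_mul, hcdef]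
      field_simp
      ring
    · simp only [coeff_sub, coeff_C_mul]
      rw [(degree_lt_iff_coeff_zero Q _).mp hQ m hm, (degree_lt_iff_coeff_zero F _).mp hF m hm]
      ring
  have h1 : ev K p (Q - C c * F) ∈ Y := hY (ev_mem_W hd)
  have h2 : ev K p Q = ev K p (Q - C c * F) + c • ev K p F := by
    rw [← map_smul, ← map_add, smul_eq_C_mul]
    congr 1
    ring
  rw [h2]
  exact Y.add_mem h1 (Y.smul_mem c hf)

/-- A `N`-invariant subspace containing a function of exact degree `r` contains `W (r + 1)`. -/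
theorem W_le_of_mem {Y : Submodule K (ZMod p → K)} (hY : ∀ f ∈ Y, N K p f ∈ Y) :
    ∀ (r : ℕ) (f : ZMod p → K), r + 1 ≤ p → f ∈ Y → f ∈ W K p (r + 1) → f ∉ W K p r →
      W K p (r + 1) ≤ Y := by
  intro r
  induction r with
  | zero =>
    intro f _ hf hf1 hf2
    apply W_succ_le _ hf hf1 hf2
    rw [W_zero]
    exact bot_le
  | succ r ih =>
    intro f hr hf hf1 hf2
    have h1 : N K p f ∈ W K p (r + 1) := N_mem_W hf1
    have h2 : N K p f ∉ W K p r := fun h => hf2 ((mem_W_succ_iff (by omega)).mpr h)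
    have h3 := ih (N K p f) (by omega) (hY f hf) h1 h2
    exact W_succ_le h3 hf hf1 hf2

/-- **Classification** of the `N`-invariant subspaces. -/
theorem eq_W_of_invariant {Y : Submodule K (ZMod p → K)} (hY : ∀ f ∈ Y, N K p f ∈ Y) :
    ∃ r : ℕ, r ≤ p ∧ Y = W K p r := by
  classical
  have hex : ∃ r, Y ≤ W K p r := ⟨p, by rw [W_p]; exact le_top⟩
  refine ⟨Nat.find hex, Nat.find_min' hex (by rw [W_p]; exact le_top), ?_⟩
  have hspec := Nat.find_spec hex
  have hle : Nat.find hex ≤ p := Nat.find_min' hex (by rw [W_p]; exact le_top)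
  rcases h : Nat.find hex with _ | r
  · rw [h] at hspec
    rw [W_zero] at hspec ⊢
    exact le_bot_iff.mp hspec
  · rw [h] at hspec hle
    have hmin : ¬ Y ≤ W K p r := Nat.find_min hex (by omega)
    obtain ⟨f, hf, hf2⟩ := SetLike.not_le_iff_exists.mp hmin
    exact le_antisymm hspec (W_le_of_mem hY r f hle hf (hspec hf) hf2)

/-- Kernel-free form: for a subspace stable under the shift. -/
theorem eq_W_of_shift_invariant {Y : Submodule K (ZMod p → K)}
    (hY : ∀ f ∈ Y, (fun j => f (j - 1)) ∈ Y) : ∃ r : ℕ, r ≤ p ∧ Y = W K p r := by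
  apply eq_W_of_invariant
  intro f hf
  exact Y.sub_mem (hY f hf) hf

end CfsgLib.H9.WPoly
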